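import Cfsg.Agent.Lib.Isometry.Inner
set_option autoImplicit false

/-! Isometry extension from orthogonal bases, and the basic facts about coherence systems. -/

namespace Cfsg.Agent.Lib.Isometry.Coherence

open scoped ComplexConjugate Classical
open Cfsg.Agent.Lib.Isometry.Inner
open Cfsg.Agent.Lib.Induced.Basic (classInner_add_left classInner_add_right classInner_sub_left
  classInner_sub_right classInner_smul_left classInner_smul_right classInner_conj_symm)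
open Cfsg.Agent.Lib.Characters.Basic (classInner_zero_left classInner_zero_right classInner_sum_left
  classInner_sum_right)

universe u v w
variable {L : Type u} [Group L] [Fintype L] {G : Type v} [Group G] [Fintype G]

/-! ### The linear extension of a map given on an orthogonal set -/

/-- Linear extension of `f` from the orthogonal set `S`, zero on its orthogonal complement. -/
noncomputable def linExt (S : Finset (L → ℂ)) (f : (L → ℂ) → (G → ℂ)) : (L → ℂ) →ₗ[ℂ] (G → ℂ) where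
  toFun α := ∑ χ ∈ S, (Cfsg.classInner α χ / Cfsg.classInner χ χ) • f χ
  map_add' a b := by simp only [classInner_add_left, add_div, add_smul, Finset.sum_add_distrib]
  map_smul' c a := by
    simp only [classInner_smul_left, RingHom.id_apply, Finset.smul_sum, smul_smul, mul_div_assoc]

theorem linExt_apply {S : Finset (L → ℂ)} (f : (L → ℂ) → (G → ℂ))
    (horth : ∀ χ ∈ S, ∀ φ ∈ S, χ ≠ φ → Cfsg.classInner χ φ = 0)
    (hne : ∀ χ ∈ S, χ ≠ 0) {χ : L → ℂ} (hχ : χ ∈ S) : linExt S f χ = f χ := by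
  show ∑ φ ∈ S, (Cfsg.classInner χ φ / Cfsg.classInner φ φ) • f φ = f χ
  rw [Finset.sum_eq_single χ]
  · rw [div_self (fun h => hne χ hχ (eq_zero_of_classInner_self h)), one_smul]
  · intro φ hφ h; rw [horth χ hχ φ hφ h.symm, zero_div, zero_smul]
  · intro h; exact absurd hχ h

theorem linearMap_gen {S : Set (L → ℂ)} (T : (L → ℂ) →ₗ[ℂ] (G → ℂ))
    (hgen : ∀ χ ∈ S, Cfsg.IsGeneralizedCharacter G (T χ)) {α : L → ℂ} (hα : α ∈ Cfsg.zspan S) :
    Cfsg.IsGeneralizedCharacter G (T α) := by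
  induction hα using Submodule.span_induction with
  | mem x hx => exact hgen x hx
  | zero => rw [map_zero]; exact gen_zero
  | add x y _ _ hx hy => rw [map_add]; exact gen_add hx hy
  | smul n x _ hx => rw [map_zsmul]; exact gen_zsmul hx n

theorem isometry_linearMap {S : Set (L → ℂ)} (T : (L → ℂ) →ₗ[ℂ] (G → ℂ))
    (hgen : ∀ χ ∈ S, Cfsg.IsGeneralizedCharacter G (T χ))
    (hgram : ∀ χ ∈ S, ∀ φ ∈ S, Cfsg.classInner (T χ) (T φ) = Cfsg.classInner χ φ) :
    Cfsg.IsLinearIsometryOn (Cfsg.zspan S) T := by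
  refine ⟨fun α _ β _ => map_add T α β, fun α _ n => map_zsmul T n α, ?_,
    fun α hα => linearMap_gen T hgen hα⟩
  intro α hα β hβ
  have h1 : ∀ φ ∈ S, Cfsg.classInner (T α) (T φ) = Cfsg.classInner α φ := by
    intro φ hφ
    induction hα using Submodule.span_induction with
    | mem x hx => exact hgram x hx φ hφ
    | zero => rw [map_zero, classInner_zero_left, classInner_zero_left]
    | add x y _ _ hx hy => rw [map_add, classInner_add_left, classInner_add_left, hx, hy]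
    | smul n x _ hx =>
      rw [map_zsmul, ← Int.cast_smul_eq_zsmul ℂ, ← Int.cast_smul_eq_zsmul ℂ,
        classInner_smul_left, classInner_smul_left, hx]
  induction hβ using Submodule.span_induction with
  | mem x hx => exact h1 x hx
  | zero => rw [map_zero, classInner_zero_right, classInner_zero_right]
  | add x y _ _ hx hy => rw [map_add, classInner_add_right, classInner_add_right, hx, hy]
  | smul n x _ hx =>
    rw [map_zsmul, ← Int.cast_smul_eq_zsmul ℂ, ← Int.cast_smul_eq_zsmul ℂ,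
      classInner_smul_right, classInner_smul_right, hx]

theorem finite_of_orthogonal {S : Set (L → ℂ)}
    (horth : ∀ χ ∈ S, ∀ φ ∈ S, χ ≠ φ → Cfsg.classInner χ φ = 0) (hne : ∀ χ ∈ S, χ ≠ 0) :
    S.Finite := by
  have li : LinearIndependent ℂ (fun χ : S => (χ : L → ℂ)) := by
    rw [linearIndependent_iff']
    intro s g hg i hi
    have := congrArg (fun v => Cfsg.classInner v (i : L → ℂ)) hg
    simp only [classInner_sum_left, classInner_zero_left, classInner_smul_left] at this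
    rw [Finset.sum_eq_single i (fun j _ hj => by
      rw [horth j j.2 i i.2 (fun e => hj (Subtype.ext e)), mul_zero]) (fun h => absurd hi h)] at this
    rcases mul_eq_zero.1 this with h | h
    · exact h
    · exact absurd (eq_zero_of_classInner_self h) (hne i i.2)
  have := li.finite
  exact Set.toFinite S

/-! ### Maps linear on a sublattice -/

variable {S : Set (L → ℂ)} {A : Set L} {τ : (L → ℂ) → (G → ℂ)}

theorem iso_zero (hτ : Cfsg.IsLinearIsometryOn (Cfsg.zspanOn S A) τ) : τ 0 = 0 := by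
  have h := hτ.2.1 0 (zspanOnMod S A).zero_mem 0
  simpa using h

theorem iso_neg (hτ : Cfsg.IsLinearIsometryOn (Cfsg.zspanOn S A) τ) {α : L → ℂ}
    (hα : α ∈ Cfsg.zspanOn S A) : τ (-α) = -τ α := by
  have h := hτ.2.1 α hα (-1)
  simpa using h

theorem iso_sub (hτ : Cfsg.IsLinearIsometryOn (Cfsg.zspanOn S A) τ) {α β : L → ℂ}
    (hα : α ∈ Cfsg.zspanOn S A) (hβ : β ∈ Cfsg.zspanOn S A) : τ (α - β) = τ α - τ β := by
  rw [sub_eq_add_neg, hτ.1 α hα (-β) ((zspanOnMod S A).neg_mem hβ), iso_neg hτ hβ, sub_eq_add_neg]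

theorem zspan_sub {X : Type w} {S : Set (X → ℂ)} {α β : X → ℂ} (hα : α ∈ Cfsg.zspan S)
    (hβ : β ∈ Cfsg.zspan S) : α - β ∈ Cfsg.zspan S := (Submodule.span ℤ S).sub_mem hα hβ

theorem zspan_smul {X : Type w} {S : Set (X → ℂ)} {α : X → ℂ} (n : ℤ) (hα : α ∈ Cfsg.zspan S) :
    (n : ℂ) • α ∈ Cfsg.zspan S := by
  rw [Int.cast_smul_eq_zsmul]; exact (Submodule.span ℤ S).smul_mem n hα

theorem iso_smul (hτ : Cfsg.IsLinearIsometryOn (Cfsg.zspanOn S A) τ) {α : L → ℂ}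
    (hα : α ∈ Cfsg.zspanOn S A) (n : ℤ) : τ ((n : ℂ) • α) = (n : ℂ) • τ α := by
  rw [Int.cast_smul_eq_zsmul, Int.cast_smul_eq_zsmul, hτ.2.1 α hα n]

/-- A linear map agreeing with `τ` on generators agrees on their integer span. -/
theorem agree_span (hτ : Cfsg.IsLinearIsometryOn (Cfsg.zspanOn S A) τ)
    (T : (L → ℂ) →ₗ[ℂ] (G → ℂ)) {D : Set (L → ℂ)} (hD : D ⊆ Cfsg.zspanOn S A)
    (h : ∀ α ∈ D, T α = τ α) {α : L → ℂ} (hα : α ∈ Cfsg.zspan D) : T α = τ α := by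
  have hle : Submodule.span ℤ D ≤ zspanOnMod S A := Submodule.span_le.2 hD
  induction hα using Submodule.span_induction with
  | mem x hx => exact h x hx
  | zero => rw [map_zero, iso_zero hτ]
  | add x y hx hy ihx ihy => rw [map_add, ihx, ihy, hτ.1 x (hle hx) y (hle hy)]
  | smul n x hx ihx => rw [map_zsmul, ihx, hτ.2.1 x (hle hx) n]

theorem agree_of_smul (hτ : Cfsg.IsLinearIsometryOn (Cfsg.zspanOn S A) τ)
    (T : (L → ℂ) →ₗ[ℂ] (G → ℂ)) {α : L → ℂ} (hα : α ∈ Cfsg.zspanOn S A) {n : ℤ} (hn : n ≠ 0)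
    (h : T ((n : ℂ) • α) = τ ((n : ℂ) • α)) : T α = τ α := by
  rw [map_smul, iso_smul hτ hα] at h
  exact smul_right_injective _ (Int.cast_ne_zero.2 hn) h

/-! ### Orthogonal families -/

theorem bessel {ι : Type w} (s : Finset ι) (e : ι → G → ℂ) (N c : ι → ℝ) (v : G → ℂ)
    (horth : ∀ i ∈ s, ∀ j ∈ s, i ≠ j → Cfsg.classInner (e i) (e j) = 0)
    (hnorm : ∀ i ∈ s, Cfsg.classInner (e i) (e i) = (N i : ℂ)) (hN : ∀ i ∈ s, N i ≠ 0)
    (hc : ∀ i ∈ s, Cfsg.classInner v (e i) = (c i : ℂ)) :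
    Cfsg.classInner (v - ∑ i ∈ s, ((c i / N i : ℝ) : ℂ) • e i)
        (v - ∑ i ∈ s, ((c i / N i : ℝ) : ℂ) • e i) =
      Cfsg.classInner v v - ((∑ i ∈ s, c i ^ 2 / N i : ℝ) : ℂ) := by
  have h1 : ∀ j ∈ s, Cfsg.classInner (∑ i ∈ s, ((c i / N i : ℝ) : ℂ) • e i) (e j) = (c j : ℂ) := by
    intro j hj
    rw [classInner_sum_left, Finset.sum_eq_single j]
    · rw [classInner_smul_left, hnorm j hj, ← Complex.ofReal_mul, div_mul_cancel₀ _ (hN j hj)]
    · intro i hi hij; rw [classInner_smul_left, horth i hi j hj hij, mul_zero]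
    · intro h; exact absurd hj h
  have h2 : ∀ w : G → ℂ, (∀ j ∈ s, Cfsg.classInner w (e j) = (c j : ℂ)) →
      Cfsg.classInner w (∑ i ∈ s, ((c i / N i : ℝ) : ℂ) • e i) =
        ((∑ i ∈ s, c i ^ 2 / N i : ℝ) : ℂ) := by
    intro w hw
    rw [classInner_sum_right, Complex.ofReal_sum]
    refine Finset.sum_congr rfl fun i hi => ?_
    rw [classInner_smul_right, Complex.conj_ofReal, hw i hi, ← Complex.ofReal_mul]
    congr 1; ring
  set Y := ∑ i ∈ s, ((c i / N i : ℝ) : ℂ) • e i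
  rw [classInner_sub_left, classInner_sub_right, classInner_sub_right, h2 v hc, h2 Y h1,
    ← classInner_conj_symm v Y, h2 v hc, Complex.conj_ofReal]
  ring

theorem sum_sq_ge_abs {ι : Type w} (s : Finset ι) (x : ι → ℤ) :
    |∑ i ∈ s, x i| ≤ ∑ i ∈ s, x i ^ 2 :=
  (Finset.abs_sum_le_sum_abs _ _).trans (Finset.sum_le_sum fun i _ => by
    rw [← sq_abs]
    rcases (abs_nonneg (x i)).eq_or_lt with h | h
    · rw [← h]; norm_num
    · nlinarith)

theorem zero_one_of_sum_eq {ι : Type w} {s : Finset ι} {x : ι → ℤ}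
    (h : ∑ i ∈ s, x i ^ 2 ≤ ∑ i ∈ s, x i) : ∀ i ∈ s, x i = 0 ∨ x i = 1 := by
  intro i hi
  have h0 : ∀ j ∈ s, 0 ≤ x j ^ 2 - x j := fun j _ => by
    nlinarith [mul_self_nonneg (2 * x j - 1)]
  have h1 := Finset.single_le_sum h0 hi
  rw [Finset.sum_sub_distrib] at h1
  have h2 : x i * (x i - 1) = 0 := le_antisymm (by nlinarith) (by nlinarith [h0 i hi])
  rcases mul_eq_zero.1 h2 with h | h
  · exact Or.inl h
  · exact Or.inr (sub_eq_zero.1 h)

/-- Coefficient data of a generalized character along an orthonormal set of generalized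
characters. -/
theorem coeff_data {R : Finset (G → ℂ)}
    (hon : ∀ α ∈ R, ∀ β ∈ R, Cfsg.classInner α β = if α = β then 1 else 0)
    (hgen : ∀ α ∈ R, Cfsg.IsGeneralizedCharacter G α) {v : G → ℂ}
    (hv : Cfsg.IsGeneralizedCharacter G v) :
    ∃ x : (G → ℂ) → ℤ, (∀ r ∈ R, Cfsg.classInner v r = x r) ∧
      Cfsg.classInner v (∑ r ∈ R, r) = ((∑ r ∈ R, x r : ℤ) : ℂ) ∧
      Cfsg.classInner (v - ∑ r ∈ R, (x r : ℂ) • r) (v - ∑ r ∈ R, (x r : ℂ) • r) =
        Cfsg.classInner v v - ((∑ r ∈ R, x r ^ 2 : ℤ) : ℂ) := by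
  have hex : ∀ r, ∃ n : ℤ, r ∈ R → Cfsg.classInner v r = n := fun r => by
    by_cases hr : r ∈ R
    · obtain ⟨n, hn⟩ := classInner_gen_int hv (hgen r hr); exact ⟨n, fun _ => hn⟩
    · exact ⟨0, fun h => absurd h hr⟩
  choose x hx using hex
  refine ⟨x, hx, ?_, ?_⟩
  · rw [classInner_sum_right, Int.cast_sum]
    exact Finset.sum_congr rfl hx
  · have := bessel R id (fun _ => 1) (fun r => (x r : ℝ)) v
      (fun i hi j hj h => by simpa [h] using hon i hi j hj)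
      (fun i hi => by simpa using hon i hi i hi) (fun _ _ => one_ne_zero)
      (fun i hi => by simpa using hx i hi)
    simpa using this

/-! ### Coherence systems -/

section System
variable {R : (L → ℂ) → Finset (G → ℂ)}

theorem sys_gen (hS : Cfsg.IsCoherenceSystem S τ R) {χ : L → ℂ} (hχ : χ ∈ S) :
    Cfsg.IsGeneralizedCharacter L χ := gen_of_isCharacter (hS.isCharacter χ hχ)

theorem sys_ne_zero (hS : Cfsg.IsCoherenceSystem S τ R) {χ : L → ℂ} (hχ : χ ∈ S) : χ ≠ 0 := by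
  intro h
  refine hS.conj_ne χ hχ (funext fun x => ?_)
  simp [Cfsg.conjFun, h]

theorem apply_one_eq_zero {χ : L → ℂ} (hc : Cfsg.IsCharacter L χ) (h : χ 1 = 0) : χ = 0 := by
  funext x
  have := Characters.Basic.norm_apply_le hc x
  rw [h, norm_zero] at this
  simpa using this

theorem sys_one_ne_zero (hS : Cfsg.IsCoherenceSystem S τ R) {χ : L → ℂ} (hχ : χ ∈ S) : χ 1 ≠ 0 :=
  fun h => sys_ne_zero hS hχ (apply_one_eq_zero (hS.isCharacter χ hχ) h)

theorem sys_conj_one (hS : Cfsg.IsCoherenceSystem S τ R) {χ : L → ℂ} (hχ : χ ∈ S) :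
    Cfsg.conjFun χ 1 = χ 1 := Characters.Basic.conj_apply_one (hS.isCharacter χ hχ)

theorem sys_diff_mem (hS : Cfsg.IsCoherenceSystem S τ R) {χ : L → ℂ} (hχ : χ ∈ S) :
    χ - Cfsg.conjFun χ ∈ Cfsg.zspanOn S {1}ᶜ :=
  mem_zspanOn_one.2 ⟨zspan_sub (subset_zspan S hχ) (subset_zspan S (hS.conj_mem χ hχ)),
    by rw [Pi.sub_apply, sys_conj_one hS hχ, sub_self]⟩

theorem sys_orth_conj (hS : Cfsg.IsCoherenceSystem S τ R) {χ : L → ℂ} (hχ : χ ∈ S) :
    Cfsg.classInner χ (Cfsg.conjFun χ) = 0 :=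
  hS.orthogonal χ hχ _ (hS.conj_mem χ hχ) (hS.conj_ne χ hχ).symm

theorem sys_norm (hS : Cfsg.IsCoherenceSystem S τ R) {χ : L → ℂ} (hχ : χ ∈ S) :
    ∃ n : ℕ, 0 < n ∧ Cfsg.classInner χ χ = (n : ℂ) ∧ (R χ).card = 2 * n ∧
      Cfsg.classInner (Cfsg.conjFun χ) (Cfsg.conjFun χ) = (n : ℂ) := by
  obtain ⟨n, hn⟩ := Characters.Basic.exists_classInner_nat (hS.isCharacter χ hχ) (hS.isCharacter χ hχ)
  have hpos : 0 < n := Nat.pos_of_ne_zero fun h => sys_ne_zero hS hχ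
    (eq_zero_of_classInner_self (by rw [hn, h, Nat.cast_zero]))
  have hconj : Cfsg.classInner (Cfsg.conjFun χ) (Cfsg.conjFun χ) = (n : ℂ) := by
    rw [classInner_conjFun, hn, map_natCast]
  refine ⟨n, hpos, hn, ?_, hconj⟩
  have h := hS.isometry.2.2.1 _ (sys_diff_mem hS hχ) _ (sys_diff_mem hS hχ)
  rw [hS.sum_eq χ hχ, classInner_sub_left, classInner_sub_right, classInner_sub_right, hn, hconj,
    sys_orth_conj hS hχ, ← classInner_conj_symm χ (Cfsg.conjFun χ), sys_orth_conj hS hχ,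
    map_zero, classInner_sum_left] at h
  have h1 : ∀ a ∈ R χ, Cfsg.classInner a (∑ b ∈ R χ, b) = 1 := by
    intro a ha
    rw [classInner_sum_right, Finset.sum_eq_single a
      (fun b hb hne => by rw [hS.orthonormal χ hχ a ha b hb, if_neg hne.symm])
      (fun h => absurd ha h), hS.orthonormal χ hχ a ha a ha, if_pos rfl]
  rw [Finset.sum_congr rfl h1, Finset.sum_const, nsmul_eq_mul, mul_one] at h
  have : ((R χ).card : ℂ) = ((2 * n : ℕ) : ℂ) := by rw [h]; push_cast; ring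
  exact_mod_cast this

/-- `R φ` and `R χ` are orthogonal when `φ` is neither `χ` nor its conjugate. -/
theorem sys_disjoint (hS : Cfsg.IsCoherenceSystem S τ R) {χ φ : L → ℂ} (hχ : χ ∈ S) (hφ : φ ∈ S)
    (h1 : φ ≠ χ) (h2 : φ ≠ Cfsg.conjFun χ) :
    ∀ a ∈ R φ, ∀ b ∈ R χ, Cfsg.classInner a b = 0 :=
  hS.disjoint χ hχ φ hφ (hS.orthogonal φ hφ χ hχ h1)
    (hS.orthogonal φ hφ _ (hS.conj_mem χ hχ) h2)

theorem sum_R_orth (hS : Cfsg.IsCoherenceSystem S τ R) {χ φ : L → ℂ} (hχ : χ ∈ S) (hφ : φ ∈ S)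
    (h1 : φ ≠ χ) (h2 : φ ≠ Cfsg.conjFun χ) {b : G → ℂ} (hb : b ∈ R χ) :
    Cfsg.classInner (τ (φ - Cfsg.conjFun φ)) b = 0 := by
  rw [hS.sum_eq φ hφ, classInner_sum_left]
  exact Finset.sum_eq_zero fun a ha => sys_disjoint hS hχ hφ h1 h2 a ha b hb

/-- A generalized character whose inner product with `τ (χ - conj χ)` is the norm of `χ` and
which is no longer than `χ` lies in the span of `R χ`, with coefficients `0` and `1`. -/
theorem sys_project (hS : Cfsg.IsCoherenceSystem S τ R) {χ : L → ℂ} (hχ : χ ∈ S) {v : G → ℂ}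
    (hv : Cfsg.IsGeneralizedCharacter G v) {n : ℕ}
    (hin : Cfsg.classInner v (τ (χ - Cfsg.conjFun χ)) = (n : ℂ)) :
    ∃ x : (G → ℂ) → ℤ, (∀ r ∈ R χ, Cfsg.classInner v r = x r) ∧ (n : ℤ) ≤ ∑ r ∈ R χ, x r ^ 2 ∧
      ∑ r ∈ R χ, x r = n ∧
      Cfsg.classInner (v - ∑ r ∈ R χ, (x r : ℂ) • r) (v - ∑ r ∈ R χ, (x r : ℂ) • r) =
        Cfsg.classInner v v - ((∑ r ∈ R χ, x r ^ 2 : ℤ) : ℂ) := by
  obtain ⟨x, hx, hs, hp⟩ := coeff_data (hS.orthonormal χ hχ) (hS.virtual χ hχ) hv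
  rw [hS.sum_eq χ hχ, hs] at hin
  have hsum : ∑ r ∈ R χ, x r = n := by exact_mod_cast hin
  refine ⟨x, hx, ?_, hsum, hp⟩
  exact hsum ▸ (le_abs_self _).trans (sum_sq_ge_abs (R χ) x)

end System

/-- Assembling coherence from images of the members of a finite orthogonal set. -/
theorem coherent_of_images {S₀ : Finset (L → ℂ)}
    (horth : ∀ χ ∈ S₀, ∀ φ ∈ S₀, χ ≠ φ → Cfsg.classInner χ φ = 0) (hne : ∀ χ ∈ S₀, χ ≠ 0)
    (f : (L → ℂ) → (G → ℂ)) (hgen : ∀ χ ∈ S₀, Cfsg.IsGeneralizedCharacter G (f χ))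
    (hgram : ∀ χ ∈ S₀, ∀ φ ∈ S₀, Cfsg.classInner (f χ) (f φ) = Cfsg.classInner χ φ)
    (hex : ∃ α ∈ Cfsg.zspanOn (↑S₀ : Set (L → ℂ)) A, α ≠ 0)
    (hagree : ∀ T : (L → ℂ) →ₗ[ℂ] (G → ℂ), (∀ χ ∈ S₀, T χ = f χ) →
      ∀ α ∈ Cfsg.zspanOn (↑S₀ : Set (L → ℂ)) A, T α = τ α) :
    Cfsg.IsCoherent (↑S₀ : Set (L → ℂ)) A τ := by
  have happ : ∀ χ ∈ S₀, linExt S₀ f χ = f χ := fun χ h => linExt_apply f horth hne h
  refine ⟨hex, linExt S₀ f, isometry_linearMap _ (fun χ hχ => ?_) (fun χ hχ φ hφ => ?_),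
    hagree _ happ⟩
  · rw [happ χ (Finset.mem_coe.1 hχ)]; exact hgen χ hχ
  · rw [happ χ (Finset.mem_coe.1 hχ), happ φ (Finset.mem_coe.1 hφ)]; exact hgram χ hχ φ hφ

/-- A conjugation-closed member gives a nonzero element of the degree-zero lattice. -/
theorem exists_ne_zero_zspanOn {S' : Set (L → ℂ)} {R : (L → ℂ) → Finset (G → ℂ)}
    (hS : Cfsg.IsCoherenceSystem S τ R) {χ : L → ℂ} (hχ : χ ∈ S) (h1 : χ ∈ S')
    (h2 : Cfsg.conjFun χ ∈ S') : ∃ α ∈ Cfsg.zspanOn S' {1}ᶜ, α ≠ 0 :=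
  ⟨χ - Cfsg.conjFun χ, mem_zspanOn_one.2 ⟨zspan_sub (subset_zspan S' h1) (subset_zspan S' h2),
    by rw [Pi.sub_apply, sys_conj_one hS hχ, sub_self]⟩,
    fun h => hS.conj_ne χ hχ (sub_eq_zero.1 h).symm⟩

end Cfsg.Agent.Lib.Isometry.Coherence
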