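import Mathlib
import Cfsg.Prelude.Def_OddOrderChar
import Cfsg.Agent.Lib.Characters.Basic
set_option autoImplicit false

/-! Generalized characters as integer combinations of irreducibles; norm one; integer spans. -/

namespace Cfsg.Agent.Lib.Isometry.Inner

open scoped ComplexConjugate Classical
open Cfsg.Agent.Lib.Induced.Basic (classInner_add_left classInner_add_right classInner_sub_left
  classInner_sub_right classInner_smul_left classInner_smul_right classInner_conj_symm)
open Cfsg.Agent.Lib.Characters.Basic (classInner_zero_left classInner_zero_right classInner_sum_left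
  classInner_sum_right)

universe u v
variable {G : Type u} [Group G]

theorem gen_of_isCharacter {χ : G → ℂ} (h : Cfsg.IsCharacter G χ) :
    Cfsg.IsGeneralizedCharacter G χ :=
  ⟨χ, 0, h, Characters.Basic.isCharacter_zero, (sub_zero χ).symm⟩

theorem gen_of_irr {χ : G → ℂ} (h : Cfsg.IsIrrCharacter G χ) : Cfsg.IsGeneralizedCharacter G χ :=
  gen_of_isCharacter (Characters.Basic.IsCharacter_of_isIrrCharacter h)

theorem gen_zero : Cfsg.IsGeneralizedCharacter G (0 : G → ℂ) :=
  gen_of_isCharacter Characters.Basic.isCharacter_zero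

theorem gen_neg {θ : G → ℂ} (h : Cfsg.IsGeneralizedCharacter G θ) :
    Cfsg.IsGeneralizedCharacter G (-θ) := by
  obtain ⟨a, b, ha, hb, rfl⟩ := h
  exact ⟨b, a, hb, ha, neg_sub a b⟩

theorem gen_add {θ φ : G → ℂ} (h : Cfsg.IsGeneralizedCharacter G θ)
    (h' : Cfsg.IsGeneralizedCharacter G φ) : Cfsg.IsGeneralizedCharacter G (θ + φ) := by
  obtain ⟨a, b, ha, hb, rfl⟩ := h
  obtain ⟨c, d, hc, hd, rfl⟩ := h'
  exact ⟨a + c, b + d, Characters.Basic.isCharacter_add ha hc,
    Characters.Basic.isCharacter_add hb hd, by abel⟩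

theorem gen_sub {θ φ : G → ℂ} (h : Cfsg.IsGeneralizedCharacter G θ)
    (h' : Cfsg.IsGeneralizedCharacter G φ) : Cfsg.IsGeneralizedCharacter G (θ - φ) := by
  rw [sub_eq_add_neg]; exact gen_add h (gen_neg h')

theorem gen_zsmul {θ : G → ℂ} (h : Cfsg.IsGeneralizedCharacter G θ) (n : ℤ) :
    Cfsg.IsGeneralizedCharacter G (n • θ) := by
  induction n with
  | zero => rw [zero_smul]; exact gen_zero
  | succ k ih => rw [add_smul, one_smul]; exact gen_add ih h
  | pred k ih => rw [sub_smul, one_smul]; exact gen_sub ih h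

theorem gen_intCast_smul {θ : G → ℂ} (h : Cfsg.IsGeneralizedCharacter G θ) (n : ℤ) :
    Cfsg.IsGeneralizedCharacter G ((n : ℂ) • θ) := by
  rw [Int.cast_smul_eq_zsmul]; exact gen_zsmul h n

theorem gen_sum {ι : Type v} (s : Finset ι) {f : ι → G → ℂ}
    (h : ∀ i ∈ s, Cfsg.IsGeneralizedCharacter G (f i)) :
    Cfsg.IsGeneralizedCharacter G (∑ i ∈ s, f i) :=
  Finset.sum_induction f _ (fun _ _ => gen_add) gen_zero h

theorem gen_classFun {θ : G → ℂ} (h : Cfsg.IsGeneralizedCharacter G θ) :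
    Cfsg.IsClassFunction G θ := by
  obtain ⟨a, b, ha, hb, rfl⟩ := h
  intro g x
  simp [Characters.Basic.isClassFunction_of_isCharacter ha g x,
    Characters.Basic.isClassFunction_of_isCharacter hb g x]

theorem gen_conjFun [Finite G] {θ : G → ℂ} (h : Cfsg.IsGeneralizedCharacter G θ) :
    Cfsg.IsGeneralizedCharacter G (Cfsg.conjFun θ) := by
  obtain ⟨a, b, ha, hb, rfl⟩ := h
  exact ⟨_, _, Characters.Basic.isCharacter_conj ha, Characters.Basic.isCharacter_conj hb,
    funext fun x => map_sub (starRingEnd ℂ) (a x) (b x)⟩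

theorem conjFun_conjFun {X : Type u} (χ : X → ℂ) : Cfsg.conjFun (Cfsg.conjFun χ) = χ :=
  funext fun _ => Complex.conj_conj _

/-- The sign of a signed irreducible can be recognised at `1`. -/
theorem apply_one_ne_zero_of_signed {θ : G → ℂ}
    (h : Cfsg.IsIrrCharacter G θ ∨ Cfsg.IsIrrCharacter G (-θ)) : θ 1 ≠ 0 := by
  rcases h with h | h
  · exact Characters.Basic.apply_one_ne_zero ⟨θ, h⟩
  · intro h0
    exact Characters.Basic.apply_one_ne_zero ⟨-θ, h⟩ (by simp [h0])

theorem gen_of_signed {θ : G → ℂ}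
    (h : Cfsg.IsIrrCharacter G θ ∨ Cfsg.IsIrrCharacter G (-θ)) :
    Cfsg.IsGeneralizedCharacter G θ := by
  rcases h with h | h
  · exact gen_of_irr h
  · simpa using gen_neg (gen_of_irr h)

section inner
variable [Fintype G]

theorem classInner_neg_left (φ ψ : G → ℂ) : Cfsg.classInner (-φ) ψ = -Cfsg.classInner φ ψ := by
  rw [← neg_one_smul ℂ φ, classInner_smul_left, neg_one_mul]

theorem classInner_neg_right (φ ψ : G → ℂ) : Cfsg.classInner φ (-ψ) = -Cfsg.classInner φ ψ := by
  rw [← neg_one_smul ℂ ψ, classInner_smul_right, map_neg, map_one, neg_one_mul]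

theorem classInner_conjFun (φ ψ : G → ℂ) :
    Cfsg.classInner (Cfsg.conjFun φ) (Cfsg.conjFun ψ) = conj (Cfsg.classInner φ ψ) := by
  simp [Cfsg.classInner, Cfsg.conjFun, map_sum]

theorem classInner_self_re_nonneg (φ : G → ℂ) : 0 ≤ (Cfsg.classInner φ φ).re := by
  have : Cfsg.classInner φ φ = (((Nat.card G : ℝ)⁻¹ * ∑ g : G, Complex.normSq (φ g) : ℝ) : ℂ) := by
    simp [Cfsg.classInner, Complex.mul_conj]
  rw [this, Complex.ofReal_re]
  exact mul_nonneg (inv_nonneg.2 (Nat.cast_nonneg _))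
    (Finset.sum_nonneg fun g _ => Complex.normSq_nonneg _)

theorem eq_zero_of_classInner_self {φ : G → ℂ} (h : Cfsg.classInner φ φ = 0) : φ = 0 := by
  have e : Cfsg.classInner φ φ = (((Nat.card G : ℝ)⁻¹ * ∑ g : G, Complex.normSq (φ g) : ℝ) : ℂ) := by
    simp [Cfsg.classInner, Complex.mul_conj]
  rw [h] at e
  have e' : (Nat.card G : ℝ)⁻¹ * ∑ g : G, Complex.normSq (φ g) = 0 := by exact_mod_cast e.symm
  rcases mul_eq_zero.1 e' with h1 | h1
  · exact absurd h1 (inv_ne_zero (Nat.cast_ne_zero.2 Nat.card_pos.ne'))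
  · funext g
    exact Complex.normSq_eq_zero.1 ((Finset.sum_eq_zero_iff_of_nonneg
      fun g _ => Complex.normSq_nonneg _).1 h1 g (Finset.mem_univ g))

theorem classInner_irr_eq {χ ψ : G → ℂ} (h : Cfsg.IsIrrCharacter G χ)
    (h' : Cfsg.IsIrrCharacter G ψ) : Cfsg.classInner χ ψ = if χ = ψ then 1 else 0 := by
  have := Characters.Basic.classInner_irr ⟨χ, h⟩ ⟨ψ, h'⟩
  simpa using this

theorem classInner_self_signed {θ : G → ℂ}
    (h : Cfsg.IsIrrCharacter G θ ∨ Cfsg.IsIrrCharacter G (-θ)) : Cfsg.classInner θ θ = 1 := by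
  rcases h with h | h
  · rw [classInner_irr_eq h h, if_pos rfl]
  · have := classInner_irr_eq h h
    rw [if_pos rfl, classInner_neg_left, classInner_neg_right, neg_neg] at this
    exact this

theorem conjFun_irr {χ : G → ℂ} (h : Cfsg.IsIrrCharacter G χ) :
    Cfsg.IsIrrCharacter G (Cfsg.conjFun χ) :=
  Characters.Basic.isIrrCharacter_of_classInner_self
    (Characters.Basic.isCharacter_conj (Characters.Basic.IsCharacter_of_isIrrCharacter h))
    (show Cfsg.classInner (Cfsg.conjFun χ) (Cfsg.conjFun χ) = 1 by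
      rw [classInner_conjFun, classInner_irr_eq h h, if_pos rfl, map_one])

/-- Inner products of generalized characters are integers. -/
theorem classInner_gen_int {θ φ : G → ℂ} (h : Cfsg.IsGeneralizedCharacter G θ)
    (h' : Cfsg.IsGeneralizedCharacter G φ) : ∃ n : ℤ, Cfsg.classInner θ φ = n := by
  obtain ⟨a, b, ha, hb, rfl⟩ := h
  obtain ⟨c, d, hc, hd, rfl⟩ := h'
  obtain ⟨k₁, e₁⟩ := Characters.Basic.exists_classInner_nat ha hc
  obtain ⟨k₂, e₂⟩ := Characters.Basic.exists_classInner_nat ha hd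
  obtain ⟨k₃, e₃⟩ := Characters.Basic.exists_classInner_nat hb hc
  obtain ⟨k₄, e₄⟩ := Characters.Basic.exists_classInner_nat hb hd
  refine ⟨(k₁ : ℤ) - k₂ - (k₃ - k₄), ?_⟩
  rw [classInner_sub_left, classInner_sub_right, classInner_sub_right, e₁, e₂, e₃, e₄]
  push_cast; ring

theorem classInner_gen_comm {θ φ : G → ℂ} (h : Cfsg.IsGeneralizedCharacter G θ)
    (h' : Cfsg.IsGeneralizedCharacter G φ) : Cfsg.classInner θ φ = Cfsg.classInner φ θ := by
  obtain ⟨n, hn⟩ := classInner_gen_int h h'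
  rw [← classInner_conj_symm θ φ, hn, map_intCast]

theorem gen_eq_sum [Fintype (Cfsg.IrrCharacter G)] {θ : G → ℂ}
    (h : Cfsg.IsGeneralizedCharacter G θ) :
    θ = ∑ χ : Cfsg.IrrCharacter G, Cfsg.classInner θ χ • (χ : G → ℂ) := by
  obtain ⟨a, b, ha, hb, rfl⟩ := h
  have ea := Characters.Basic.character_eq_finsum ha
  have eb := Characters.Basic.character_eq_finsum hb
  rw [finsum_eq_sum_of_fintype] at ea eb
  calc a - b = ∑ χ : Cfsg.IrrCharacter G, Cfsg.classInner a χ • (χ : G → ℂ)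
        - ∑ χ : Cfsg.IrrCharacter G, Cfsg.classInner b χ • (χ : G → ℂ) := by rw [← ea, ← eb]
    _ = _ := by
      rw [← Finset.sum_sub_distrib]
      exact Finset.sum_congr rfl fun χ _ => by rw [classInner_sub_left, sub_smul]

/-- The multiplicities of the irreducible constituents of a generalized character. -/
theorem gen_coeff [Fintype (Cfsg.IrrCharacter G)] {θ : G → ℂ}
    (h : Cfsg.IsGeneralizedCharacter G θ) :
    ∃ c : Cfsg.IrrCharacter G → ℤ, (∀ χ : Cfsg.IrrCharacter G, Cfsg.classInner θ (χ : G → ℂ) = c χ) ∧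
      θ = ∑ χ : Cfsg.IrrCharacter G, (c χ : ℂ) • (χ : G → ℂ) ∧
      Cfsg.classInner θ θ = ((∑ χ, c χ ^ 2 : ℤ) : ℂ) := by
  choose c hc using fun χ : Cfsg.IrrCharacter G => classInner_gen_int h (gen_of_irr χ.2)
  have e : θ = ∑ χ : Cfsg.IrrCharacter G, (c χ : ℂ) • (χ : G → ℂ) := by
    simp only [← hc]; exact gen_eq_sum h
  refine ⟨c, hc, e, ?_⟩
  nth_rewrite 2 [e]
  rw [classInner_sum_right]
  push_cast
  exact Finset.sum_congr rfl fun χ _ => by rw [classInner_smul_right, hc, map_intCast, sq]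

/-- A generalized character of norm one is an irreducible character up to sign. -/
theorem signed_of_norm_one {θ : G → ℂ} (h : Cfsg.IsGeneralizedCharacter G θ)
    (h1 : Cfsg.classInner θ θ = 1) :
    Cfsg.IsIrrCharacter G θ ∨ Cfsg.IsIrrCharacter G (-θ) := by
  have := Fintype.ofFinite (Cfsg.IrrCharacter G)
  obtain ⟨c, hc, e, hn⟩ := gen_coeff h
  rw [h1] at hn
  have hsum : ∑ χ, c χ ^ 2 = 1 := by exact_mod_cast hn.symm
  obtain ⟨χ, hχ⟩ : ∃ χ, c χ ≠ 0 := by
    by_contra hne
    push Not at hne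
    simp [hne] at hsum
  have hrest : ∀ ψ, ψ ≠ χ → c ψ = 0 := by
    intro ψ hψ
    have h2 := Finset.add_le_sum (f := fun ψ => c ψ ^ 2) (s := Finset.univ)
      (fun _ _ => sq_nonneg _) (Finset.mem_univ χ) (Finset.mem_univ ψ) hψ.symm
    have : 0 < c χ ^ 2 := by positivity
    have : c ψ ^ 2 = 0 := le_antisymm (by linarith) (sq_nonneg _)
    simpa using this
  rw [Finset.sum_eq_single χ (fun ψ _ hψ => by simp [hrest ψ hψ]) (fun h => absurd (Finset.mem_univ _) h)] at hsum
  have e2 : θ = (c χ : ℂ) • (χ : G → ℂ) := by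
    rw [e]
    exact Finset.sum_eq_single χ (fun ψ _ hψ => by simp [hrest ψ hψ]) (fun h => absurd (Finset.mem_univ _) h)
  rcases sq_eq_one_iff.1 hsum with h' | h'
  · left; rw [e2, h']; simpa using χ.2
  · right; rw [e2, h']; simpa using χ.2

theorem signed_of_norm_one_iff {θ : G → ℂ} :
    (Cfsg.IsIrrCharacter G θ ∨ Cfsg.IsIrrCharacter G (-θ)) ↔
      Cfsg.IsGeneralizedCharacter G θ ∧ Cfsg.classInner θ θ = 1 :=
  ⟨fun h => ⟨gen_of_signed h, classInner_self_signed h⟩, fun h => signed_of_norm_one h.1 h.2⟩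

/-- Two signed irreducibles are orthogonal or equal up to sign. -/
theorem signed_cases {θ φ : G → ℂ}
    (h : Cfsg.IsIrrCharacter G θ ∨ Cfsg.IsIrrCharacter G (-θ))
    (h' : Cfsg.IsIrrCharacter G φ ∨ Cfsg.IsIrrCharacter G (-φ)) :
    Cfsg.classInner θ φ = 0 ∨ ∃ ε : ℂ, (ε = 1 ∨ ε = -1) ∧ θ = ε • φ ∧ Cfsg.classInner θ φ = ε := by
  by_cases hne : Cfsg.classInner θ φ = 0
  · exact Or.inl hne
  right
  have key : θ = φ ∨ θ = -φ := by
    by_contra hc
    push Not at hc
    apply hne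
    rcases h with h | h <;> rcases h' with h' | h'
    · rw [classInner_irr_eq h h', if_neg hc.1]
    · have := classInner_irr_eq h h'
      rw [if_neg hc.2, classInner_neg_right, neg_eq_zero] at this
      exact this
    · have := classInner_irr_eq h h'
      rw [if_neg fun e => hc.2 (by rw [← e, neg_neg]), classInner_neg_left, neg_eq_zero] at this
      exact this
    · have := classInner_irr_eq h h'
      rw [if_neg fun e => hc.1 (neg_injective e), classInner_neg_left, classInner_neg_right,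
        neg_neg] at this
      exact this
  have h1 := classInner_self_signed h'
  rcases key with rfl | rfl
  · exact ⟨1, Or.inl rfl, (one_smul _ _).symm, h1⟩
  · exact ⟨-1, Or.inr rfl, (neg_one_smul _ _).symm, by rw [classInner_neg_left, h1]⟩

end inner

/-! ### Integer spans -/

theorem subset_zspan {X : Type u} (S : Set (X → ℂ)) : S ⊆ Cfsg.zspan S :=
  Submodule.subset_span

theorem zspan_mono {X : Type u} {S T : Set (X → ℂ)} (h : S ⊆ T) : Cfsg.zspan S ⊆ Cfsg.zspan T :=
  Submodule.span_mono h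

theorem mem_zspanOn_one {L : Type u} [Group L] {S : Set (L → ℂ)} {α : L → ℂ} :
    α ∈ Cfsg.zspanOn S {1}ᶜ ↔ α ∈ Cfsg.zspan S ∧ α 1 = 0 := by
  constructor
  · rintro ⟨h, h'⟩; exact ⟨h, h' 1 (by simp)⟩
  · rintro ⟨h, h'⟩
    refine ⟨h, fun x hx => ?_⟩
    have : x = 1 := by simpa using hx
    rw [this]; exact h'

theorem zspanOn_mono {X : Type u} {S T : Set (X → ℂ)} (A : Set X) (h : S ⊆ T) :
    Cfsg.zspanOn S A ⊆ Cfsg.zspanOn T A :=
  fun _ hα => ⟨zspan_mono h hα.1, hα.2⟩

/-- `zspanOn S A` as a submodule. -/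
def zspanOnMod {X : Type u} (S : Set (X → ℂ)) (A : Set X) : Submodule ℤ (X → ℂ) where
  carrier := Cfsg.zspanOn S A
  add_mem' {a b} ha hb := ⟨(Submodule.span ℤ S).add_mem ha.1 hb.1,
    fun x hx => by simp [ha.2 x hx, hb.2 x hx]⟩
  zero_mem' := ⟨(Submodule.span ℤ S).zero_mem, fun _ _ => rfl⟩
  smul_mem' n a ha := ⟨(Submodule.span ℤ S).smul_mem n ha.1, fun x hx => by simp [ha.2 x hx]⟩

theorem gen_zspan {S : Set (G → ℂ)} (hS : ∀ χ ∈ S, Cfsg.IsGeneralizedCharacter G χ) {α : G → ℂ}
    (h : α ∈ Cfsg.zspan S) : Cfsg.IsGeneralizedCharacter G α := by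
  induction h using Submodule.span_induction with
  | mem x hx => exact hS x hx
  | zero => exact gen_zero
  | add x y _ _ hx hy => exact gen_add hx hy
  | smul n x _ hx => exact gen_zsmul hx n

theorem classInner_zspan_eq_zero [Fintype G] {S : Set (G → ℂ)} {φ α : G → ℂ}
    (h : α ∈ Cfsg.zspan S) (hS : ∀ χ ∈ S, Cfsg.classInner χ φ = 0) :
    Cfsg.classInner α φ = 0 := by
  induction h using Submodule.span_induction with
  | mem x hx => exact hS x hx
  | zero => exact classInner_zero_left φ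
  | add x y _ _ hx hy => rw [classInner_add_left, hx, hy, add_zero]
  | smul n x _ hx => rw [← Int.cast_smul_eq_zsmul ℂ, classInner_smul_left, hx, mul_zero]

end Cfsg.Agent.Lib.Isometry.Inner
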