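import Cfsg.Agent.Lib.Isometry.Dade
import Cfsg.Agent.Lib.Isometry.Inner
import Cfsg.Agent.Lib.Induced.Character
set_option autoImplicit false

/-! The Dade map sends generalized characters to generalized characters: it is an alternating sum,
over orbits of nonempty subsets `B` of `A`, of maps induced from `H(B) N_L(B)`. -/

namespace Cfsg.Agent.Lib.Isometry.DadeGen

open Cfsg.Agent.Lib.Isometry.TI
open scoped Classical

universe u
variable {G : Type u} [Group G] [Fintype G] {A : Set G} {L : Subgroup G} {H : G → Subgroup G}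

/-! ### Counting in a coset `N n` -/

/-- The number of `y` with `y g y⁻¹ ∈ N n`. -/
noncomputable def cnt (N : Subgroup G) (n g : G) : ℕ :=
  (Finset.univ.filter fun y : G => y * g * y⁻¹ * n⁻¹ ∈ N).card

theorem cent_comm {N : Subgroup G} {n c : G} (hc : c ∈ N ⊓ Subgroup.centralizer ({n} : Set G)) :
    Commute c n := mem_centralizer_singleton.1 hc.2

/-- Two elements of `C n` conjugate under `N` are conjugate under `C = C_N(n)`. -/
theorem mem_cent_of_conj {N : Subgroup G} {n k c c' : G} (hcop : (orderOf n).Coprime (Nat.card N))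
    (hk : k ∈ N) (hc : c ∈ N ⊓ Subgroup.centralizer ({n} : Set G))
    (hc' : c' ∈ N ⊓ Subgroup.centralizer ({n} : Set G)) (h : k * (c * n) * k⁻¹ = c' * n) :
    k ∈ N ⊓ Subgroup.centralizer ({n} : Set G) := by
  obtain ⟨e, he1, he0⟩ := Nat.chineseRemainder hcop 1 0
  have hn : n ^ e = n := by
    conv_rhs => rw [← pow_one n]
    exact pow_eq_pow_iff_modEq.2 he1
  have hz : ∀ z ∈ N, z ^ e = 1 := fun z hz => orderOf_dvd_iff_pow_eq_one.1
    ((Subgroup.orderOf_dvd_natCard N hz).trans (Nat.modEq_zero_iff_dvd.1 he0))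
  have := congrArg (· ^ e) h
  simp only [conj_pow, (cent_comm hc).mul_pow, (cent_comm hc').mul_pow, hn, hz c hc.1, hz c' hc'.1,
    one_mul] at this
  exact ⟨hk, mem_centralizer_of_conj_eq this⟩

/-- Every element of `N n` is conjugate under `N` to an element of `C_N(n) n`. -/
theorem exists_conj {N : Subgroup G} {n : G} (hnN : ∀ u ∈ N, n * u * n⁻¹ ∈ N)
    (hcop : (orderOf n).Coprime (Nat.card N)) {x : G} (hx : x * n⁻¹ ∈ N) :
    ∃ m ∈ N, m⁻¹ * x * m * n⁻¹ ∈ N ⊓ Subgroup.centralizer ({n} : Set G) := by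
  set C := N ⊓ Subgroup.centralizer ({n} : Set G) with hC
  set C' := C.subgroupOf N
  have hψ : ∀ (m : N) (c : C), (m : G) * (c * n) * (m : G)⁻¹ * n⁻¹ ∈ N := by
    intro m c
    have e : (m : G) * (c * n) * (m : G)⁻¹ * n⁻¹ = (m : G) * c * (n * (m : G)⁻¹ * n⁻¹) := by group
    rw [e]
    exact N.mul_mem (N.mul_mem m.2 c.2.1) (hnN _ (N.inv_mem m.2))
  have hk : ∀ m : N, ((QuotientGroup.mk m : N ⧸ C').out)⁻¹ * m ∈ C' := fun m =>
    QuotientGroup.eq.1 (QuotientGroup.out_eq' _)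
  let Ψ : N × C → N × C' := fun p =>
    (⟨_, hψ p.1 p.2⟩, ⟨((QuotientGroup.mk p.1 : N ⧸ C').out)⁻¹ * p.1, hk p.1⟩)
  have hinj : Function.Injective Ψ := by
    rintro ⟨m, c⟩ ⟨m', c'⟩ h
    simp only [Ψ, Prod.mk.injEq, Subtype.mk.injEq] at h
    obtain ⟨h1, h2⟩ := h
    have h1' := mul_right_cancel h1
    have hmem : (m' : G)⁻¹ * m ∈ C := mem_cent_of_conj hcop (N.mul_mem (N.inv_mem m'.2) m.2) c.2 c'.2 (by
      calc (m' : G)⁻¹ * m * (c * n) * ((m' : G)⁻¹ * m)⁻¹
            = (m' : G)⁻¹ * ((m : G) * (c * n) * (m : G)⁻¹) * m' := by group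
        _ = _ := by rw [h1']; group)
    have hq : (QuotientGroup.mk m' : N ⧸ C') = QuotientGroup.mk m :=
      QuotientGroup.eq.2 (Subgroup.mem_subgroupOf.2 (by simpa using hmem))
    rw [hq] at h2
    have hm : m = m' := mul_left_cancel h2
    subst hm
    exact Prod.ext rfl (Subtype.ext (mul_right_cancel (mul_left_cancel (mul_right_cancel h1'))))
  have hcard : Nat.card (N × C) = Nat.card (N × C') := by
    rw [Nat.card_prod, Nat.card_prod,
      Nat.card_congr (Subgroup.subgroupOfEquivOfLe (inf_le_left : C ≤ N)).toEquiv]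
  obtain ⟨⟨m, c⟩, h⟩ := ((Nat.bijective_iff_injective_and_card Ψ).2 ⟨hinj, hcard⟩).2
    (⟨x * n⁻¹, hx⟩, 1)
  have h1 := mul_right_cancel (congrArg Subtype.val (congrArg Prod.fst h))
  refine ⟨m, m.2, ?_⟩
  rw [← h1]
  convert c.2 using 1
  group

/-- The count for `N` is that for `C_N(n)`, scaled by the index. -/
theorem cnt_cent {N : Subgroup G} {n : G} (hnN : ∀ u ∈ N, n * u * n⁻¹ ∈ N)
    (hcop : (orderOf n).Coprime (Nat.card N)) (g : G) :
    Nat.card N * cnt (N ⊓ Subgroup.centralizer ({n} : Set G)) n g =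
      Nat.card ↥(N ⊓ Subgroup.centralizer ({n} : Set G)) * cnt N n g := by
  set C := N ⊓ Subgroup.centralizer ({n} : Set G) with hC
  have hcnt : ∀ X : Subgroup G, cnt X n g = Nat.card {y : G // y * g * y⁻¹ * n⁻¹ ∈ X} := fun X => by
    rw [cnt, Nat.card_eq_fintype_card, Fintype.card_subtype]
  rw [hcnt, hcnt, ← Nat.card_prod, ← Nat.card_prod]
  choose m hm hm' using fun z : {y : G // y * g * y⁻¹ * n⁻¹ ∈ N} => exists_conj hnN hcop z.2
  have hcn : ∀ (c d : G), c ∈ C → d * n⁻¹ ∈ C → c⁻¹ * d * c * n⁻¹ ∈ C := by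
    intro c d hc hd
    have e : c⁻¹ * d * c * n⁻¹ = c⁻¹ * (d * n⁻¹) * c := by
      calc c⁻¹ * d * c * n⁻¹ = c⁻¹ * (d * n⁻¹) * (n * c * n⁻¹) := by group
        _ = _ := by rw [← (cent_comm hc).eq, mul_inv_cancel_right]
    rw [e]
    exact C.mul_mem (C.mul_mem (C.inv_mem hc) hd) hc
  let Θ : C × {y : G // y * g * y⁻¹ * n⁻¹ ∈ N} → N × {y : G // y * g * y⁻¹ * n⁻¹ ∈ C} := fun p =>
    (⟨m p.2 * p.1, N.mul_mem (hm p.2) p.1.2.1⟩, ⟨(m p.2 * p.1)⁻¹ * p.2, by
      have := hcn p.1 ((m p.2)⁻¹ * ((p.2 : G) * g * (p.2 : G)⁻¹) * m p.2) p.1.2 (hm' p.2)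
      convert this using 1
      group⟩)
  symm
  refine Nat.card_congr (Equiv.ofBijective Θ ⟨?_, ?_⟩)
  · rintro ⟨c, z⟩ ⟨c', z'⟩ h
    simp only [Θ, Prod.mk.injEq, Subtype.mk.injEq] at h
    obtain ⟨h1, h2⟩ := h
    rw [h1] at h2
    have hz : z = z' := Subtype.ext (mul_left_cancel h2)
    subst hz
    exact Prod.ext (Subtype.ext (mul_left_cancel h1)) rfl
  · rintro ⟨⟨k, hk⟩, ⟨y, hy⟩⟩
    have hz : (k * y) * g * (k * y)⁻¹ * n⁻¹ ∈ N := by
      have e : (k * y) * g * (k * y)⁻¹ * n⁻¹ = k * (y * g * y⁻¹ * n⁻¹) * (n * k⁻¹ * n⁻¹) := by group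
      rw [e]
      exact N.mul_mem (N.mul_mem hk hy.1) (hnN _ (N.inv_mem hk))
    set z : {y : G // y * g * y⁻¹ * n⁻¹ ∈ N} := ⟨k * y, hz⟩
    have hc : (m z)⁻¹ * k ∈ C := mem_cent_of_conj hcop (N.mul_mem (N.inv_mem (hm z)) hk) hy (hm' z) (by
      show (m z)⁻¹ * k * (y * g * y⁻¹ * n⁻¹ * n) * ((m z)⁻¹ * k)⁻¹ =
        (m z)⁻¹ * ((k * y) * g * (k * y)⁻¹) * m z * n⁻¹ * n
      group)
    refine ⟨(⟨_, hc⟩, z), ?_⟩
    simp only [Θ, Prod.mk.injEq, Subtype.mk.injEq]
    refine ⟨mul_inv_cancel_left _ _, ?_⟩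
    rw [mul_inv_cancel_left]
    exact inv_mul_cancel_left k y

/-! ### The subgroups attached to subsets of `A` -/

section Setup
variable (hD : Cfsg.DadeHypothesis A L H)

/-- The elements of `L` lying in `A`. -/
noncomputable def AL (A : Set G) (L : Subgroup G) : Finset L :=
  Finset.univ.filter fun a : L => (a : G) ∈ A

theorem mem_AL {a : L} : a ∈ AL A L ↔ (a : G) ∈ A := by simp [AL]

/-- `H(B)`, the intersection of the `H b`, `b ∈ B`. -/
noncomputable def HB (H : G → Subgroup G) (B : Finset L) : Subgroup G := ⨅ b ∈ B, H (b : G)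

theorem mem_HB {B : Finset L} {u : G} : u ∈ HB H B ↔ ∀ b ∈ B, u ∈ H (b : G) := by
  simp only [HB, Subgroup.mem_iInf]

/-- The stabiliser of `B` in `L`. -/
noncomputable def NB (B : Finset L) : Subgroup L := Subgroup.normalizer (B : Set L)

theorem mem_NB {B : Finset L} {n : L} : n ∈ NB B ↔ ∀ b, b ∈ B ↔ n * b * n⁻¹ ∈ B :=
  Iff.rfl

include hD in
theorem mem_H_conj {a x u : G} (ha : a ∈ A) (hx : x ∈ L) (hu : u ∈ H a) :
    x * u * x⁻¹ ∈ H (x * a * x⁻¹) := by
  rw [map_H hD ha hx]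
  exact ⟨u, hu, rfl⟩

include hD in
theorem conj_mem_HB {B : Finset L} (hB : B ⊆ AL A L) (n : L) {u : G} (hu : u ∈ HB H B) :
    (n : G) * u * (n : G)⁻¹ ∈ HB H (B.image fun b => n * b * n⁻¹) := by
  rw [mem_HB] at hu ⊢
  intro b hb
  obtain ⟨c, hc, rfl⟩ := Finset.mem_image.1 hb
  simpa using mem_H_conj hD (mem_AL.1 (hB hc)) n.2 (hu c hc)

theorem image_eq_of_mem_NB {B : Finset L} {n : L} (hn : n ∈ NB B) :
    (B.image fun b => n * b * n⁻¹) = B := by
  ext b
  rw [Finset.mem_image]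
  refine ⟨fun ⟨c, hc, e⟩ => e ▸ (mem_NB.1 hn c).1 hc, fun hb => ⟨n⁻¹ * b * n, ?_, by group⟩⟩
  rw [mem_NB.1 hn]
  convert hb using 1
  group

include hD in
theorem NB_normalizes {B : Finset L} (hB : B ⊆ AL A L) {n : L} (hn : n ∈ NB B) {u : G}
    (hu : u ∈ HB H B) : (n : G) * u * (n : G)⁻¹ ∈ HB H B := by
  have := conj_mem_HB hD hB n hu
  rwa [image_eq_of_mem_NB hn] at this

include hD in
theorem HB_inf_L {B : Finset L} (hB : B ⊆ AL A L) (hne : B.Nonempty) {x : G} (hx : x ∈ HB H B)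
    (hxL : x ∈ L) : x = 1 := by
  obtain ⟨b, hb⟩ := hne
  have h : x ∈ H (b : G) ⊓ L := ⟨mem_HB.1 hx b hb, hxL⟩
  rwa [inf_L_eq_bot hD (mem_AL.1 (hB hb)), Subgroup.mem_bot] at h

include hD in
theorem orderOf_coprime {B : Finset L} (hB : B ⊆ AL A L) (hne : B.Nonempty) {n : L}
    (hn : n ∈ AL A L) : (orderOf (n : G)).Coprime (Nat.card (HB H B)) := by
  obtain ⟨b, hb⟩ := hne
  refine Nat.Coprime.coprime_dvd_left (Subgroup.orderOf_dvd_natCard _ (self_mem_CL hD (mem_AL.1 hn))) ?_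
  exact Nat.Coprime.coprime_dvd_right (Subgroup.card_dvd_of_le (iInf₂_le b hb))
    (hD.coprime _ (mem_AL.1 (hB hb)) _ (mem_AL.1 hn)).symm

include hD in
theorem HB_insert {B : Finset L} (hB : B ⊆ AL A L) (hne : B.Nonempty) {n : L} (hn : n ∈ AL A L) :
    HB H B ⊓ Subgroup.centralizer ({(n : G)} : Set G) = HB H (insert n B) := by
  ext u
  rw [Subgroup.mem_inf, mem_HB, mem_HB]
  constructor
  · rintro ⟨hu, huc⟩ b hb
    rcases Finset.mem_insert.1 hb with hbn | hb
    swap; · exact hu b hb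
    rw [hbn]
    obtain ⟨h, hh, l, hl, e⟩ := exists_mul_of_mem_centralizer hD (mem_AL.1 hn) huc
    obtain ⟨b', hb'⟩ := hne
    have hp : ∀ k : ℕ, (h * l) ^ k * (l ^ k)⁻¹ ∈ H (n : G) := by
      intro k
      induction k with
      | zero => simp
      | succ k ih =>
        have e2 : (h * l) ^ (k + 1) * (l ^ (k + 1))⁻¹ = h * (l * ((h * l) ^ k * (l ^ k)⁻¹) * l⁻¹) := by
          rw [pow_succ' (h * l) k, pow_succ' l k]; group
        rw [e2]
        exact (H _).mul_mem hh (hD.conj_mem_H _ (mem_AL.1 hn) _ hl.2 _ ih)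
    set k := Nat.card (H (b' : G))
    have h1 : (h * l) ^ k = 1 := by
      rw [e]
      exact orderOf_dvd_iff_pow_eq_one.1 (Subgroup.orderOf_dvd_natCard _ (hu b' hb'))
    have h2 := hp k
    rw [h1, one_mul] at h2
    have h3 : l ^ k ∈ H (n : G) ⊓ (L ⊓ Subgroup.centralizer ({(n : G)} : Set G)) :=
      ⟨by simpa using (H _).inv_mem h2, Subgroup.pow_mem _ hl _⟩
    rw [hD.inf_eq_bot _ (mem_AL.1 hn), Subgroup.mem_bot] at h3
    have h4 : orderOf l = 1 := Nat.eq_one_of_dvd_coprimes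
      (hD.coprime _ (mem_AL.1 (hB hb')) _ (mem_AL.1 hn)) (orderOf_dvd_iff_pow_eq_one.2 h3)
      (Subgroup.orderOf_dvd_natCard _ hl)
    rw [orderOf_eq_one_iff.1 h4, mul_one] at e
    rwa [← e]
  · intro hu
    exact ⟨fun b hb => hu b (Finset.mem_insert_of_mem hb),
      hD.le_centralizer _ (mem_AL.1 hn) (hu n (Finset.mem_insert_self n B))⟩

/-! ### The terms of the alternating sum -/

/-- The term of `B`, multiplied by the order of its stabiliser. -/
noncomputable def term (H : G → Subgroup G) (α : L → ℂ) (B : Finset L) (g : G) : ℂ :=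
  (Nat.card (HB H B) : ℂ)⁻¹ *
    ∑ n : L, if n ∈ NB B then α n * (cnt (HB H B) (n : G) g : ℂ) else 0

/-- The subgroup `H(B) N_L(B)`. -/
noncomputable def MB (hD : Cfsg.DadeHypothesis A L H) {B : Finset L} (hB : B ⊆ AL A L) :
    Subgroup G where
  carrier := {x | ∃ n ∈ NB B, x * (n : G)⁻¹ ∈ HB H B}
  one_mem' := ⟨1, (NB B).one_mem, by simp [(HB H B).one_mem]⟩
  mul_mem' := by
    rintro x y ⟨n, hn, hx⟩ ⟨m, hm, hy⟩
    refine ⟨n * m, (NB B).mul_mem hn hm, ?_⟩
    have e : x * y * ((n * m : L) : G)⁻¹ = x * (n : G)⁻¹ * ((n : G) * (y * (m : G)⁻¹) * (n : G)⁻¹) := by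
      push_cast; group
    rw [e]
    exact (HB H B).mul_mem hx (NB_normalizes hD hB hn hy)
  inv_mem' := by
    rintro x ⟨n, hn, hx⟩
    refine ⟨n⁻¹, (NB B).inv_mem hn, ?_⟩
    have := NB_normalizes hD hB ((NB B).inv_mem hn) ((HB H B).inv_mem hx)
    convert this using 1
    push_cast; group

theorem mem_MB {B : Finset L} (hB : B ⊆ AL A L) {x : G} :
    x ∈ MB hD hB ↔ ∃ n ∈ NB B, x * (n : G)⁻¹ ∈ HB H B := Iff.rfl

include hD in
theorem unique_N {B : Finset L} (hB : B ⊆ AL A L) (hne : B.Nonempty) {x : G} {n m : L}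
    (hn : x * (n : G)⁻¹ ∈ HB H B) (hm : x * (m : G)⁻¹ ∈ HB H B) : n = m := by
  have := HB_inf_L hD hB hne ((HB H B).mul_mem ((HB H B).inv_mem hn) hm)
    (by simpa using L.mul_mem n.2 (L.inv_mem m.2))
  have e : (n : G) * (m : G)⁻¹ = 1 := by rw [← this]; group
  exact Subtype.ext (mul_inv_eq_one.1 e)

/-- The component in `N_L(B)`. -/
noncomputable def pick (hD : Cfsg.DadeHypothesis A L H) {B : Finset L} (hB : B ⊆ AL A L)
    (x : MB hD hB) : L := Classical.choose ((mem_MB hD hB).1 x.2)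

theorem pick_spec {B : Finset L} (hB : B ⊆ AL A L) (x : MB hD hB) :
    pick hD hB x ∈ NB B ∧ (x : G) * (pick hD hB x : G)⁻¹ ∈ HB H B :=
  Classical.choose_spec ((mem_MB hD hB).1 x.2)

/-- The projection of `H(B) N_L(B)` onto `N_L(B)`. -/
noncomputable def proj (hD : Cfsg.DadeHypothesis A L H) {B : Finset L} (hB : B ⊆ AL A L)
    (hne : B.Nonempty) : MB hD hB →* L where
  toFun x := pick hD hB x
  map_one' := (unique_N hD hB hne (pick_spec hD hB 1).2
    (by simp [(HB H B).one_mem]))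
  map_mul' := by
    intro x y
    obtain ⟨hn, hx⟩ := pick_spec hD hB x
    obtain ⟨hm, hy⟩ := pick_spec hD hB y
    refine unique_N hD hB hne (pick_spec hD hB (x * y)).2 ?_
    have e : (x : G) * y * ((pick hD hB x * pick hD hB y : L) : G)⁻¹ =
        x * (pick hD hB x : G)⁻¹ * ((pick hD hB x : G) *
          (y * (pick hD hB y : G)⁻¹) * (pick hD hB x : G)⁻¹) := by
      push_cast; group
    rw [Subgroup.coe_mul, e]
    exact (HB H B).mul_mem hx (NB_normalizes hD hB hn hy)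

theorem proj_eq {B : Finset L} (hB : B ⊆ AL A L) (hne : B.Nonempty) (x : MB hD hB) {n : L}
    (h : (x : G) * (n : G)⁻¹ ∈ HB H B) : proj hD hB hne x = n :=
  unique_N hD hB hne (pick_spec hD hB x).2 h

theorem card_MB {B : Finset L} (hB : B ⊆ AL A L) (hne : B.Nonempty) :
    Nat.card (MB hD hB) = Nat.card (HB H B) * Nat.card (NB B) := by
  rw [← Nat.card_prod]
  refine (Nat.card_congr (Equiv.ofBijective
    (fun p : HB H B × NB B => (⟨(p.1 : G) * ((p.2 : L) : G), (mem_MB hD hB).2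
      ⟨p.2, p.2.2, by simp⟩⟩ : MB hD hB)) ⟨?_, ?_⟩)).symm
  · rintro ⟨u, n⟩ ⟨v, m⟩ h
    simp only [Subtype.mk.injEq] at h
    have hnm : (n : L) = m := unique_N hD hB hne (x := (u : G) * ((n : L) : G)) (by simp)
      (by rw [h]; simp)
    rw [hnm] at h
    exact Prod.ext (Subtype.ext (mul_right_cancel h)) (Subtype.ext hnm)
  · rintro ⟨x, n, hn, hx⟩
    exact ⟨(⟨_, hx⟩, ⟨n, hn⟩), Subtype.ext (inv_mul_cancel_right x (n : G))⟩

theorem term_eq {B : Finset L} (hB : B ⊆ AL A L) (hne : B.Nonempty) (α : L → ℂ) (g : G) :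
    term H α B g = (Nat.card (NB B) : ℂ) *
      Cfsg.indFun (MB hD hB) (fun x => α (proj hD hB hne x)) g := by
  have key : ∀ y : G, Cfsg.extendByZero (MB hD hB) (fun x => α (proj hD hB hne x)) (y⁻¹ * g * y) =
      ∑ n : L, if n ∈ NB B then (if y⁻¹ * g * y * (n : G)⁻¹ ∈ HB H B then α n else 0) else 0 := by
    intro y
    by_cases hy : y⁻¹ * g * y ∈ MB hD hB
    · obtain ⟨n, hn, hx⟩ := hy
      rw [Induced.Basic.extendByZero_of_mem _ _ ((mem_MB hD hB).2 ⟨n, hn, hx⟩), proj_eq hD hB hne _ hx,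
        Finset.sum_eq_single n]
      · rw [if_pos hn, if_pos hx]
      · intro m _ hmn
        split_ifs with h1 h2
        · exact absurd (unique_N hD hB hne h2 hx) hmn
        all_goals rfl
      · intro h; exact absurd (Finset.mem_univ n) h
    · rw [Induced.Basic.extendByZero_of_not_mem _ _ hy]
      refine (Finset.sum_eq_zero fun n _ => ?_).symm
      split_ifs with h1 h2
      · exact absurd ⟨n, h1, h2⟩ hy
      all_goals rfl
  rw [term]
  simp only [Cfsg.indFun, key]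
  rw [Finset.sum_comm (t := (Finset.univ : Finset L)), card_MB hD hB hne, Nat.cast_mul, mul_inv,
    ← mul_assoc, ← mul_assoc,
    mul_comm (Nat.card (NB B) : ℂ), mul_assoc (Nat.card (HB H B) : ℂ)⁻¹,
    mul_inv_cancel₀ (Nat.cast_ne_zero.2 Nat.card_pos.ne'), mul_one]
  congr 1
  refine Finset.sum_congr rfl fun n _ => ?_
  split_ifs with hn
  · rw [← Finset.sum_filter, Finset.sum_const, nsmul_eq_mul, mul_comm]
    congr 2
    refine Finset.card_bij (fun y _ => y⁻¹) (fun y hy => ?_) (fun _ _ _ _ h => inv_injective h)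
      (fun y hy => ⟨y⁻¹, ?_, inv_inv y⟩)
    · simp only [Finset.mem_filter, Finset.mem_univ, true_and, inv_inv] at hy ⊢; exact hy
    · simp only [Finset.mem_filter, Finset.mem_univ, true_and, inv_inv] at hy ⊢; exact hy
  · rw [Finset.sum_const_zero]

theorem gen_term {B : Finset L} (hB : B ⊆ AL A L) (hne : B.Nonempty) {α : L → ℂ}
    (hα : Cfsg.IsGeneralizedCharacter L α) :
    Cfsg.IsGeneralizedCharacter G (Cfsg.indFun (MB hD hB) fun x => α (proj hD hB hne x)) := by
  obtain ⟨χ, ψ, hχ, hψ, rfl⟩ := hα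
  exact Induced.Character.isGeneralizedCharacter_indFun _ ⟨_, _,
    Characters.Basic.isCharacter_comp (proj hD hB hne) hχ,
    Characters.Basic.isCharacter_comp (proj hD hB hne) hψ, rfl⟩

/-! ### Invariance under `L` -/

include hD in
theorem term_conj {B : Finset L} (hB : B ⊆ AL A L) {α : L → ℂ} (hα : Cfsg.IsClassFunction L α)
    (l : L) (g : G) : term H α (B.image fun b => l * b * l⁻¹) g = term H α B g := by
  set B' := B.image fun b => l * b * l⁻¹ with hB'
  have hB'A : B' ⊆ AL A L := by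
    intro b hb
    obtain ⟨c, hc, rfl⟩ := Finset.mem_image.1 hb
    exact mem_AL.2 (by simpa using hD.conj_mem _ l.2 _ (mem_AL.1 (hB hc)))
  have hback : (B'.image fun b => l⁻¹ * b * l⁻¹⁻¹) = B := by
    rw [hB', Finset.image_image]
    convert Finset.image_id (s := B) using 2
    funext b; simp only [Function.comp_apply, id_eq]; group
  have hH : ∀ u : G, (l : G) * u * (l : G)⁻¹ ∈ HB H B' ↔ u ∈ HB H B := by
    refine fun u => ⟨fun h => ?_, conj_mem_HB hD hB l⟩
    have h' := conj_mem_HB hD hB'A l⁻¹ h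
    rw [hback] at h'
    convert h' using 1
    push_cast; group
  have hN : ∀ n : L, l * n * l⁻¹ ∈ NB B' ↔ n ∈ NB B := by
    intro n
    rw [mem_NB, mem_NB]
    have hmem : ∀ b : L, l * b * l⁻¹ ∈ B' ↔ b ∈ B := by
      intro b
      rw [hB', Finset.mem_image]
      exact ⟨fun ⟨c, hc, e⟩ => by rwa [← mul_left_cancel (mul_right_cancel e)],
        fun h => ⟨b, h, rfl⟩⟩
    constructor
    · intro h b
      rw [← hmem b, ← hmem (n * b * n⁻¹), h (l * b * l⁻¹)]
      constructor <;> intro h' <;> convert h' using 1 <;> group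
    · intro h b
      obtain ⟨c, rfl⟩ : ∃ c, b = l * c * l⁻¹ := ⟨l⁻¹ * b * l, by group⟩
      rw [hmem, h c, ← hmem (n * c * n⁻¹)]
      constructor <;> intro h' <;> convert h' using 1 <;> group
  have hcardH : Nat.card (HB H B') = Nat.card (HB H B) := by
    refine (Nat.card_congr (Equiv.ofBijective (fun u : HB H B =>
      (⟨(l : G) * u * (l : G)⁻¹, (hH u).2 u.2⟩ : HB H B')) ⟨?_, ?_⟩)).symm
    · intro u v h
      exact Subtype.ext (mul_left_cancel (mul_right_cancel (congrArg Subtype.val h)))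
    · rintro ⟨v, hv⟩
      refine ⟨⟨(l : G)⁻¹ * v * l, (hH _).1 (by convert hv using 1; group)⟩, Subtype.ext ?_⟩
      show (l : G) * ((l : G)⁻¹ * v * l) * (l : G)⁻¹ = v
      group
  rw [term, term, hcardH]
  congr 1
  refine (Fintype.sum_equiv (MulAut.conj l).toEquiv _ _ fun n => ?_).symm
  simp only [MulEquiv.toEquiv_eq_coe, EquivLike.coe_coe, MulAut.conj_apply, hN, hα n l]
  split_ifs
  swap; · rfl
  congr 2
  refine Finset.card_bij (fun y _ => (l : G) * y) (fun y hy => ?_)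
    (fun _ _ _ _ h => mul_left_cancel h) (fun y hy => ⟨(l : G)⁻¹ * y, ?_, mul_inv_cancel_left _ _⟩)
  · simp only [Finset.mem_filter, Finset.mem_univ, true_and] at hy ⊢
    rw [← hH] at hy
    convert hy using 1
    push_cast; group
  · simp only [Finset.mem_filter, Finset.mem_univ, true_and] at hy ⊢
    rw [← hH]
    convert hy using 1
    push_cast; group

/-! ### The alternating sum -/

theorem mem_NB_insert {B : Finset L} {n : L} (hn : n ∉ B) : n ∈ NB (insert n B) ↔ n ∈ NB B := by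
  have e : n * n * n⁻¹ = n := by group
  rw [mem_NB, mem_NB]
  constructor
  · intro h b
    have := h b
    simp only [Finset.mem_insert] at this
    constructor
    · intro hb
      exact (this.1 (Or.inr hb)).resolve_left fun he => hn (by
        have hbn : b = n := mul_left_cancel (mul_right_cancel (he.trans e.symm))
        rwa [hbn] at hb)
    · intro hb
      exact (this.2 (Or.inr hb)).resolve_left fun he => hn (by rwa [he, e] at hb)
  · intro h b
    simp only [Finset.mem_insert]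
    constructor
    · rintro (rfl | hb)
      exacts [Or.inl e, Or.inr ((h b).1 hb)]
    · rintro (hb | hb)
      · exact Or.inl (mul_left_cancel (mul_right_cancel (hb.trans e.symm)))
      · exact Or.inr ((h b).2 hb)

include hD in
theorem alternating {α : L → ℂ} (hαA : ∀ x : L, (x : G) ∉ A → α x = 0) (g : G) :
    ∑ B ∈ (AL A L).powerset.filter (·.Nonempty), (-1 : ℂ) ^ (B.card + 1) * term H α B g =
      ∑ a ∈ AL A L, α a * ((Nat.card (H (a : G)) : ℂ)⁻¹ * (cnt (H (a : G)) (a : G) g : ℂ)) := by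
  let W : Finset L → L → ℂ := fun B n =>
    (Nat.card (HB H (insert n B)) : ℂ)⁻¹ * (cnt (HB H (insert n B)) (n : G) g : ℂ)
  have hW : ∀ B ∈ (AL A L).powerset.filter (·.Nonempty), ∀ n ∈ AL A L, n ∈ NB B →
      (Nat.card (HB H B) : ℂ)⁻¹ * (cnt (HB H B) (n : G) g : ℂ) = W B n := by
    intro B hB n hn hnB
    obtain ⟨hB, hne⟩ := Finset.mem_filter.1 hB
    rw [Finset.mem_powerset] at hB
    have h := cnt_cent (fun u hu => NB_normalizes hD hB hnB hu) (orderOf_coprime hD hB hne hn) g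
    rw [HB_insert hD hB hne hn] at h
    have h' : (Nat.card (HB H B) : ℂ) * (cnt (HB H (insert n B)) (n : G) g : ℂ) =
        (Nat.card (HB H (insert n B)) : ℂ) * (cnt (HB H B) (n : G) g : ℂ) := by exact_mod_cast h
    have h1 : (Nat.card (HB H B) : ℂ) ≠ 0 := Nat.cast_ne_zero.2 Nat.card_pos.ne'
    have h2 : (Nat.card (HB H (insert n B)) : ℂ) ≠ 0 := Nat.cast_ne_zero.2 Nat.card_pos.ne'
    show _ = (Nat.card (HB H (insert n B)) : ℂ)⁻¹ * (cnt (HB H (insert n B)) (n : G) g : ℂ)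
    field_simp
    linear_combination -h'
  have hterm : ∀ B ∈ (AL A L).powerset.filter (·.Nonempty), (-1 : ℂ) ^ (B.card + 1) * term H α B g =
      ∑ n ∈ AL A L, α n * if n ∈ NB B then (-1 : ℂ) ^ (B.card + 1) * W B n else 0 := by
    intro B hB
    rw [term, ← mul_assoc, Finset.mul_sum,
      ← Finset.sum_subset (Finset.subset_univ (AL A L)) fun n _ hn => by
        rw [hαA n fun h => hn (mem_AL.2 h)]; simp]
    refine Finset.sum_congr rfl fun n hn => ?_
    split_ifs with hnB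
    · rw [← hW B hB n hn hnB]; ring
    · simp
  rw [Finset.sum_congr rfl hterm, Finset.sum_comm]
  refine Finset.sum_congr rfl fun n hn => ?_
  rw [← Finset.mul_sum]
  congr 1
  set F : Finset L → ℂ := fun B => if n ∈ NB B then (-1 : ℂ) ^ (B.card + 1) * W B n else 0 with hF
  have hempty : F ∅ = -((Nat.card (H (n : G)) : ℂ)⁻¹ * (cnt (H (n : G)) (n : G) g : ℂ)) := by
    have h1 : n ∈ NB (∅ : Finset L) := by simp [mem_NB]
    have h2 : HB H (insert n (∅ : Finset L)) = H (n : G) := by ext u; simp [mem_HB]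
    rw [hF]; simp only []; rw [if_pos h1]
    show (-1 : ℂ) ^ (_ + 1) * ((Nat.card (HB H (insert n (∅ : Finset L))) : ℂ)⁻¹ *
      (cnt (HB H (insert n (∅ : Finset L))) (n : G) g : ℂ)) = _
    rw [h2, Finset.card_empty]; ring
  have hzero : ∑ B ∈ (AL A L).powerset, F B = 0 := by
    obtain ⟨s, hs, hsA⟩ : ∃ s, n ∉ s ∧ AL A L = insert n s :=
      ⟨(AL A L).erase n, Finset.notMem_erase n _, (Finset.insert_erase hn).symm⟩
    rw [hsA, Finset.sum_powerset_insert hs, ← Finset.sum_add_distrib]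
    refine Finset.sum_eq_zero fun B hB => ?_
    have hnB : n ∉ B := fun h => hs (Finset.mem_powerset.1 hB h)
    simp only [hF, mem_NB_insert hnB, Finset.card_insert_of_notMem hnB]
    split_ifs
    · show (-1 : ℂ) ^ (B.card + 1) * W B n + (-1 : ℂ) ^ (B.card + 1 + 1) * W (insert n B) n = 0
      have : W (insert n B) n = W B n := by
        show _ * _ = _ * _
        rw [Finset.insert_eq_of_mem (Finset.mem_insert_self n B)]
      rw [this]; ring
    · simp
  have hsplit : (AL A L).powerset = insert ∅ ((AL A L).powerset.filter (·.Nonempty)) := by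
    ext B
    simp only [Finset.mem_insert, Finset.mem_filter, Finset.mem_powerset]
    constructor
    · intro h
      rcases B.eq_empty_or_nonempty with he | he
      exacts [Or.inl he, Or.inr ⟨h, he⟩]
    · rintro (rfl | ⟨h, -⟩)
      exacts [Finset.empty_subset _, h]
  rw [hsplit, Finset.sum_insert (by simp), hempty] at hzero
  linear_combination hzero

include hD in
theorem average {α : L → ℂ} (hα : Cfsg.IsClassFunction L α) (g : G) :
    ∑ a ∈ AL A L, α a * ((Nat.card (H (a : G)) : ℂ)⁻¹ * (cnt (H (a : G)) (a : G) g : ℂ)) =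
      (Nat.card L : ℂ) * Cfsg.dadeIsometry A L H α g := by
  have hmem : ∀ (a : L), (a : G) ∈ A → ∀ y : G, y * g * y⁻¹ * (a : G)⁻¹ ∈ H (a : G) →
      ∃ u ∈ H (a : G), y * g * y⁻¹ = (a : G) * u := by
    intro a ha y hy
    refine ⟨_, hy, ?_⟩
    rw [(commute_of_mem hD ha hy).eq, inv_mul_cancel_right]
  by_cases hg : g ∈ Dade.support A H
  swap
  · rw [Dade.dadeIsometry_eq_zero hg, mul_zero]
    refine Finset.sum_eq_zero fun a ha => ?_
    have : cnt (H (a : G)) (a : G) g = 0 := Finset.card_eq_zero.2 (Finset.filter_eq_empty_iff.2 fun {y} _ hy => by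
      obtain ⟨u, hu, e⟩ := hmem a (mem_AL.1 ha) y hy
      exact hg ⟨a, mem_AL.1 ha, u, hu, y, e⟩)
    rw [this]; simp
  obtain ⟨a₀, ha₀, u₀, hu₀, x₀, e₀⟩ := hg
  set D := Cfsg.dadeIsometry A L H α g
  have hval : ∀ a ∈ AL A L, ∀ y : G, y * g * y⁻¹ * (a : G)⁻¹ ∈ H (a : G) →
      α a = D ∧ Nat.card (H (a : G)) = Nat.card (H a₀) := by
    intro a ha y hy
    obtain ⟨u, hu, e⟩ := hmem a (mem_AL.1 ha) y hy
    refine ⟨(Dade.dadeIsometry_apply hD hα (mem_AL.1 ha) hu e).symm, ?_⟩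
    have e2 : (y * x₀⁻¹) * (a₀ * u₀) * (y * x₀⁻¹)⁻¹ = (a : G) * u := by rw [← e₀, ← e]; group
    have e3 := conj_eq hD ha₀ (mem_AL.1 ha) hu₀ hu e2
    obtain ⟨l, hl, el⟩ := hD.fusion a₀ ha₀ (y * x₀⁻¹) (e3.symm ▸ mem_AL.1 ha)
    rw [← e3, ← el, card_H_conj hD ha₀ hl]
  have hstep : ∀ a ∈ AL A L, α a * ((Nat.card (H (a : G)) : ℂ)⁻¹ * (cnt (H (a : G)) (a : G) g : ℂ)) =
      D * (Nat.card (H a₀) : ℂ)⁻¹ * (cnt (H (a : G)) (a : G) g : ℂ) := by
    intro a ha
    rcases Nat.eq_zero_or_pos (cnt (H (a : G)) (a : G) g) with h | h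
    · rw [h]; simp
    · obtain ⟨y, hy⟩ := Finset.card_pos.1 h
      obtain ⟨h1, h2⟩ := hval a ha y (Finset.mem_filter.1 hy).2
      rw [h1, h2]; ring
  rw [Finset.sum_congr rfl hstep, ← Finset.mul_sum]
  have hcount : ∑ a ∈ AL A L, cnt (H (a : G)) (a : G) g = Nat.card L * Nat.card (H a₀) := by
    simp only [cnt]
    rw [← Finset.card_sigma, ← Dade.card_transporter hD ha₀ hu₀ e₀, Nat.card_eq_fintype_card,
      Fintype.card_subtype]
    refine Finset.card_bij (fun p _ => p.2) ?_ ?_ ?_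
    · rintro ⟨a, y⟩ hp
      simp only [Finset.mem_sigma, Finset.mem_filter, Finset.mem_univ, true_and] at hp ⊢
      exact ⟨a, mem_AL.1 hp.1, hmem a (mem_AL.1 hp.1) y hp.2⟩
    · rintro ⟨a, y⟩ hp ⟨b, z⟩ hp' (h : y = z)
      subst h
      simp only [Finset.mem_sigma, Finset.mem_filter, Finset.mem_univ, true_and] at hp hp'
      obtain ⟨u, hu, e⟩ := hmem a (mem_AL.1 hp.1) y hp.2
      obtain ⟨v, hv, e'⟩ := hmem b (mem_AL.1 hp'.1) y hp'.2
      have := conj_eq hD (mem_AL.1 hp.1) (mem_AL.1 hp'.1) hu hv (g := 1) (by rw [← e, ← e']; group)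
      rw [one_mul, inv_one, mul_one] at this
      rw [Subtype.ext this]
    · intro y hy
      obtain ⟨a, ha, u, hu, e⟩ := (Finset.mem_filter.1 hy).2
      refine ⟨⟨⟨a, hD.subset ha⟩, y⟩, ?_, rfl⟩
      simp only [Finset.mem_sigma, Finset.mem_filter, Finset.mem_univ, true_and]
      refine ⟨mem_AL.2 ha, ?_⟩
      rw [e, (commute_of_mem hD ha hu).eq, mul_inv_cancel_right]
      exact hu
  rw [← Nat.cast_sum, hcount, Nat.cast_mul]
  have h1 : (Nat.card (H a₀) : ℂ) ≠ 0 := Nat.cast_ne_zero.2 Nat.card_pos.ne'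
  field_simp

include hD in
/-- The Dade map preserves generalized characters. -/
theorem gen_dade {α : L → ℂ} (hα : Cfsg.IsGeneralizedCharacter L α)
    (hαA : ∀ x : L, (x : G) ∉ A → α x = 0) :
    Cfsg.IsGeneralizedCharacter G (Cfsg.dadeIsometry A L H α) := by
  have hcl := Inner.gen_classFun hα
  set P := (AL A L).powerset.filter (·.Nonempty) with hP
  set orb : Finset L → Finset (Finset L) := fun B =>
    Finset.univ.image fun l : L => B.image fun b => l * b * l⁻¹ with horb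
  set Q := P.image orb with hQ
  choose! rep hrep using fun O (hO : O ∈ Q) => Finset.mem_image.1 hO
  have hPA : ∀ {B}, B ∈ P → B ⊆ AL A L ∧ B.Nonempty := fun h => by
    obtain ⟨h1, h2⟩ := Finset.mem_filter.1 h
    exact ⟨Finset.mem_powerset.1 h1, h2⟩
  have hcomp : ∀ (B : Finset L) (l m : L),
      (B.image fun b => m * b * m⁻¹).image (fun b => l * b * l⁻¹) = B.image fun b => l * m * b * (l * m)⁻¹ := by
    intro B l m
    rw [Finset.image_image]
    congr 1
    funext b; simp only [Function.comp_apply]; group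
  have hself : ∀ B, B ∈ orb B := fun B => Finset.mem_image.2 ⟨1, Finset.mem_univ _, by simp⟩
  have horb_eq : ∀ B B', B' ∈ orb B → orb B' = orb B := by
    intro B B' h
    obtain ⟨m, -, rfl⟩ := Finset.mem_image.1 h
    ext C
    simp only [horb, Finset.mem_image, Finset.mem_univ, true_and, hcomp]
    exact ⟨fun ⟨l, h⟩ => ⟨l * m, h⟩, fun ⟨l, h⟩ => ⟨l * m⁻¹, by rw [inv_mul_cancel_right]; exact h⟩⟩
  have hinP : ∀ B ∈ P, orb B ⊆ P := by
    intro B hB C hC
    obtain ⟨l, -, rfl⟩ := Finset.mem_image.1 hC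
    refine Finset.mem_filter.2 ⟨Finset.mem_powerset.2 fun b hb => ?_, (hPA hB).2.image _⟩
    obtain ⟨c, hc, rfl⟩ := Finset.mem_image.1 hb
    exact mem_AL.2 (by simpa using hD.conj_mem _ l.2 _ (mem_AL.1 ((hPA hB).1 hc)))
  have hfib : ∀ O ∈ Q, P.filter (fun B => orb B = O) = O := by
    intro O hO
    obtain ⟨h1, h2⟩ := hrep O hO
    ext B
    rw [Finset.mem_filter]
    constructor
    · rintro ⟨-, h⟩; exact h ▸ hself B
    · intro h
      rw [← h2] at h ⊢
      exact ⟨hinP _ h1 h, horb_eq _ _ h⟩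
  have hcard : ∀ B, (orb B).card * Nat.card (NB B) = Nat.card L := by
    intro B
    rw [Nat.card_eq_fintype_card (α := L), ← Finset.card_univ,
      Finset.card_eq_sum_card_image (fun l : L => B.image fun b => l * b * l⁻¹) Finset.univ,
      Finset.sum_congr rfl (g := fun _ => Nat.card (NB B)) fun C hC => ?_, Finset.sum_const,
      smul_eq_mul]
    obtain ⟨m, -, rfl⟩ := Finset.mem_image.1 hC
    rw [Nat.card_eq_fintype_card, ← Finset.card_univ]
    refine (Finset.card_bij (fun (n : NB B) _ => m * (n : L)) (fun n _ => ?_)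
      (fun _ _ _ _ h => Subtype.ext (mul_left_cancel h)) (fun l hl => ?_)).symm
    · simp only [Finset.mem_filter, Finset.mem_univ, true_and]
      rw [← hcomp, image_eq_of_mem_NB n.2]
    · simp only [Finset.mem_filter, Finset.mem_univ, true_and] at hl
      have hh := congrArg (fun C : Finset L => C.image fun b => m⁻¹ * b * m⁻¹⁻¹) hl
      simp only [hcomp, inv_mul_cancel, one_mul, inv_one, mul_one, Finset.image_id'] at hh
      refine ⟨⟨m⁻¹ * l, mem_NB.2 fun b => ⟨fun hb => hh ▸ Finset.mem_image.2 ⟨b, hb, rfl⟩, fun hb => ?_⟩⟩,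
        Finset.mem_univ _, mul_inv_cancel_left m l⟩
      rw [← hh] at hb
      obtain ⟨c, hc, e⟩ := Finset.mem_image.1 hb
      rwa [mul_left_cancel (mul_right_cancel e)] at hc
  have heq : Cfsg.dadeIsometry A L H α = ∑ O ∈ Q,
      if h : rep O ⊆ AL A L ∧ (rep O).Nonempty then (((-1 : ℤ) ^ ((rep O).card + 1) : ℤ) : ℂ) •
        Cfsg.indFun (MB hD h.1) (fun x => α (proj hD h.1 h.2 x)) else 0 := by
    funext g
    refine mul_left_cancel₀ (Nat.cast_ne_zero.2 (Nat.card_pos (α := L)).ne') ?_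
    rw [← average hD hcl g, ← alternating hD hαA g, ← hP,
      ← Finset.sum_fiberwise_of_maps_to (fun B hB => Finset.mem_image_of_mem orb hB), ← hQ,
      Finset.sum_apply, Finset.mul_sum]
    refine Finset.sum_congr rfl fun O hO => ?_
    obtain ⟨h1, h2⟩ := hrep O hO
    rw [hfib O hO, dif_pos (hPA h1), Pi.smul_apply, smul_eq_mul]
    have hconst : ∀ B ∈ O, (-1 : ℂ) ^ (B.card + 1) * term H α B g =
        (-1 : ℂ) ^ ((rep O).card + 1) * term H α (rep O) g := by
      intro B hB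
      rw [← h2] at hB
      obtain ⟨l, -, rfl⟩ := Finset.mem_image.1 hB
      rw [term_conj hD (hPA h1).1 hcl, Finset.card_image_of_injective _
        (fun a b h => mul_left_cancel (mul_right_cancel h))]
    rw [Finset.sum_congr rfl hconst, Finset.sum_const, nsmul_eq_mul,
      term_eq hD (hPA h1).1 (hPA h1).2, ← hcard (rep O), h2]
    push_cast
    ring
  rw [heq]
  refine Inner.gen_sum _ fun O _ => ?_
  split_ifs with h
  · exact Inner.gen_intCast_smul (gen_term hD h.1 h.2 hα) _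
  · exact Inner.gen_zero

end Setup

end Cfsg.Agent.Lib.Isometry.DadeGen
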