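import Cfsg.Agent.Lib.Isometry.Coherence
set_option autoImplicit false

/-! A coherence system whose members all have the same degree is coherent. -/

namespace Cfsg.Agent.Lib.Isometry.EqualDegree

open scoped ComplexConjugate Classical
open Cfsg.Agent.Lib.Isometry.Inner Cfsg.Agent.Lib.Isometry.Coherence
open Cfsg.Agent.Lib.Induced.Basic (classInner_add_left classInner_add_right classInner_sub_left
  classInner_sub_right classInner_smul_left classInner_smul_right classInner_conj_symm)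
open Cfsg.Agent.Lib.Characters.Basic (classInner_zero_left classInner_zero_right classInner_sum_left
  classInner_sum_right)

universe u v
variable {L : Type u} [Group L] [Fintype L] {G : Type v} [Group G] [Fintype G]
  {S : Set (L → ℂ)} {τ : (L → ℂ) → (G → ℂ)} {R : (L → ℂ) → Finset (G → ℂ)}

/-- The coefficients of `τ (χ₁ - φ)` along `R χ₁`. -/
theorem exists_coeff (hS : Cfsg.IsCoherenceSystem S τ R) {χ₁ φ : L → ℂ} {n : ℕ}
    (h₁ : χ₁ ∈ S) (hn : Cfsg.classInner χ₁ χ₁ = (n : ℂ)) (hφ : φ ∈ S)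
    (hne : φ ≠ χ₁) (hne' : φ ≠ Cfsg.conjFun χ₁)
    (hmem : χ₁ - φ ∈ Cfsg.zspanOn S {1}ᶜ) :
    ∃ x y : (G → ℂ) → ℤ, (∀ r ∈ R χ₁, x r = 0 ∨ x r = 1) ∧ ∑ r ∈ R χ₁, x r = n ∧
      (∀ r ∈ R χ₁, Cfsg.classInner (τ (χ₁ - φ)) r = x r) ∧
      τ (χ₁ - φ) = ∑ r ∈ R χ₁, (x r : ℂ) • r + ∑ r ∈ R φ, (y r : ℂ) • r := by
  set v := τ (χ₁ - φ) with hvdef
  have hv : Cfsg.IsGeneralizedCharacter G v := hS.isometry.2.2.2 _ hmem
  obtain ⟨m, hm0, hm, -, hmc⟩ := sys_norm hS hφ
  have hφc := hS.conj_mem φ hφ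
  have hne'' : Cfsg.conjFun φ ≠ χ₁ := fun e => hne' (by rw [← e, conjFun_conjFun])
  have o1 : Cfsg.classInner φ χ₁ = 0 := hS.orthogonal φ hφ χ₁ h₁ hne
  have o1' : Cfsg.classInner χ₁ φ = 0 := hS.orthogonal χ₁ h₁ φ hφ hne.symm
  have o2 : Cfsg.classInner φ (Cfsg.conjFun χ₁) = 0 :=
    hS.orthogonal φ hφ _ (hS.conj_mem χ₁ h₁) hne'
  have o3 : Cfsg.classInner χ₁ (Cfsg.conjFun φ) = 0 :=
    hS.orthogonal χ₁ h₁ _ hφc hne''.symm
  have hin : Cfsg.classInner v (τ (χ₁ - Cfsg.conjFun χ₁)) = (n : ℂ) := by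
    rw [hvdef, hS.isometry.2.2.1 _ hmem _ (sys_diff_mem hS h₁), classInner_sub_left,
      classInner_sub_right, classInner_sub_right, hn, sys_orth_conj hS h₁, o1, o2]
    ring
  have hvv : Cfsg.classInner v v = ((n + m : ℕ) : ℂ) := by
    rw [hvdef, hS.isometry.2.2.1 _ hmem _ hmem, classInner_sub_left, classInner_sub_right,
      classInner_sub_right, hn, hm, o1, o1']
    push_cast; ring
  obtain ⟨x, hx, hxge, hxsum, hres⟩ := sys_project hS h₁ hv hin
  set X := ∑ r ∈ R χ₁, (x r : ℂ) • r with hXdef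
  have hX : Cfsg.IsGeneralizedCharacter G X :=
    gen_sum _ fun r hr => gen_intCast_smul (hS.virtual χ₁ h₁ r hr) _
  obtain ⟨y, hy, hys, hyres⟩ := coeff_data (hS.orthonormal φ hφ) (hS.virtual φ hφ) (gen_sub hv hX)
  have hin2 : Cfsg.classInner (v - X) (∑ r ∈ R φ, r) = -(m : ℂ) := by
    have hzero : Cfsg.classInner X (∑ r ∈ R φ, r) = 0 := by
      rw [hXdef, classInner_sum_left]
      refine Finset.sum_eq_zero fun r hr => ?_
      rw [classInner_smul_left, classInner_sum_right,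
        Finset.sum_eq_zero fun s hs => ?_, mul_zero]
      rw [← classInner_conj_symm s r, sys_disjoint hS h₁ hφ hne hne' s hs r hr, map_zero]
    rw [classInner_sub_left, hzero, sub_zero, ← hS.sum_eq φ hφ, hvdef,
      hS.isometry.2.2.1 _ hmem _ (sys_diff_mem hS hφ), classInner_sub_left, classInner_sub_right,
      classInner_sub_right, hm, o1', o3, sys_orth_conj hS hφ]
    ring
  rw [hys] at hin2
  have hysum : ∑ r ∈ R φ, y r = -(m : ℤ) := by
    have h' : ((∑ r ∈ R φ, y r : ℤ) : ℂ) = (((-(m : ℤ)) : ℤ) : ℂ) := by rw [hin2]; simp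
    exact_mod_cast h'
  have hyge : (m : ℤ) ≤ ∑ r ∈ R φ, y r ^ 2 := by
    have := (neg_le_abs _).trans (sum_sq_ge_abs (R φ) y)
    rw [hysum] at this; linarith
  have hnn := classInner_self_re_nonneg (v - X - ∑ r ∈ R φ, (y r : ℂ) • r)
  rw [hyres, hres, hvv] at hnn
  have hle : ∑ r ∈ R χ₁, x r ^ 2 + ∑ r ∈ R φ, y r ^ 2 ≤ (n : ℤ) + m := by
    simp only [Complex.sub_re, Complex.intCast_re, Complex.natCast_re] at hnn
    push_cast at hnn
    have : ((∑ r ∈ R χ₁, x r ^ 2 + ∑ r ∈ R φ, y r ^ 2 : ℤ) : ℝ) ≤ (((n : ℤ) + m : ℤ) : ℝ) := by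
      push_cast; linarith
    exact_mod_cast this
  refine ⟨x, y, zero_one_of_sum_eq (by linarith), hxsum, hx, ?_⟩
  have h0 : v - X - ∑ r ∈ R φ, (y r : ℂ) • r = 0 := by
    apply eq_zero_of_classInner_self
    rw [hyres, hres, hvv]
    have e1 : ∑ r ∈ R χ₁, x r ^ 2 = (n : ℤ) := by linarith
    have e2 : ∑ r ∈ R φ, y r ^ 2 = (m : ℤ) := by linarith
    rw [e1, e2]; push_cast; ring
  rw [sub_sub, sub_eq_zero] at h0
  exact h0

theorem coherent_of_equal_degree (hS : Cfsg.IsCoherenceSystem S τ R)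
    (hdeg : ∀ φ ∈ S, ∀ ψ ∈ S, φ 1 = ψ 1) : Cfsg.IsCoherent S {1}ᶜ τ := by
  have hfin := finite_of_orthogonal hS.orthogonal (fun χ h => sys_ne_zero hS h)
  obtain ⟨χ₁, h₁⟩ := hS.nonempty
  obtain ⟨n, hn0, hn, hcard, hnc⟩ := sys_norm hS h₁
  have hmem : ∀ φ ∈ S, χ₁ - φ ∈ Cfsg.zspanOn S {1}ᶜ := fun φ hφ =>
    mem_zspanOn_one.2 ⟨zspan_sub (subset_zspan S h₁) (subset_zspan S hφ),
      by rw [Pi.sub_apply, hdeg χ₁ h₁ φ hφ, sub_self]⟩
  obtain ⟨x, hx01, hxsum, hxv⟩ : ∃ x : (G → ℂ) → ℤ, (∀ r ∈ R χ₁, x r = 0 ∨ x r = 1) ∧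
      ∑ r ∈ R χ₁, x r = n ∧ ∀ φ ∈ S, φ ≠ χ₁ → φ ≠ Cfsg.conjFun χ₁ →
        ∀ r ∈ R χ₁, Cfsg.classInner (τ (χ₁ - φ)) r = x r := by
    by_cases hex : ∃ φ ∈ S, φ ≠ χ₁ ∧ φ ≠ Cfsg.conjFun χ₁
    · obtain ⟨φ, hφ, hne, hne'⟩ := hex
      obtain ⟨x, y, hx01, hxsum, hx, hv⟩ := exists_coeff hS h₁ hn hφ hne hne' (hmem φ hφ)
      refine ⟨x, hx01, hxsum, fun ψ hψ kne kne' r hr => ?_⟩
      by_cases hsame : ψ = φ
      · rw [hsame]; exact hx r hr
      by_cases hconj : ψ = Cfsg.conjFun φ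
      · have e : τ (χ₁ - ψ) = τ (χ₁ - φ) + τ (φ - Cfsg.conjFun φ) := by
          rw [← hS.isometry.1 _ (hmem φ hφ) _ (sys_diff_mem hS hφ), hconj]
          congr 1; abel
        rw [e, classInner_add_left, sum_R_orth hS h₁ hφ hne hne' hr, add_zero]
        exact hx r hr
      obtain ⟨x', y', hx01', hxsum', hx', hv'⟩ := exists_coeff hS h₁ hn hψ kne kne' (hmem ψ hψ)
      rw [hx' r hr]
      have hinner : Cfsg.classInner (τ (χ₁ - φ)) (τ (χ₁ - ψ)) = (n : ℂ) := by
        rw [hS.isometry.2.2.1 _ (hmem φ hφ) _ (hmem ψ hψ), classInner_sub_left,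
          classInner_sub_right, classInner_sub_right, hn,
          hS.orthogonal φ hφ χ₁ h₁ hne, hS.orthogonal χ₁ h₁ ψ hψ (Ne.symm kne),
          hS.orthogonal φ hφ ψ hψ (Ne.symm hsame)]
        ring
      nth_rewrite 1 [hv] at hinner
      rw [classInner_add_left, classInner_sum_left, classInner_sum_left] at hinner
      have hz : ∑ s ∈ R φ, Cfsg.classInner ((y s : ℂ) • s) (τ (χ₁ - ψ)) = 0 := by
        refine Finset.sum_eq_zero fun s hs => ?_
        rw [classInner_smul_left, hv', classInner_add_right, classInner_sum_right,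
          classInner_sum_right, Finset.sum_eq_zero fun t ht => ?_,
          Finset.sum_eq_zero fun t ht => ?_, add_zero, mul_zero]
        · rw [classInner_smul_right, sys_disjoint hS hψ hφ (Ne.symm hsame)
            (fun e => hconj (by rw [e, conjFun_conjFun])) s hs t ht, mul_zero]
        · rw [classInner_smul_right, sys_disjoint hS h₁ hφ hne hne' s hs t ht, mul_zero]
      rw [hz, add_zero] at hinner
      have hprod : ∑ s ∈ R χ₁, x s * x' s = (n : ℤ) := by
        have : ((∑ s ∈ R χ₁, x s * x' s : ℤ) : ℂ) = (n : ℂ) := by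
          rw [← hinner, Int.cast_sum]
          refine Finset.sum_congr rfl fun s hs => ?_
          rw [classInner_smul_left, ← classInner_conj_symm (τ (χ₁ - ψ)) s, hx' s hs, map_intCast]
          push_cast; ring
        exact_mod_cast this
      have hterm : ∀ s ∈ R χ₁, 0 ≤ x s - x s * x' s ∧ 0 ≤ x' s - x s * x' s := by
        intro s hs
        rcases hx01 s hs with h | h <;> rcases hx01' s hs with h' | h' <;> simp [h, h']
      have h1 : ∑ s ∈ R χ₁, (x s - x s * x' s) = 0 := by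
        rw [Finset.sum_sub_distrib, hxsum, hprod, sub_self]
      have h2 : ∑ s ∈ R χ₁, (x' s - x s * x' s) = 0 := by
        rw [Finset.sum_sub_distrib, hxsum', hprod, sub_self]
      have e1 := (Finset.sum_eq_zero_iff_of_nonneg fun s hs => (hterm s hs).1).1 h1 r hr
      have e2 := (Finset.sum_eq_zero_iff_of_nonneg fun s hs => (hterm s hs).2).1 h2 r hr
      exact_mod_cast (show x' r = x r by linarith)
    · obtain ⟨E, hE, hEcard⟩ := Finset.exists_subset_card_eq (s := R χ₁) (n := n) (by omega)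
      refine ⟨fun r => if r ∈ E then 1 else 0, fun r _ => by by_cases h : r ∈ E <;> simp [h], ?_,
        fun φ hφ h h' => absurd ⟨φ, hφ, h, h'⟩ hex⟩
      rw [Finset.sum_boole, Finset.filter_mem_eq_inter, Finset.inter_eq_right.2 hE, hEcard]
  set X := ∑ r ∈ R χ₁, (x r : ℂ) • r with hXdef
  have hX : Cfsg.IsGeneralizedCharacter G X :=
    gen_sum _ fun r hr => gen_intCast_smul (hS.virtual χ₁ h₁ r hr) _
  have hXr : ∀ r ∈ R χ₁, Cfsg.classInner X r = x r := by
    intro r hr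
    rw [hXdef, classInner_sum_left, Finset.sum_eq_single r
      (fun s hs hne => by
        rw [classInner_smul_left, hS.orthonormal χ₁ h₁ s hs r hr, if_neg hne, mul_zero])
      (fun h => absurd hr h), classInner_smul_left, hS.orthonormal χ₁ h₁ r hr r hr, if_pos rfl,
      mul_one]
  have hsq : ∑ r ∈ R χ₁, (x r : ℂ) * x r = (n : ℂ) := by
    have : ∑ r ∈ R χ₁, x r * x r = (n : ℤ) := by
      rw [← hxsum]
      exact Finset.sum_congr rfl fun r hr => by rcases hx01 r hr with h | h <;> simp [h]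
    exact_mod_cast congrArg (Int.cast : ℤ → ℂ) this
  have hXX : Cfsg.classInner X X = (n : ℂ) := by
    nth_rewrite 1 [hXdef]
    rw [classInner_sum_left, ← hsq]
    exact Finset.sum_congr rfl fun r hr => by
      rw [classInner_smul_left, ← classInner_conj_symm X r, hXr r hr, map_intCast]
  have hXτ : ∀ φ ∈ S, Cfsg.classInner X (τ (χ₁ - φ)) = Cfsg.classInner χ₁ (χ₁ - φ) := by
    intro φ hφ
    by_cases h : φ = χ₁
    · rw [h, sub_self, iso_zero hS.isometry, classInner_zero_right, classInner_zero_right]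
    rw [classInner_sub_right χ₁, hn, hS.orthogonal χ₁ h₁ φ hφ (Ne.symm h), sub_zero]
    by_cases h' : φ = Cfsg.conjFun χ₁
    · rw [h', hS.sum_eq χ₁ h₁, classInner_sum_right, Finset.sum_congr rfl hXr]
      exact_mod_cast hxsum
    · rw [hXdef, classInner_sum_left, ← hsq]
      exact Finset.sum_congr rfl fun r hr => by
        rw [classInner_smul_left, ← classInner_conj_symm (τ (χ₁ - φ)) r, hxv φ hφ h h' r hr,
          map_intCast]
  set S₀ := hfin.toFinset with hS₀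
  have hcoe : (↑S₀ : Set (L → ℂ)) = S := hfin.coe_toFinset
  have hm : ∀ {φ : L → ℂ}, φ ∈ S₀ → φ ∈ S := fun h => hfin.mem_toFinset.1 h
  rw [← hcoe]
  refine coherent_of_images (fun a ha b hb => hS.orthogonal a (hm ha) b (hm hb))
    (fun a ha => sys_ne_zero hS (hm ha)) (fun φ => X - τ (χ₁ - φ))
    (fun φ hφ => gen_sub hX (hS.isometry.2.2.2 _ (hmem φ (hm hφ)))) ?_ ?_ ?_
  · intro φ hφ ψ hψ
    have e := hXτ φ (hm hφ)
    have e' : Cfsg.classInner (τ (χ₁ - φ)) X = Cfsg.classInner (χ₁ - φ) χ₁ := by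
      rw [← classInner_conj_symm X, e, classInner_conj_symm]
    rw [classInner_sub_left, classInner_sub_right, classInner_sub_right, hXX, hXτ ψ (hm hψ), e',
      hS.isometry.2.2.1 _ (hmem φ (hm hφ)) _ (hmem ψ (hm hψ)), ← hn]
    simp only [classInner_sub_left, classInner_sub_right]
    ring
  · exact exists_ne_zero_zspanOn hS h₁ (by rw [hcoe]; exact h₁)
      (by rw [hcoe]; exact hS.conj_mem χ₁ h₁)
  · intro T hT α hα
    rw [hcoe] at hα
    obtain ⟨hαs, hα1⟩ := mem_zspanOn_one.1 hα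
    set D := (fun φ => χ₁ - φ) '' S with hD
    have key : ∀ β ∈ Cfsg.zspan S, ∃ k : ℤ, β - (k : ℂ) • χ₁ ∈ Submodule.span ℤ D ∧ β 1 = k * χ₁ 1 := by
      intro β hβ
      induction hβ using Submodule.span_induction with
      | mem z hz =>
        refine ⟨1, ?_, by rw [Int.cast_one, one_mul, hdeg z hz χ₁ h₁]⟩
        rw [Int.cast_one, one_smul, ← neg_sub]
        exact (Submodule.span ℤ D).neg_mem (Submodule.subset_span ⟨z, hz, rfl⟩)
      | zero => exact ⟨0, by simpa using (Submodule.span ℤ D).zero_mem, by simp⟩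
      | add a b _ _ iha ihb =>
        obtain ⟨k, hk, hk1⟩ := iha
        obtain ⟨l, hl, hl1⟩ := ihb
        refine ⟨k + l, ?_, by rw [Pi.add_apply, hk1, hl1]; push_cast; ring⟩
        have := (Submodule.span ℤ D).add_mem hk hl
        convert this using 1
        push_cast; rw [add_smul]; abel
      | smul c a _ iha =>
        obtain ⟨k, hk, hk1⟩ := iha
        refine ⟨c * k, ?_, by rw [Pi.smul_apply, hk1, zsmul_eq_mul]; push_cast; ring⟩
        have := (Submodule.span ℤ D).smul_mem c hk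
        convert this using 1
        rw [smul_sub, Int.cast_mul, mul_smul, Int.cast_smul_eq_zsmul ℂ c]
    obtain ⟨k, hk, hk1⟩ := key α hαs
    rw [hα1] at hk1
    have hk0 : (k : ℂ) = 0 := (mul_eq_zero.1 hk1.symm).resolve_right (sys_one_ne_zero hS h₁)
    rw [hk0, zero_smul, sub_zero] at hk
    refine agree_span hS.isometry T (D := D) ?_ ?_ hk
    · rintro _ ⟨φ, hφ, rfl⟩; exact hmem φ hφ
    · rintro _ ⟨φ, hφ, rfl⟩
      rw [map_sub, hT χ₁ (hfin.mem_toFinset.2 h₁), hT φ (hfin.mem_toFinset.2 hφ)]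
      show X - τ (χ₁ - χ₁) - (X - τ (χ₁ - φ)) = _
      rw [sub_self, iso_zero hS.isometry]; abel

end Cfsg.Agent.Lib.Isometry.EqualDegree
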