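import Cfsg.Agent.Lib.Isometry.Criterion
import Cfsg.Agent.Lib.Isometry.EqualDegree
set_option autoImplicit false

/-! Iterating the extension criterion over many characters. -/

namespace Cfsg.Agent.Lib.Isometry.Iterate

open scoped ComplexConjugate Classical
open Cfsg.Agent.Lib.Isometry.Inner Cfsg.Agent.Lib.Isometry.Coherence

universe u v
variable {L : Type u} [Group L] [Fintype L] {G : Type v} [Group G] [Fintype G]
  {S : Set (L → ℂ)} {τ : (L → ℂ) → (G → ℂ)} {R : (L → ℂ) → Finset (G → ℂ)}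

/-- A coherence system restricts to a nonempty conjugation-closed subset. -/
theorem sys_mono (hS : Cfsg.IsCoherenceSystem S τ R) {U : Set (L → ℂ)} (hU : U ⊆ S)
    (hne : U.Nonempty) (hc : ∀ χ ∈ U, Cfsg.conjFun χ ∈ U) : Cfsg.IsCoherenceSystem U τ R where
  nonempty := hne
  isCharacter χ h := hS.isCharacter χ (hU h)
  conj_mem := hc
  conj_ne χ h := hS.conj_ne χ (hU h)
  isometry := by
    have h := zspanOn_mono ({1}ᶜ : Set L) hU
    exact ⟨fun a ha b hb => hS.isometry.1 a (h ha) b (h hb),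
      fun a ha n => hS.isometry.2.1 a (h ha) n,
      fun a ha b hb => hS.isometry.2.2.1 a (h ha) b (h hb),
      fun a ha => hS.isometry.2.2.2 a (h ha)⟩
  map_one a ha := hS.map_one a (zspanOn_mono _ hU ha)
  orthogonal a ha b hb := hS.orthogonal a (hU ha) b (hU hb)
  orthonormal a ha := hS.orthonormal a (hU ha)
  virtual a ha := hS.virtual a (hU ha)
  sum_eq a ha := hS.sum_eq a (hU ha)
  disjoint a ha b hb := hS.disjoint a (hU ha) b (hU hb)

/-- Adjoining a conjugation-closed set, with norms. -/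
theorem extend_many_norm (hS : Cfsg.IsCoherenceSystem S τ R) (d n : (L → ℂ) → ℕ)
    (hd : ∀ φ ∈ S, φ 1 = (d φ : ℂ)) (hn : ∀ φ ∈ S, Cfsg.classInner φ φ = (n φ : ℂ))
    (S₁ : Finset (L → ℂ)) (hS₁ : ↑S₁ ⊆ S) (hS₁c : ∀ φ ∈ S₁, Cfsg.conjFun φ ∈ S₁)
    (hcoh : Cfsg.IsCoherent (↑S₁ : Set (L → ℂ)) {1}ᶜ τ) {χ₁ : L → ℂ} (h₁ : χ₁ ∈ S₁)
    (U : Finset (L → ℂ)) (hU : ↑U ⊆ S) (hUc : ∀ φ ∈ U, Cfsg.conjFun φ ∈ U)
    (hb : ∀ φ ∈ U, φ ∉ S₁ → d χ₁ ∣ d φ ∧ (2 * d φ * d χ₁ : ℝ) < ∑ ξ ∈ S₁, ((d ξ : ℝ) ^ 2 / (n ξ : ℝ))) :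
    Cfsg.IsCoherent (↑(S₁ ∪ U) : Set (L → ℂ)) {1}ᶜ τ := by
  suffices h : ∀ k : ℕ, ∀ A : Finset (L → ℂ), S₁ ⊆ A → ↑A ⊆ S →
      (∀ φ ∈ A, Cfsg.conjFun φ ∈ A) → Cfsg.IsCoherent (↑A : Set (L → ℂ)) {1}ᶜ τ →
      (U \ A).card = k → Cfsg.IsCoherent (↑(A ∪ U) : Set (L → ℂ)) {1}ᶜ τ from
    h _ S₁ (Finset.Subset.refl _) hS₁ hS₁c hcoh rfl
  intro k
  induction k using Nat.strong_induction_on with
  | _ k ih =>
    intro A hA1 hAS hAc hAcoh hk
    rcases (U \ A).eq_empty_or_nonempty with he | ⟨χ, hχ⟩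
    · rwa [Finset.union_eq_left.2 (Finset.sdiff_eq_empty_iff_subset.1 he)]
    · obtain ⟨hχU, hχA⟩ := Finset.mem_sdiff.1 hχ
      have hχA' : Cfsg.conjFun χ ∉ A := fun h => hχA (by simpa [conjFun_conjFun] using hAc _ h)
      obtain ⟨hdvd, hlt⟩ := hb χ hχU fun h => hχA (hA1 h)
      have hlt' : (2 * d χ * d χ₁ : ℝ) < ∑ ξ ∈ A, ((d ξ : ℝ) ^ 2 / (n ξ : ℝ)) :=
        hlt.trans_le (Finset.sum_le_sum_of_subset_of_nonneg hA1 fun ξ _ _ => by positivity)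
      have hext := Criterion.coherent_extend hS d n hd hn A hAS hAc hAcoh (hU hχU) hχA hχA' (hA1 h₁)
        hdvd hlt'
      set B := insert χ (insert (Cfsg.conjFun χ) A) with hB
      have hBcoe : (↑B : Set (L → ℂ)) = ↑A ∪ {χ, Cfsg.conjFun χ} := by ext y; simp [hB]
      have hBU : B ∪ U = A ∪ U := by
        ext y
        simp only [hB, Finset.mem_union, Finset.mem_insert]
        constructor
        · rintro ((rfl | rfl | h) | h)
          exacts [Or.inr hχU, Or.inr (hUc χ hχU), Or.inl h, Or.inr h]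
        · rintro (h | h)
          exacts [Or.inl (Or.inr (Or.inr h)), Or.inr h]
      have hlt2 : (U \ B).card < k := by
        rw [← hk]
        refine Finset.card_lt_card (Finset.ssubset_iff_of_subset ?_ |>.2 ⟨χ, hχ, by simp [hB]⟩)
        exact Finset.sdiff_subset_sdiff (Finset.Subset.refl U) (fun y h => by simp [hB, h])
      rw [← hBU]
      refine ih _ hlt2 B (fun y h => by simp [hB, hA1 h]) ?_ ?_ (hBcoe ▸ hext) rfl
      · intro y hy
        simp only [hB, Finset.mem_coe, Finset.mem_insert] at hy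
        rcases hy with rfl | rfl | h
        exacts [hU hχU, hU (hUc χ hχU), hAS h]
      · intro y hy
        simp only [hB, Finset.mem_insert] at hy ⊢
        rcases hy with rfl | rfl | h
        · exact Or.inr (Or.inl rfl)
        · exact Or.inl (conjFun_conjFun χ)
        · exact Or.inr (Or.inr (hAc _ h))

/-- Adjoining a conjugation-closed set all of whose degrees are below half the bound. -/
theorem extend_many (hS : Cfsg.IsCoherenceSystem S τ R) (d : (L → ℂ) → ℕ)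
    (hd : ∀ φ ∈ S, φ 1 = (d φ : ℂ)) (hn : ∀ φ ∈ S, Cfsg.classInner φ φ = 1)
    (S₁ : Finset (L → ℂ)) (hS₁ : ↑S₁ ⊆ S) (hS₁c : ∀ φ ∈ S₁, Cfsg.conjFun φ ∈ S₁)
    (hcoh : Cfsg.IsCoherent (↑S₁ : Set (L → ℂ)) {1}ᶜ τ) {χ₁ : L → ℂ} (h₁ : χ₁ ∈ S₁)
    (U : Finset (L → ℂ)) (hU : ↑U ⊆ S) (hUc : ∀ φ ∈ U, Cfsg.conjFun φ ∈ U)
    (hb : ∀ φ ∈ U, φ ∉ S₁ → d χ₁ ∣ d φ ∧ 2 * d φ * d χ₁ < ∑ ξ ∈ S₁, d ξ ^ 2) :
    Cfsg.IsCoherent (↑(S₁ ∪ U) : Set (L → ℂ)) {1}ᶜ τ :=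
  extend_many_norm hS d (fun _ => 1) hd (fun φ h => by rw [hn φ h, Nat.cast_one]) S₁ hS₁ hS₁c hcoh
    h₁ U hU hUc fun φ h h' => ⟨(hb φ h h').1, by
      simp only [Nat.cast_one, div_one]; exact_mod_cast (hb φ h h').2⟩

/-- A set whose degrees are a fixed number times powers of an odd prime, with the divisibility
shared by the layers of a `p`-group, is coherent. -/
theorem coherent_pPower (U : Finset (L → ℂ))
    (hS : Cfsg.IsCoherenceSystem (↑U : Set (L → ℂ)) τ R)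
    (hn : ∀ φ ∈ U, Cfsg.classInner φ φ = 1) (e p : ℕ) (he : 0 < e) (hp : 3 ≤ p)
    (k : (L → ℂ) → ℕ) (hd : ∀ φ ∈ U, φ 1 = ((e * p ^ k φ : ℕ) : ℂ))
    (hdiv : ∀ φ ∈ U, p ^ (2 * k φ) ∣ ∑ ξ ∈ U, p ^ (2 * k ξ)) :
    Cfsg.IsCoherent (↑U : Set (L → ℂ)) {1}ᶜ τ := by
  obtain ⟨χ₁, h₁, hmin⟩ := Finset.exists_min_image U k
    (by obtain ⟨χ, hχ⟩ := hS.nonempty; exact ⟨χ, hχ⟩)
  have hp0 : 0 < p := by omega
  have hconj : ∀ φ ∈ U, Cfsg.conjFun φ ∈ U := fun φ h =>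
    Finset.mem_coe.1 (hS.conj_mem φ (Finset.mem_coe.2 h))
  have hkc : ∀ φ ∈ U, k (Cfsg.conjFun φ) = k φ := by
    intro φ h
    have h' := sys_conj_one hS (Finset.mem_coe.2 h)
    rw [hd φ h, hd _ (hconj φ h)] at h'
    exact Nat.pow_right_injective (show 2 ≤ p by omega) (Nat.eq_of_mul_eq_mul_left he (by exact_mod_cast h'))
  let A : ℕ → Finset (L → ℂ) := fun j => U.filter fun φ => k φ ≤ j
  have hAsub : ∀ j, (↑(A j) : Set (L → ℂ)) ⊆ ↑U := fun j =>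
    Finset.coe_subset.2 (Finset.filter_subset _ _)
  have hAc : ∀ j, ∀ φ ∈ A j, Cfsg.conjFun φ ∈ A j := by
    intro j φ h
    obtain ⟨h, h'⟩ := Finset.mem_filter.1 h
    exact Finset.mem_filter.2 ⟨hconj φ h, by rw [hkc φ h]; exact h'⟩
  have h₁A : ∀ j, k χ₁ ≤ j → χ₁ ∈ A j := fun j hj => Finset.mem_filter.2 ⟨h₁, hj⟩
  have key : ∀ i, Cfsg.IsCoherent (↑(A (k χ₁ + i)) : Set (L → ℂ)) {1}ᶜ τ := by
    intro i
    induction i with
    | zero =>
      refine EqualDegree.coherent_of_equal_degree (R := R)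
        (sys_mono hS (hAsub _) ⟨χ₁, h₁A _ le_rfl⟩ (hAc _)) ?_
      intro φ hφ ψ hψ
      obtain ⟨hφ, hφ'⟩ := Finset.mem_filter.1 (Finset.mem_coe.1 hφ)
      obtain ⟨hψ, hψ'⟩ := Finset.mem_filter.1 (Finset.mem_coe.1 hψ)
      rw [hd φ hφ, hd ψ hψ, show k φ = k χ₁ from le_antisymm (by simpa using hφ') (hmin φ hφ),
        show k ψ = k χ₁ from le_antisymm (by simpa using hψ') (hmin ψ hψ)]
    | succ i ih =>
      set j := k χ₁ + i with hj
      have hunion : A (j + 1) = A j ∪ A (j + 1) :=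
        (Finset.union_eq_right.2 fun φ h => Finset.mem_filter.2
          ⟨(Finset.mem_filter.1 h).1, (Finset.mem_filter.1 h).2.trans (Nat.le_succ j)⟩).symm
      rw [show k χ₁ + (i + 1) = j + 1 by omega, hunion]
      refine extend_many hS (fun φ => e * p ^ k φ) hd hn (A j) (hAsub _) (hAc _) ih
        (h₁A j (by omega)) (A (j + 1)) (hAsub _) (hAc _) ?_
      intro φ hφ hφ'
      obtain ⟨hφU, hφk⟩ := Finset.mem_filter.1 hφ
      have hkφ : k φ = j + 1 := by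
        by_contra hne
        exact hφ' (Finset.mem_filter.2 ⟨hφU, by omega⟩)
      refine ⟨Nat.mul_dvd_mul_left e (Nat.pow_dvd_pow p (hmin φ hφU)), ?_⟩
      show 2 * (e * p ^ k φ) * (e * p ^ k χ₁) < ∑ ξ ∈ A j, (e * p ^ k ξ) ^ 2
      have hsum : ∑ ξ ∈ A j, (e * p ^ k ξ) ^ 2 = e ^ 2 * ∑ ξ ∈ A j, p ^ (2 * k ξ) := by
        rw [Finset.mul_sum]
        refine Finset.sum_congr rfl fun ξ _ => ?_
        rw [mul_pow, ← pow_mul, mul_comm (k ξ) 2]
      rw [hsum]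
      have hsplit := Finset.sum_filter_add_sum_filter_not U (fun ξ => k ξ ≤ j)
        (fun ξ => p ^ (2 * k ξ))
      have hhi : p ^ (2 * (j + 1)) ∣ ∑ ξ ∈ U.filter (fun ξ => ¬ k ξ ≤ j), p ^ (2 * k ξ) :=
        Finset.dvd_sum fun ξ h => Nat.pow_dvd_pow p (by have := (Finset.mem_filter.1 h).2; omega)
      have hall := hdiv φ hφU
      rw [← hsplit, hkφ] at hall
      have hlo : p ^ (2 * (j + 1)) ≤ ∑ ξ ∈ A j, p ^ (2 * k ξ) :=
        Nat.le_of_dvd (Finset.sum_pos (fun ξ _ => by positivity) ⟨χ₁, h₁A j (by omega)⟩)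
          ((Nat.dvd_add_iff_left hhi).2 hall)
      refine lt_of_lt_of_le ?_ (Nat.mul_le_mul_left _ hlo)
      rw [hkφ]
      have hpow : p ^ (2 * (j + 1)) = p ^ (j + 1) * (p ^ k χ₁ * p ^ (j + 1 - k χ₁)) := by
        rw [← pow_add, ← pow_add]; congr 1; omega
      have hbig : 2 < p ^ (j + 1 - k χ₁) :=
        lt_of_lt_of_le (by omega : 2 < p) (Nat.le_self_pow (by omega) p)
      calc 2 * (e * p ^ (j + 1)) * (e * p ^ k χ₁) = e ^ 2 * (p ^ (j + 1) * (p ^ k χ₁ * 2)) := by ring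
        _ < e ^ 2 * (p ^ (j + 1) * (p ^ k χ₁ * p ^ (j + 1 - k χ₁))) := by
            have : 0 < e ^ 2 * (p ^ (j + 1) * p ^ k χ₁) := by positivity
            calc e ^ 2 * (p ^ (j + 1) * (p ^ k χ₁ * 2)) = e ^ 2 * (p ^ (j + 1) * p ^ k χ₁) * 2 := by ring
              _ < e ^ 2 * (p ^ (j + 1) * p ^ k χ₁) * p ^ (j + 1 - k χ₁) := by gcongr
              _ = _ := by ring
        _ = e ^ 2 * p ^ (2 * (j + 1)) := by rw [hpow]
  have hfin := key (U.sup k)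
  have hall : A (k χ₁ + U.sup k) = U := Finset.filter_eq_self.2 fun φ h => by
    have := Finset.le_sup (f := k) h
    omega
  rwa [hall] at hfin

end Cfsg.Agent.Lib.Isometry.Iterate
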