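import Cfsg.Agent.Lib.Isometry.Inner
import Cfsg.Agent.Lib.Clifford.Basic
import Cfsg.Agent.Lib.Induced.Mackey
import Cfsg.Agent.Lib.Characters.Linear
set_option autoImplicit false

/-! Clifford correspondence and constituents of induction to a group with abelian quotient. -/

namespace Cfsg.Agent.Lib.Isometry.Clifford

open scoped ComplexConjugate Classical
open Cfsg.Agent.Lib.Induced.Basic (classInner_add_left classInner_add_right classInner_sub_left
  classInner_smul_left classInner_smul_right classInner_conj_symm isClassFunction_indFun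
  frobenius_reciprocity frobenius_reciprocity')
open Cfsg.Agent.Lib.Clifford.Basic (conjC inertia mem_inertia exists_correspondent
  exists_eq_nsmul_add exists_constituent)
open Cfsg.Agent.Lib.Characters.Basic (IsCharacter_of_isIrrCharacter isCharacter_comp
  exists_classInner_nat isClassFunction_of_isCharacter classInner_sum_left classInner_sum_right
  classInner_zero_left)

universe u

/-! ### Sums over the dual of a commutative finite group -/

section Dual
variable {Q : Type u} [CommGroup Q] [Finite Q]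

theorem finite_dual : Finite (Q →* ℂˣ) := by
  obtain ⟨e⟩ := CommGroup.monoidHom_mulEquiv_of_hasEnoughRootsOfUnity Q ℂ
  exact Finite.of_equiv _ e.toEquiv.symm

theorem sum_dual [Fintype (Q →* ℂˣ)] (q : Q) :
    ∑ l : Q →* ℂˣ, (l q : ℂ) = if q = 1 then (Nat.card Q : ℂ) else 0 := by
  split_ifs with h
  · subst h
    simp only [map_one, Units.val_one, Finset.sum_const, Finset.card_univ, nsmul_eq_mul, mul_one]
    rw [← Nat.card_eq_fintype_card, CommGroup.card_monoidHom_of_hasEnoughRootsOfUnity Q ℂ]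
  · obtain ⟨l₀, hl₀⟩ := CommGroup.exists_apply_ne_one_of_hasEnoughRootsOfUnity Q ℂ h
    have e : (l₀ q : ℂ) * ∑ l : Q →* ℂˣ, (l q : ℂ) = ∑ l : Q →* ℂˣ, (l q : ℂ) := by
      rw [Finset.mul_sum]
      exact Fintype.sum_equiv (Equiv.mulLeft l₀) _ _ fun l => by simp
    refine (mul_eq_zero.1 (show ((l₀ q : ℂ) - 1) * _ = 0 by linear_combination e)).resolve_left ?_
    exact fun h1 => hl₀ (Units.ext (sub_eq_zero.1 h1))

end Dual

variable {G : Type u} [Group G]

/-- Orthogonality for the linear characters of an abelian quotient. -/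
theorem exists_dual [Finite G] (N : Subgroup G) [N.Normal]
    (hab : ∀ x y : G, x * y * x⁻¹ * y⁻¹ ∈ N) :
    ∃ Λ : Finset (G →* ℂˣ), Λ.card = N.index ∧ (∀ l ∈ Λ, ∀ n ∈ N, l n = 1) ∧
      ∀ g : G, ∑ l ∈ Λ, (l g : ℂ) = if g ∈ N then (N.index : ℂ) else 0 := by
  letI cg : CommGroup (G ⧸ N) :=
    { (inferInstance : Group (G ⧸ N)) with
      mul_comm := fun a b => by
        obtain ⟨x, rfl⟩ := QuotientGroup.mk'_surjective N a
        obtain ⟨y, rfl⟩ := QuotientGroup.mk'_surjective N b
        rw [← map_mul, ← map_mul]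
        refine QuotientGroup.eq.2 ?_
        have := hab y⁻¹ x⁻¹
        simpa [mul_assoc] using this }
  have := finite_dual (Q := G ⧸ N)
  have := Fintype.ofFinite ((G ⧸ N) →* ℂˣ)
  have hinj : Function.Injective fun l : (G ⧸ N) →* ℂˣ => l.comp (QuotientGroup.mk' N) :=
    fun a b h => MonoidHom.ext fun x => by
      obtain ⟨x, rfl⟩ := QuotientGroup.mk'_surjective N x
      exact DFunLike.congr_fun h x
  refine ⟨Finset.univ.map ⟨_, hinj⟩, ?_, ?_, fun g => ?_⟩
  · rw [Finset.card_map, Finset.card_univ, ← Nat.card_eq_fintype_card,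
      CommGroup.card_monoidHom_of_hasEnoughRootsOfUnity (G ⧸ N) ℂ, Subgroup.index_eq_card]
  · intro l hl n hn
    obtain ⟨l, -, rfl⟩ := Finset.mem_map.1 hl
    show l (QuotientGroup.mk' N n) = 1
    rw [show QuotientGroup.mk' N n = 1 from (QuotientGroup.eq_one_iff n).2 hn, map_one]
  · rw [Finset.sum_map]
    show ∑ l : (G ⧸ N) →* ℂˣ, (l (QuotientGroup.mk' N g) : ℂ) = _
    rw [sum_dual, Subgroup.index_eq_card]
    simp only [QuotientGroup.mk'_apply, QuotientGroup.eq_one_iff]

theorem conj_eq_iff_mem_inertia (H : Subgroup G) [hN : H.Normal] (θ : H → ℂ) (g : G) :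
    (∀ h : H, θ ⟨g * h * g⁻¹, hN.conj_mem h h.2 g⟩ = θ h) ↔ g ∈ inertia H θ :=
  ⟨fun h => funext h, fun h x => congrFun h x⟩

theorem eq_inertia (H : Subgroup G) [hN : H.Normal] (θ : H → ℂ) {T : Subgroup G}
    (hT : ∀ g : G, g ∈ T ↔ ∀ h : H, θ ⟨g * h * g⁻¹, hN.conj_mem h h.2 g⟩ = θ h) :
    T = inertia H θ :=
  Subgroup.ext fun g => (hT g).trans (conj_eq_iff_mem_inertia H θ g)

variable [Fintype G]

/-- The Clifford correspondence: irreducible characters of the inertia group over `θ` induce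
irreducibly and injectively. -/
theorem correspondence (H T : Subgroup G) [H.Normal] [Fintype H] [Fintype T]
    (θ : Cfsg.IrrCharacter H) (hT : T = inertia H (θ : H → ℂ)) (hHT : H ≤ T)
    {ψ : T → ℂ} (hψ : Cfsg.IsIrrCharacter T ψ)
    (hc : Cfsg.classInner (fun h : H => ψ ⟨(h : G), hHT h.2⟩) θ ≠ 0) :
    Cfsg.IsIrrCharacter G (Cfsg.indFun T ψ) ∧
      ∀ ψ' : T → ℂ, Cfsg.IsIrrCharacter T ψ' →
        Cfsg.classInner (fun h : H => ψ' ⟨(h : G), hHT h.2⟩) θ ≠ 0 →
        Cfsg.indFun T ψ = Cfsg.indFun T ψ' → ψ = ψ' := by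
  let ι : H →* T := Subgroup.inclusion hHT
  have main : ∀ φ : T → ℂ, Cfsg.IsIrrCharacter T φ →
      Cfsg.classInner (fun h : H => φ ⟨(h : G), hHT h.2⟩) θ ≠ 0 →
      ∀ χ : Cfsg.IrrCharacter G, Cfsg.classInner (Cfsg.indFun T φ) (χ : G → ℂ) ≠ 0 →
        Cfsg.indFun T φ = (χ : G → ℂ) ∧ ∀ ψ'' : T → ℂ, Cfsg.IsIrrCharacter T ψ'' →
          Cfsg.indFun T ψ'' = (χ : G → ℂ) →
          Cfsg.classInner (fun h : H => ψ'' ⟨(h : G), hHT h.2⟩) θ =
            Cfsg.classInner (fun h : H => (χ : G → ℂ) h) θ → φ = ψ'' := by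
    intro φ hφ hφc χ hχ
    have hres : Cfsg.classInner (fun t : T => (χ : G → ℂ) t) φ ≠ 0 := by
      rw [frobenius_reciprocity _ _ (Characters.Basic.isClassFunction_irr χ)] at hχ
      exact Clifford.Basic.classInner_ne_zero_symm hχ
    obtain ⟨m, r, hr, hm, -, hdec⟩ := exists_eq_nsmul_add
      (isCharacter_comp T.subtype (Characters.Basic.isCharacter_irr χ)) ⟨φ, hφ⟩
    have hm0 : m ≠ 0 := fun h => hres (by rw [h, Nat.cast_zero] at hm; exact hm)
    obtain ⟨k, hk⟩ := exists_classInner_nat (isCharacter_comp ι (IsCharacter_of_isIrrCharacter hφ))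
      (IsCharacter_of_isIrrCharacter θ.2)
    have hk0 : k ≠ 0 := fun h => hφc (by rw [h, Nat.cast_zero] at hk; exact hk)
    obtain ⟨k', hk'⟩ := exists_classInner_nat (isCharacter_comp ι hr)
      (IsCharacter_of_isIrrCharacter θ.2)
    have hsplit : Cfsg.classInner (fun h : H => (χ : G → ℂ) h) θ = ((m * k + k' : ℕ) : ℂ) := by
      have e : (fun h : H => (χ : G → ℂ) h) = m • (φ ∘ ι) + r ∘ ι := by
        funext h
        exact congrFun hdec (ι h)
      rw [e, classInner_add_left, Clifford.Basic.classInner_nsmul_left, hk, hk']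
      push_cast; ring
    have hθχ : Cfsg.classInner (fun h : H => (χ : G → ℂ) h) θ ≠ 0 := by
      rw [hsplit]
      have : 0 < m * k := Nat.mul_pos (Nat.pos_of_ne_zero hm0) (Nat.pos_of_ne_zero hk0)
      exact_mod_cast (show m * k + k' ≠ 0 by omega)
    have uniq : ∀ ψ'' : T → ℂ, Cfsg.IsIrrCharacter T ψ'' → Cfsg.indFun T ψ'' = (χ : G → ℂ) →
          Cfsg.classInner (fun h : H => ψ'' ⟨(h : G), hHT h.2⟩) θ =
            Cfsg.classInner (fun h : H => (χ : G → ℂ) h) θ → φ = ψ'' := by
      intro ψ'' h'' hind heq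
      by_contra hne
      have hψres : Cfsg.classInner (fun t : T => (χ : G → ℂ) t) ψ'' ≠ 0 := by
        rw [← frobenius_reciprocity' _ _ (Characters.Basic.isClassFunction_irr χ), hind,
          Characters.Basic.classInner_self_irr χ]
        exact one_ne_zero
      have hrψ : Cfsg.classInner r ψ'' ≠ 0 := by
        have e2 : (fun t : T => (χ : G → ℂ) t) = m • φ + r := hdec
        rw [e2, classInner_add_left, Clifford.Basic.classInner_nsmul_left,
          Inner.classInner_irr_eq hφ h'', if_neg hne, mul_zero, zero_add] at hψres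
        exact hψres
      obtain ⟨m', r', hr', hm', -, hdec'⟩ := exists_eq_nsmul_add hr ⟨ψ'', h''⟩
      have hm'0 : m' ≠ 0 := fun h => hrψ (by rw [h, Nat.cast_zero] at hm'; exact hm')
      obtain ⟨j, hj⟩ := exists_classInner_nat (isCharacter_comp ι hr') (IsCharacter_of_isIrrCharacter θ.2)
      have e : (k' : ℂ) = (m' : ℂ) * ((m * k + k' : ℕ) : ℂ) + j := by
        rw [← hsplit, ← heq, ← hk', ← hj,
          show r ∘ ι = m' • (ψ'' ∘ ι) + r' ∘ ι from funext fun h => congrFun hdec' (ι h),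
          classInner_add_left, Clifford.Basic.classInner_nsmul_left]
        rfl
      have e' : k' = m' * (m * k + k') + j := by exact_mod_cast e
      have : 1 * (m * k + k') ≤ m' * (m * k + k') := Nat.mul_le_mul_right _ (by omega)
      have : 0 < m * k := Nat.mul_pos (Nat.pos_of_ne_zero hm0) (Nat.pos_of_ne_zero hk0)
      omega
    obtain ⟨ψ₀, hψ₀, hind, hres₀, -⟩ := exists_correspondent H χ.2 θ hθχ T hT hHT
    have : φ = ψ₀ := uniq ψ₀ hψ₀ hind (by
      rw [hres₀, classInner_smul_left, Characters.Basic.classInner_self_irr θ, mul_one])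
    exact ⟨this ▸ hind, uniq⟩
  have hcharind : ∀ φ : T → ℂ, Cfsg.IsIrrCharacter T φ →
      ∃ χ : Cfsg.IrrCharacter G, Cfsg.classInner (Cfsg.indFun T φ) (χ : G → ℂ) ≠ 0 := by
    intro φ hφ
    refine exists_constituent (Induced.Character.isCharacter_indFun T (IsCharacter_of_isIrrCharacter hφ))
      fun h => ?_
    have := congrFun h 1
    rw [Induced.Basic.indFun_one] at this
    exact mul_ne_zero (Nat.cast_ne_zero.2 Subgroup.index_ne_zero_of_finite)
      (Characters.Basic.apply_one_ne_zero ⟨φ, hφ⟩) this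
  obtain ⟨χ, hχ⟩ := hcharind ψ hψ
  obtain ⟨hind, huniq⟩ := main ψ hψ hc χ hχ
  refine ⟨hind ▸ χ.2, fun ψ' hψ' hc' he => ?_⟩
  have hθχ : Cfsg.classInner (fun h : H => (χ : G → ℂ) h) θ ≠ 0 := by
    intro h0
    have hres : Cfsg.classInner (fun t : T => (χ : G → ℂ) t) ψ ≠ 0 := by
      rw [← frobenius_reciprocity' _ _ (Characters.Basic.isClassFunction_irr χ), hind,
        Characters.Basic.classInner_self_irr χ]
      exact one_ne_zero
    obtain ⟨m, r, hr, hm, -, hdec⟩ := exists_eq_nsmul_add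
      (isCharacter_comp T.subtype (Characters.Basic.isCharacter_irr χ)) ⟨ψ, hψ⟩
    obtain ⟨k, hk⟩ := exists_classInner_nat (isCharacter_comp ι (IsCharacter_of_isIrrCharacter hψ))
      (IsCharacter_of_isIrrCharacter θ.2)
    obtain ⟨k', hk'⟩ := exists_classInner_nat (isCharacter_comp ι hr)
      (IsCharacter_of_isIrrCharacter θ.2)
    have e : (0 : ℂ) = ((m * k + k' : ℕ) : ℂ) := by
      rw [← h0, show (fun h : H => (χ : G → ℂ) h) = m • (ψ ∘ ι) + r ∘ ι from
        funext fun h => congrFun hdec (ι h), classInner_add_left,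
        Clifford.Basic.classInner_nsmul_left, hk, hk']
      push_cast; ring
    have e' : m * k + k' = 0 := by exact_mod_cast e.symm
    rcases Nat.mul_eq_zero.1 (by omega : m * k = 0) with h | h
    · exact hres (by rw [h, Nat.cast_zero] at hm; exact hm)
    · exact hc (by rw [h, Nat.cast_zero] at hk; exact hk)
  obtain ⟨ψ₀, hψ₀, hind₀, hres₀, -⟩ := exists_correspondent H χ.2 θ hθχ T hT hHT
  have key : Cfsg.classInner (fun h : H => ψ₀ ⟨(h : G), hHT h.2⟩) θ =
      Cfsg.classInner (fun h : H => (χ : G → ℂ) h) θ := by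
    rw [hres₀, classInner_smul_left, Characters.Basic.classInner_self_irr θ, mul_one]
  obtain ⟨-, huniq'⟩ := main ψ' hψ' hc' χ (by
    rw [← he, hind, Characters.Basic.classInner_self_irr χ]; exact one_ne_zero)
  rw [huniq ψ₀ hψ₀ hind₀ key, huniq' ψ₀ hψ₀ hind₀ key]

/-- Inner products over `H` seen inside an overgroup `T`. -/
theorem classInner_subgroupOf (H T : Subgroup G) (hHT : H ≤ T) [Fintype H]
    [Fintype (H.subgroupOf T)] (f g : H → ℂ) :
    Cfsg.classInner (fun x : H.subgroupOf T => f ⟨((x : T) : G), Subgroup.mem_subgroupOf.mp x.2⟩)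
      (fun x : H.subgroupOf T => g ⟨((x : T) : G), Subgroup.mem_subgroupOf.mp x.2⟩) =
      Cfsg.classInner f g := by
  unfold Cfsg.classInner
  rw [Nat.card_congr (Subgroup.subgroupOfEquivOfLe hHT).toEquiv]
  congr 1
  exact Fintype.sum_equiv (Subgroup.subgroupOfEquivOfLe hHT).toEquiv _ _ fun x => rfl

/-- Frobenius reciprocity from `H` to an overgroup `T`. -/
theorem reciprocity_subgroupOf (H T : Subgroup G) (hHT : H ≤ T) [Fintype T] [Fintype H]
    [Fintype (H.subgroupOf T)] (θ : H → ℂ) {ψ : T → ℂ} (hψ : Cfsg.IsClassFunction T ψ) :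
    Cfsg.classInner (Cfsg.indFun (H.subgroupOf T)
        (fun x => θ ⟨(x : T), Subgroup.mem_subgroupOf.mp x.2⟩)) ψ =
      Cfsg.classInner θ (fun h : H => ψ ⟨(h : G), hHT h.2⟩) := by
  rw [frobenius_reciprocity _ _ hψ, ← classInner_subgroupOf H T hHT θ]

end Cfsg.Agent.Lib.Isometry.Clifford
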