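import Cfsg.Agent.Lib.Isometry.Inflate
import Cfsg.Agent.Lib.Isometry.Iterate
import Cfsg.Agent.Lib.Clifford.Basic
import Cfsg.Agent.S1492
set_option autoImplicit false

/-! Coherence systems made of characters induced from a solvable normal subgroup. -/

namespace Cfsg.Agent.Lib.Isometry.InducedSystem

open scoped ComplexConjugate Classical
open Cfsg.Agent.Lib.Isometry.Inner Cfsg.Agent.Lib.Isometry.Coherence Cfsg.Agent.Lib.Isometry.Inflate
open Cfsg.Agent.Lib.Clifford.Basic (conjC)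

universe u v
variable {L : Type u} [Group L] [Fintype L] {G : Type v} [Group G] [Fintype G]
variable (K : Subgroup L) [hK : K.Normal]

/-- Coherence passes to a subset with a nonzero combination vanishing off `A`. -/
theorem coherent_mono {S S' : Set (L → ℂ)} {A : Set L} {τ : (L → ℂ) → (G → ℂ)}
    (h : Cfsg.IsCoherent S A τ) (hsub : S' ⊆ S) (hex : ∃ α ∈ Cfsg.zspanOn S' A, α ≠ 0) :
    Cfsg.IsCoherent S' A τ := by
  obtain ⟨-, T, hT, hag⟩ := h
  have hm := zspan_mono hsub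
  exact ⟨hex, T, ⟨fun a ha b hb => hT.1 a (hm ha) b (hm hb), fun a ha n => hT.2.1 a (hm ha) n,
    fun a ha b hb => hT.2.2.1 a (hm ha) b (hm hb), fun a ha => hT.2.2.2 a (hm ha)⟩,
    fun α hα => hag α (zspanOn_mono A hsub hα)⟩

/-- The nonprincipal irreducible characters of `K` with `A` in the kernel. -/
noncomputable def theta (A : Subgroup L) : Finset (K → ℂ) :=
  (trivOn (A.subgroupOf K)).erase fun _ => 1

omit hK in
theorem mem_theta {A : Subgroup L} {θ : K → ℂ} : θ ∈ theta K A ↔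
    Cfsg.IsIrrCharacter K θ ∧ θ ≠ (fun _ => 1) ∧ ∀ a : K, (a : L) ∈ A → θ a = θ 1 := by
  simp only [theta, Finset.mem_erase, mem_trivOn, Subgroup.mem_subgroupOf]
  tauto

/-- The characters induced from `theta K A`. -/
noncomputable def above (A : Subgroup L) : Finset (L → ℂ) := (theta K A).image (Cfsg.indFun K)

omit hK in
theorem coe_above (A : Subgroup L) :
    (↑(above K A) : Set (L → ℂ)) = Cfsg.inducedIrrAbove K A := by
  ext φ
  simp only [above, Finset.coe_image, Set.mem_image, Finset.mem_coe, mem_theta,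
    Cfsg.inducedIrrAbove, Set.mem_setOf_eq]
  exact ⟨fun ⟨θ, ⟨a, b, c⟩, e⟩ => ⟨θ, a, b, c, e.symm⟩, fun ⟨θ, a, b, c, e⟩ => ⟨θ, ⟨a, b, c⟩, e.symm⟩⟩

omit hK in
theorem theta_anti {A B : Subgroup L} (h : A ≤ B) : theta K B ⊆ theta K A := fun θ hθ => by
  rw [mem_theta] at hθ ⊢
  exact ⟨hθ.1, hθ.2.1, fun a ha => hθ.2.2 a (h ha)⟩

omit hK in
theorem above_anti {A B : Subgroup L} (h : A ≤ B) : above K B ⊆ above K A :=
  Finset.image_subset_image (theta_anti K h)

omit hK in
theorem conj_mem {A : Subgroup L} {φ : L → ℂ} (h : φ ∈ above K A) :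
    Cfsg.conjFun φ ∈ above K A := by
  obtain ⟨θ, hθ, rfl⟩ := Finset.mem_image.1 h
  obtain ⟨h1, h2, h3⟩ := (mem_theta K).1 hθ
  refine Finset.mem_image.2 ⟨Cfsg.conjFun θ, (mem_theta K).2 ⟨conjFun_irr h1, fun e => h2 ?_,
    fun a ha => congrArg (starRingEnd ℂ) (h3 a ha)⟩, ?_⟩
  · rw [← conjFun_conjFun θ, e]; exact funext fun _ => map_one _
  · funext g; exact (Induced.Basic.indFun_conj_fun K θ g).symm

omit hK in
theorem indFun_one {A : Subgroup L} {θ : K → ℂ} (hθ : θ ∈ theta K A) :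
    ∃ m : ℕ, 0 < m ∧ θ 1 = (m : ℂ) ∧ Cfsg.indFun K θ 1 = ((K.index * m : ℕ) : ℂ) := by
  obtain ⟨m, hm, hm1⟩ := Characters.Basic.exists_degree_pos ⟨θ, ((mem_theta K).1 hθ).1⟩
  have hm' : θ 1 = (m : ℂ) := hm1
  exact ⟨m, hm, hm', by rw [Induced.Basic.indFun_one, hm']; push_cast; ring⟩

theorem constituent_eq {θ : K → ℂ} (hθ : Cfsg.IsIrrCharacter K θ) {ψ : K → ℂ}
    (hψ : Cfsg.IsIrrCharacter K ψ)
    (h : Cfsg.classInner (fun k : K => Cfsg.indFun K θ k) ψ ≠ 0) : ∃ x : L, ψ = conjC K x θ := by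
  by_contra hne
  push Not at hne
  refine h ?_
  rw [Clifford.Basic.indFun_restrict_normal, Induced.Basic.classInner_smul_left,
    Characters.Basic.classInner_sum_left, Finset.sum_eq_zero fun x _ => ?_, mul_zero]
  rw [classInner_irr_eq (Clifford.Basic.isIrrCharacter_conjC K x hθ) hψ, if_neg (Ne.symm (hne x))]

/-- Sums of squares of degrees divided by norms. -/
theorem sum_sq_norm {S : Set (L → ℂ)} {τ : (L → ℂ) → (G → ℂ)} {R : (L → ℂ) → Finset (G → ℂ)}
    (hS : Cfsg.IsCoherenceSystem S τ R) (hsub : Cfsg.inducedIrrAbove K ⊥ ⊆ S)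
    (A : Subgroup L) [A.Normal] (hA : A ≤ K) (d n : (L → ℂ) → ℕ)
    (hd : ∀ φ ∈ above K A, φ 1 = (d φ : ℂ)) (hn : ∀ φ ∈ above K A, Cfsg.classInner φ φ = (n φ : ℂ)) :
    ∑ φ ∈ above K A, ((d φ : ℝ) ^ 2 / (n φ : ℝ)) = (K.index : ℝ) * ((A.relIndex K : ℝ) - 1) := by
  have hmap : ∀ θ ∈ theta K A, Cfsg.indFun K θ ∈ above K A := fun θ h => Finset.mem_image_of_mem _ h
  have hmemS : ∀ φ ∈ above K A, φ ∈ S := fun φ h =>
    hsub (by rw [← coe_above]; exact Finset.mem_coe.2 (above_anti K bot_le h))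
  have hdeg : ∑ θ ∈ theta K A, (θ 1).re ^ 2 = (A.relIndex K : ℝ) - 1 := by
    have hone : (fun _ : K => (1 : ℂ)) ∈ trivOn (A.subgroupOf K) := mem_trivOn.2
      ⟨by rw [show (fun _ : K => (1 : ℂ)) = (Characters.Basic.oneChar K : K → ℂ) from
          funext fun x => (Characters.Basic.oneChar_apply x).symm]; exact (Characters.Basic.oneChar K).2,
        fun _ _ => rfl⟩
    have h := sum_sq_trivOn (A.subgroupOf K)
    rw [← Finset.add_sum_erase _ _ hone] at h
    have h' := congrArg Complex.re h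
    rw [Complex.add_re, Complex.re_sum, Complex.natCast_re] at h'
    rw [show (A.relIndex K : ℝ) = ((A.subgroupOf K).index : ℝ) from rfl, ← h']
    simp only [one_mul, Complex.one_re, add_sub_cancel_left, theta]
    refine Finset.sum_congr rfl fun θ hθ => ?_
    obtain ⟨m, -, hm, -⟩ := indFun_one K (A := A) (θ := θ) hθ
    rw [hm, Complex.natCast_re, Complex.mul_re, Complex.natCast_re, Complex.natCast_im]; ring
  rw [← hdeg, Finset.mul_sum, ← Finset.sum_fiberwise_of_maps_to hmap]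
  refine Finset.sum_congr rfl fun φ hφ => ?_
  set F := (theta K A).filter fun θ => Cfsg.indFun K θ = φ with hF
  obtain ⟨θ₀, hθ₀, rfl⟩ := Finset.mem_image.1 hφ
  set φ := Cfsg.indFun K θ₀ with hφdef
  obtain ⟨hi0, hne0, htriv0⟩ := (mem_theta K).1 hθ₀
  have hcl : Cfsg.IsClassFunction L φ := Induced.Basic.isClassFunction_indFun K θ₀
  have hres : Cfsg.IsClassFunction K (fun k : K => φ k) := fun x y => by
    show φ ((y * x * y⁻¹ : K) : L) = φ x
    push_cast; exact hcl x y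
  have hrec : ∀ ψ : K → ℂ, Cfsg.classInner (fun k : K => φ k) ψ =
      Cfsg.classInner φ (Cfsg.indFun K ψ) := fun ψ =>
    (Induced.Basic.frobenius_reciprocity' K ψ hcl).symm
  have hexp : (fun k : K => φ k) = ∑ θ ∈ F, (n φ : ℂ) • θ := by
    refine (Characters.Complete.classFunction_ext hres (gen_classFun (gen_sum _ fun θ hθ => ?_))
      fun χ => ?_)
    · rw [← Int.cast_natCast]
      exact gen_intCast_smul (gen_of_irr ((mem_theta K).1 (Finset.mem_filter.1 hθ).1).1) _
    rw [Characters.Basic.classInner_sum_left, Finset.sum_congr rfl fun θ hθ => by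
      rw [Induced.Basic.classInner_smul_left,
        classInner_irr_eq ((mem_theta K).1 (Finset.mem_filter.1 hθ).1).1 χ.2, mul_ite, mul_one, mul_zero],
      Finset.sum_ite_eq']
    by_cases hχ : (χ : K → ℂ) ∈ F
    · rw [if_pos hχ, hrec, (Finset.mem_filter.1 hχ).2, hn φ hφ]
    · rw [if_neg hχ]
      by_contra hne
      obtain ⟨x, hx⟩ := constituent_eq K hi0 χ.2 hne
      have hmem : (χ : K → ℂ) ∈ theta K A := by
        rw [mem_theta]
        refine ⟨χ.2, fun e => hne0 ?_, fun a ha => ?_⟩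
        · have h1 : conjC K x⁻¹ (fun _ : K => (1 : ℂ)) = θ₀ := by
            rw [← e, hx, Clifford.Basic.conjC_inv_conjC]
          exact h1.symm
        · rw [hx, Clifford.Basic.conjC_apply, Clifford.Basic.conjC_apply,
            htriv0 _ (Subgroup.Normal.conj_mem inferInstance (a : L) ha x)]
          congr 1
          exact Subtype.ext (by simp)
      refine hne ?_
      rw [hrec]
      exact hS.orthogonal φ (hmemS φ hφ) _ (hmemS _ (hmap _ hmem)) fun e =>
        hχ (Finset.mem_filter.2 ⟨hmem, e.symm⟩)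
  have hK0 : (0 : ℝ) < K.index := by exact_mod_cast Nat.pos_of_ne_zero Subgroup.index_ne_zero_of_finite
  have hθval : ∀ θ ∈ F, θ 1 = ((d φ : ℝ) / K.index : ℝ) := by
    intro θ hθ
    obtain ⟨m, -, hm, hm'⟩ := indFun_one K (Finset.mem_filter.1 hθ).1
    have hdm : d φ = K.index * m := by
      exact_mod_cast ((hd φ hφ).symm.trans ((congrFun (Finset.mem_filter.1 hθ).2 1).symm.trans hm'))
    rw [hm, hdm, Nat.cast_mul, mul_div_cancel_left₀ _ hK0.ne']
    norm_cast
  have h1 := congrFun hexp 1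
  simp only [Finset.sum_apply, Pi.smul_apply, smul_eq_mul, OneMemClass.coe_one] at h1
  rw [hd φ hφ, Finset.sum_congr rfl fun θ hθ => by rw [hθval θ hθ], Finset.sum_const, nsmul_eq_mul] at h1
  have h2 : (d φ : ℝ) = (F.card : ℝ) * ((n φ : ℝ) * ((d φ : ℝ) / K.index)) := by
    have := congrArg Complex.re h1
    simpa using this
  rw [Finset.sum_congr rfl fun θ hθ => by rw [hθval θ hθ, Complex.ofReal_re], Finset.sum_const,
    nsmul_eq_mul]
  obtain ⟨m, hm0, -, hm'⟩ := indFun_one K hθ₀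
  have hd0 : (0 : ℝ) < d φ := by
    have hdm : d φ = K.index * m := by exact_mod_cast (hd φ hφ).symm.trans hm'
    rw [hdm]; push_cast
    have : (0 : ℝ) < m := by exact_mod_cast hm0
    positivity
  have hn0 : (n φ : ℝ) ≠ 0 := by
    intro h0; rw [h0, zero_mul, mul_zero] at h2; linarith
  have h3 : (F.card : ℝ) * (n φ : ℝ) = K.index := by
    field_simp at h2
    nlinarith [h2]
  field_simp
  rw [← h3]; ring

/-- A linear character of `K` trivial on `A`. -/
theorem exists_linear (hsolv : Group.IsSolvable K) (A : Subgroup L) [A.Normal] (hA : A < K) :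
    ∃ θ ∈ theta K A, θ 1 = 1 := by
  haveI := hsolv
  set A' := A.subgroupOf K
  set N := A' ⊔ commutator K with hN
  have hNtop : N < ⊤ := by
    refine lt_top_iff_ne_top.2 fun htop => hA.not_ge ?_
    set f := QuotientGroup.mk' A'
    have hfs := QuotientGroup.mk'_surjective A'
    haveI : Group.IsSolvable (K ⧸ A') := solvable_of_surjective hfs
    have h1 : commutator (K ⧸ A') = ⊤ := by
      have h := congrArg (Subgroup.map f) htop
      rw [hN, Subgroup.map_sup, (Subgroup.map_eq_bot_iff A').2 (QuotientGroup.ker_mk' A').ge, bot_sup_eq,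
        commutator_def, Subgroup.map_commutator, Subgroup.map_top_of_surjective f hfs] at h
      rwa [commutator_def]
    have h2 : Subsingleton (K ⧸ A') := by
      by_contra hns
      haveI := not_subsingleton_iff_nontrivial.1 hns
      exact (IsSolvable.commutator_lt_top_of_nontrivial (G := K ⧸ A')).ne h1
    exact Subgroup.subgroupOf_eq_top.1 (QuotientGroup.subgroup_eq_top_of_subsingleton A' h2)
  haveI : N.Normal := Subgroup.sup_normal _ _
  obtain ⟨θ, hθ⟩ := layer_nonempty hNtop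
  obtain ⟨h1, h2, g, -, hg⟩ := mem_layer.1 hθ
  obtain ⟨m, hm0, hm⟩ := Characters.Basic.exists_degree_pos ⟨θ, h1⟩
  refine ⟨θ, (mem_theta K).2 ⟨h1, fun e => hg (by rw [e]), fun a ha => h2 a (le_sup_left (b := commutator K) ha)⟩, ?_⟩
  have hb := Cfsg.Agent.S1492.result θ h1 N ⊤ ⊤ le_top le_rfl
    (fun c _ b hb => Subgroup.Normal.conj_mem inferInstance b hb c)
    (fun d _ c _ => by
      refine le_sup_right (a := A') ?_
      rw [commutator_def, ← commutatorElement_def]
      exact Subgroup.commutator_mem_commutator trivial trivial) h2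
  have hm' : θ 1 = (m : ℂ) := hm
  rw [hm', Complex.norm_natCast, Subgroup.card_top] at hb
  have hK0 : (0 : ℝ) < Nat.card K := by exact_mod_cast Nat.card_pos
  have hmle : (m : ℝ) ^ 2 ≤ 1 := by
    by_contra hlt; nlinarith [mul_pos (mul_pos (sub_pos.2 (not_le.1 hlt)) hK0) hK0]
  have hm1 : (m : ℝ) = 1 := by
    have : (1 : ℝ) ≤ m := by exact_mod_cast hm0
    nlinarith
  rw [hm', show m = 1 by exact_mod_cast hm1, Nat.cast_one]

theorem exists_ne_zero {S : Set (L → ℂ)} {τ : (L → ℂ) → (G → ℂ)} {R : (L → ℂ) → Finset (G → ℂ)}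
    (hS : Cfsg.IsCoherenceSystem S τ R) (hsub : Cfsg.inducedIrrAbove K ⊥ ⊆ S)
    (hsolv : Group.IsSolvable K) (A : Subgroup L) [A.Normal] (hA : A < K) :
    ∃ α ∈ Cfsg.zspanOn (↑(above K A) : Set (L → ℂ)) {1}ᶜ, α ≠ 0 := by
  obtain ⟨θ, hθ, -⟩ := exists_linear K hsolv A hA
  have h := Finset.mem_image_of_mem (Cfsg.indFun K) hθ
  exact exists_ne_zero_zspanOn hS (hsub (coe_above K ⊥ ▸ Finset.mem_coe.2 (above_anti K bot_le h)))
    (Finset.mem_coe.2 h) (Finset.mem_coe.2 (conj_mem K h))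

/-- Peterfalvi (6.2): coherence spreads along a central section. -/
theorem coherent_step {S : Set (L → ℂ)} {τ : (L → ℂ) → (G → ℂ)} {R : (L → ℂ) → Finset (G → ℂ)}
    (hS : Cfsg.IsCoherenceSystem S τ R) (hsub : Cfsg.inducedIrrAbove K ⊥ ⊆ S)
    (hsolv : Group.IsSolvable K) (A B C D : Subgroup L) [A.Normal] [B.Normal]
    (hAK : A < K) (hBK : B < K) (hBD : B ≤ D) (hDC : D ≤ C) (hCK : C ≤ K)
    (hcent : ∀ x ∈ D, ∀ y ∈ C, x * y * x⁻¹ * y⁻¹ ∈ B)
    (hA : Cfsg.IsCoherent (Cfsg.inducedIrrAbove K A) {1}ᶜ τ)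
    (hlt : 4 * C.index ^ 2 * D.relIndex C < (A.relIndex K - 1) ^ 2) :
    Cfsg.IsCoherent (Cfsg.inducedIrrAbove K B) {1}ᶜ τ := by
  rw [← coe_above] at hA ⊢
  have hmem : ∀ {φ : L → ℂ} {X : Subgroup L}, φ ∈ above K X → φ ∈ S := fun h =>
    hsub (coe_above K ⊥ ▸ Finset.mem_coe.2 (above_anti K bot_le h))
  set d : (L → ℂ) → ℕ := fun φ => ⌊(φ 1).re⌋₊ with hd_def
  set n : (L → ℂ) → ℕ := fun φ => ⌊(Cfsg.classInner φ φ).re⌋₊ with hn_def
  have hd : ∀ φ ∈ S, φ 1 = (d φ : ℂ) := fun φ h => by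
    obtain ⟨m, hm⟩ := Characters.Basic.exists_degree (hS.isCharacter φ h)
    rw [hd_def]; simp only [hm, Complex.natCast_re, Nat.floor_natCast]
  have hn : ∀ φ ∈ S, Cfsg.classInner φ φ = (n φ : ℂ) := fun φ h => by
    obtain ⟨m, -, hm, -, -⟩ := sys_norm hS h
    rw [hn_def]; simp only [hm, Complex.natCast_re, Nat.floor_natCast]
  have hd' : ∀ {θ : K → ℂ} {X : Subgroup L}, θ ∈ theta K X → ∀ {m : ℕ}, θ 1 = (m : ℂ) →
      d (Cfsg.indFun K θ) = K.index * m := by
    intro θ X hθ m hm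
    have h := hd _ (hmem (Finset.mem_image_of_mem (Cfsg.indFun K) hθ))
    rw [Induced.Basic.indFun_one, hm] at h
    exact_mod_cast h.symm
  obtain ⟨θ₁, hθ₁, hθ₁1⟩ := exists_linear K hsolv A hAK
  have hd1 : d (Cfsg.indFun K θ₁) = K.index := by
    rw [hd' hθ₁ (m := 1) (by simpa using hθ₁1), mul_one]
  have hsum : ∑ φ ∈ above K A, ((d φ : ℝ) ^ 2 / (n φ : ℝ)) = (K.index : ℝ) * ((A.relIndex K : ℝ) - 1) :=
    sum_sq_norm K hS hsub A hAK.le d n (fun φ h => hd φ (hmem h)) fun φ h => hn φ (hmem h)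
  suffices h : Cfsg.IsCoherent (↑(above K A ∪ above K B) : Set (L → ℂ)) {1}ᶜ τ from
    coherent_mono h (Finset.coe_subset.2 Finset.subset_union_right) (exists_ne_zero K hS hsub hsolv B hBK)
  refine Iterate.extend_many_norm hS d n hd hn (above K A) (fun φ h => hmem (Finset.mem_coe.1 h))
    (fun φ h => conj_mem K h) hA (Finset.mem_image_of_mem (Cfsg.indFun K) hθ₁)
    (above K B) (fun φ h => hmem (Finset.mem_coe.1 h)) (fun φ h => conj_mem K h) ?_
  intro φ hφ _
  obtain ⟨θ, hθ, rfl⟩ := Finset.mem_image.1 hφ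
  obtain ⟨m, hm0, hm, -⟩ := indFun_one K hθ
  rw [hd1, hd' hθ hm, hsum]
  refine ⟨dvd_mul_right _ _, ?_⟩
  obtain ⟨hi, -, hker⟩ := (mem_theta K).1 hθ
  have hb := Cfsg.Agent.S1492.result θ hi (B.subgroupOf K) (C.subgroupOf K) (D.subgroupOf K)
    (fun x hx => hBD hx) (fun x hx => hDC hx)
    (fun c _ b hb => Subgroup.Normal.conj_mem inferInstance b hb c)
    (fun x hx y hy => by rw [Subgroup.mem_subgroupOf]; push_cast; exact hcent _ hx _ hy)
    (fun b hb => hker b hb)
  rw [hm, Complex.norm_natCast,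
    Nat.card_congr (Subgroup.subgroupOfEquivOfLe hCK).toEquiv,
    Nat.card_congr (Subgroup.subgroupOfEquivOfLe (hDC.trans hCK)).toEquiv] at hb
  have hb' : m ^ 2 * Nat.card C * Nat.card D ≤ Nat.card K ^ 2 := by exact_mod_cast hb
  have e1 : Nat.card C * C.relIndex K = Nat.card K := by
    have := Subgroup.relIndex_mul_relIndex (⊥ : Subgroup L) C K bot_le hCK
    rwa [Subgroup.relIndex_bot_left, Subgroup.relIndex_bot_left] at this
  have e2 : Nat.card D * D.relIndex C = Nat.card C := by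
    have := Subgroup.relIndex_mul_relIndex (⊥ : Subgroup L) D C bot_le hDC
    rwa [Subgroup.relIndex_bot_left, Subgroup.relIndex_bot_left] at this
  have e3 := Subgroup.relIndex_mul_index hCK
  have hm2 : m ^ 2 ≤ C.relIndex K ^ 2 * D.relIndex C := by
    have hpos : 0 < Nat.card C * Nat.card D :=
      Nat.mul_pos (Nat.card_pos (α := C)) (Nat.card_pos (α := D))
    refine Nat.le_of_mul_le_mul_left ?_ hpos
    calc Nat.card C * Nat.card D * m ^ 2 = m ^ 2 * Nat.card C * Nat.card D := by ring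
      _ ≤ Nat.card K ^ 2 := hb'
      _ = Nat.card C * Nat.card C * C.relIndex K ^ 2 := by rw [← e1]; ring
      _ = Nat.card C * (Nat.card D * D.relIndex C) * C.relIndex K ^ 2 := by rw [e2]
      _ = _ := by ring
  have hlt2 : 2 * K.index * m < A.relIndex K - 1 := by
    refine lt_of_pow_lt_pow_left₀ 2 (Nat.zero_le _) (lt_of_le_of_lt ?_ hlt)
    rw [← e3]
    calc (2 * K.index * m) ^ 2 = 4 * K.index ^ 2 * m ^ 2 := by ring
      _ ≤ 4 * K.index ^ 2 * (C.relIndex K ^ 2 * D.relIndex C) := Nat.mul_le_mul_left _ hm2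
      _ = _ := by ring
  have hlt3 : (2 * K.index * m : ℝ) < (A.relIndex K : ℝ) - 1 := by
    have h1 : 2 * K.index * m + 1 < A.relIndex K := by omega
    have h2 : ((2 * K.index * m + 1 : ℕ) : ℝ) < (A.relIndex K : ℝ) := by exact_mod_cast h1
    push_cast at h2; linarith
  have he : (0 : ℝ) < K.index := by exact_mod_cast Nat.pos_of_ne_zero Subgroup.index_ne_zero_of_finite
  push_cast
  nlinarith [mul_lt_mul_of_pos_left hlt3 he]

end Cfsg.Agent.Lib.Isometry.InducedSystem
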