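import Mathlib
import Cfsg.Prelude.Def_OddOrderChar
import Cfsg.Prelude.Def_OddOrderLocal
set_option autoImplicit false

/-! Group theory of TI-subsets and of the Dade set-up. -/

namespace Cfsg.Agent.Lib.Isometry.TI

open Subgroup

universe u
variable {G : Type u} [Group G]

theorem mem_centralizer_singleton {a g : G} :
    g ∈ centralizer ({a} : Set G) ↔ g * a = a * g :=
  mem_centralizer_singleton_iff

theorem conj_eq_self {a g : G} (h : g ∈ centralizer ({a} : Set G)) : g * a * g⁻¹ = a := by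
  rw [mem_centralizer_singleton.1 h, mul_inv_cancel_right]

theorem mem_centralizer_of_conj_eq {a g : G} (h : g * a * g⁻¹ = a) :
    g ∈ centralizer ({a} : Set G) := by
  rw [mem_centralizer_singleton, ← mul_inv_eq_iff_eq_mul, h]

/-- In a finite group an element `g` that maps a set into itself by conjugation normalises it. -/
theorem mem_normalizer_of_mapsTo [Finite G] {S : Set G} {g : G}
    (h : ∀ s ∈ S, g * s * g⁻¹ ∈ S) : g ∈ normalizer S := by
  rw [mem_normalizer_iff_conj_image_eq]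
  refine Set.eq_of_subset_of_ncard_le ?_ ?_ (Set.toFinite _)
  · rintro x ⟨s, hs, rfl⟩
    exact h s hs
  · rw [Set.ncard_image_of_injective _ (MulAut.conj g).injective]

variable {A : Set G} {L : Subgroup G} {H : G → Subgroup G}

/-- The centraliser in `L` of `a`. -/
abbrev CL (L : Subgroup G) (a : G) : Subgroup G := L ⊓ centralizer ({a} : Set G)

theorem self_mem_CL (hD : Cfsg.DadeHypothesis A L H) {a : G} (ha : a ∈ A) : a ∈ CL L a :=
  ⟨hD.subset ha, mem_centralizer_singleton.2 rfl⟩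

theorem commute_of_mem (hD : Cfsg.DadeHypothesis A L H) {a u : G} (ha : a ∈ A) (hu : u ∈ H a) :
    Commute a u :=
  (mem_centralizer_singleton.1 (hD.le_centralizer a ha hu)).symm

theorem mul_mem_centralizer (hD : Cfsg.DadeHypothesis A L H) {a u : G} (ha : a ∈ A) (hu : u ∈ H a) :
    a * u ∈ centralizer ({a} : Set G) := by
  rw [mem_centralizer_singleton, mul_assoc, (commute_of_mem hD ha hu).eq]

/-- Product decomposition `C_G(a) = H(a) C_L(a)`. -/
theorem exists_mul_of_mem_centralizer (hD : Cfsg.DadeHypothesis A L H) {a c : G} (ha : a ∈ A)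
    (hc : c ∈ centralizer ({a} : Set G)) : ∃ h ∈ H a, ∃ l ∈ CL L a, h * l = c := by
  have hn : CL L a ≤ normalizer (H a : Set G) := by
    rw [le_normalizer_iff]
    exact fun x hx k hk => hD.conj_mem_H a ha x hx.2 k hk
  have h1 : c ∈ ((H a ⊔ CL L a : Subgroup G) : Set G) := by
    show c ∈ H a ⊔ L ⊓ centralizer ({a} : Set G)
    rw [hD.sup_eq a ha]; exact hc
  rw [coe_mul_of_right_le_normalizer_left _ _ hn] at h1
  obtain ⟨h, hh, l, hl, rfl⟩ := h1
  exact ⟨h, hh, l, hl, rfl⟩

theorem inf_L_eq_bot (hD : Cfsg.DadeHypothesis A L H) {a : G} (ha : a ∈ A) : H a ⊓ L = ⊥ := by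
  refine eq_bot_iff.2 fun x hx => ?_
  have h : x ∈ H a ⊓ (L ⊓ centralizer ({a} : Set G)) := ⟨hx.1, hx.2, hD.le_centralizer a ha hx.1⟩
  rwa [hD.inf_eq_bot a ha] at h

section Fin
variable [Finite G]

/-- A single exponent extracting `a` from every element of every coset `a H(a)`. -/
theorem exists_pow (hD : Cfsg.DadeHypothesis A L H) :
    ∃ k : ℕ, ∀ a ∈ A, ∀ u ∈ H a, (a * u) ^ k = a := by
  classical
  have hf := A.toFinite
  let N := ∏ b ∈ hf.toFinset, Nat.card (CL L b)
  let M := ∏ a ∈ hf.toFinset, Nat.card (H a)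
  have hco : Nat.Coprime N M := by
    refine Nat.Coprime.prod_left fun b hb => Nat.Coprime.prod_right fun a ha => ?_
    exact (hD.coprime a (hf.mem_toFinset.1 ha) b (hf.mem_toFinset.1 hb)).symm
  obtain ⟨k, hk1, hk0⟩ := Nat.chineseRemainder hco 1 0
  refine ⟨k, fun a ha u hu => ?_⟩
  have hN : orderOf a ∣ N :=
    dvd_trans (Subgroup.orderOf_dvd_natCard _ (self_mem_CL hD ha))
      (Finset.dvd_prod_of_mem _ (hf.mem_toFinset.2 ha))
  have hM : orderOf u ∣ M :=
    dvd_trans (Subgroup.orderOf_dvd_natCard _ hu) (Finset.dvd_prod_of_mem _ (hf.mem_toFinset.2 ha))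
  rw [(commute_of_mem hD ha hu).mul_pow]
  have e1 : a ^ k = a := by
    conv_rhs => rw [← pow_one a]
    exact pow_eq_pow_iff_modEq.2 (hk1.of_dvd hN)
  have e2 : u ^ k = 1 :=
    orderOf_dvd_iff_pow_eq_one.1 (dvd_trans hM (Nat.modEq_zero_iff_dvd.1 hk0))
  rw [e1, e2, mul_one]

theorem conj_eq (hD : Cfsg.DadeHypothesis A L H) {a b u v g : G} (ha : a ∈ A) (hb : b ∈ A)
    (hu : u ∈ H a) (hv : v ∈ H b) (h : g * (a * u) * g⁻¹ = b * v) : g * a * g⁻¹ = b := by
  obtain ⟨k, hk⟩ := exists_pow hD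
  have := congrArg (· ^ k) h
  simpa only [conj_pow, hk a ha u hu, hk b hb v hv] using this

theorem card_centralizer (hD : Cfsg.DadeHypothesis A L H) {a : G} (ha : a ∈ A) :
    Nat.card (centralizer ({a} : Set G)) = Nat.card (H a) * Nat.card (CL L a) := by
  rw [← Nat.card_prod]
  refine (Nat.card_congr (Equiv.ofBijective
    (fun p : H a × CL L a => (⟨(p.1 : G) * p.2,
      mul_mem (hD.le_centralizer a ha p.1.2) p.2.2.2⟩ : centralizer ({a} : Set G))) ⟨?_, ?_⟩)).symm
  · rintro ⟨h₁, l₁⟩ ⟨h₂, l₂⟩ h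
    simp only [Subtype.mk.injEq] at h
    have e : ((h₂ : G)⁻¹ * h₁) = (l₂ : G) * (l₁ : G)⁻¹ := by
      rw [inv_mul_eq_iff_eq_mul, ← mul_assoc, eq_mul_inv_iff_mul_eq]; exact h
    have hmem : ((h₂ : G)⁻¹ * h₁) ∈ H a ⊓ CL L a :=
      mem_inf.2 ⟨(H a).mul_mem ((H a).inv_mem h₂.2) h₁.2, e ▸ (CL L a).mul_mem l₂.2 ((CL L a).inv_mem l₁.2)⟩
    rw [hD.inf_eq_bot a ha, mem_bot] at hmem
    rw [hmem] at e
    ext
    · exact (inv_mul_eq_one.1 hmem).symm
    · exact (mul_inv_eq_one.1 e.symm).symm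
  · rintro ⟨c, hc⟩
    obtain ⟨h, hh, l, hl, e⟩ := exists_mul_of_mem_centralizer hD ha hc
    exact ⟨(⟨h, hh⟩, ⟨l, hl⟩), Subtype.ext e⟩

omit [Finite G] in
theorem map_centralizer (a x : G) :
    (centralizer ({a} : Set G)).map (MulAut.conj x).toMonoidHom =
      centralizer ({x * a * x⁻¹} : Set G) := by
  ext c
  simp only [mem_map, MulEquiv.coe_toMonoidHom, MulAut.conj_apply, mem_centralizer_singleton]
  constructor
  · rintro ⟨d, hd, rfl⟩
    calc x * d * x⁻¹ * (x * a * x⁻¹) = x * (d * a) * x⁻¹ := by group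
      _ = x * (a * d) * x⁻¹ := by rw [hd]
      _ = _ := by group
  · intro h
    refine ⟨x⁻¹ * c * x, ?_, by group⟩
    calc x⁻¹ * c * x * a = x⁻¹ * (c * (x * a * x⁻¹)) * x := by group
      _ = x⁻¹ * (x * a * x⁻¹ * c) * x := by rw [h]
      _ = _ := by group

/-- `H` is equivariant for the conjugation action of `L` on `A`. -/
theorem map_H (hD : Cfsg.DadeHypothesis A L H) {a x : G} (ha : a ∈ A) (hx : x ∈ L) :
    H (x * a * x⁻¹) = (H a).map (MulAut.conj x).toMonoidHom := by
  set b := x * a * x⁻¹ with hb'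
  have hb : b ∈ A := hD.conj_mem x hx a ha
  have hL : L.map (MulAut.conj x).toMonoidHom = L := by
    exact mem_normalizer_iff_map_conj_eq.1 (le_normalizer hx)
  have hCL : Nat.card (CL L b) = Nat.card (CL L a) := by
    have : CL L b = (CL L a).map (MulAut.conj x).toMonoidHom := by
      rw [CL, CL, map_inf _ _ _ (MulAut.conj x).injective, hL, map_centralizer]
    rw [this]
    exact Nat.card_congr (equivMapOfInjective _ _ (MulAut.conj x).injective).toEquiv.symm
  have hC : Nat.card (centralizer ({b} : Set G)) = Nat.card (centralizer ({a} : Set G)) := by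
    rw [← map_centralizer]
    exact Nat.card_congr (equivMapOfInjective _ _ (MulAut.conj x).injective).toEquiv.symm
  have hcard : Nat.card (H b) = Nat.card ((H a).map (MulAut.conj x).toMonoidHom) := by
    rw [← Nat.card_congr (equivMapOfInjective (H a) (MulAut.conj x).toMonoidHom
      (MulAut.conj x).injective).toEquiv]
    apply mul_right_cancel₀ (b := Nat.card (CL L a)) Nat.card_pos.ne'
    rw [← card_centralizer hD ha, ← hC, card_centralizer hD hb, hCL]
  refine (eq_of_le_of_card_ge ?_ hcard.le).symm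
  intro y hy
  have hyC : y ∈ centralizer ({b} : Set G) := by
    rw [hb', ← map_centralizer]
    exact map_mono (hD.le_centralizer a ha) hy
  obtain ⟨h, hh, l, hl, rfl⟩ := exists_mul_of_mem_centralizer hD hb hyC
  set C := centralizer ({b} : Set G) with hCdef
  set Hb := (H b).subgroupOf C with hHb
  have : Hb.Normal := ⟨fun n hn c => mem_subgroupOf.2 <| by
    simpa using hD.conj_mem_H b hb (c : G) c.2 (n : G) (mem_subgroupOf.1 hn)⟩
  have horder : orderOf (h * l) ∣ Nat.card (H b) := by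
    rw [hcard]; exact Subgroup.orderOf_dvd_natCard _ hy
  let π := QuotientGroup.mk' Hb
  let yl : C := ⟨l, hl.2⟩
  let yy : C := ⟨h * l, hyC⟩
  have hπ : π yy = π yl := by
    have : yy = (⟨h, hD.le_centralizer b hb hh⟩ : C) * yl := rfl
    rw [this, map_mul]
    have h1 : π (⟨h, hD.le_centralizer b hb hh⟩ : C) = 1 :=
      (QuotientGroup.eq_one_iff _).2 (mem_subgroupOf.2 hh)
    rw [h1, one_mul]
  have o1 : orderOf (π yl) ∣ Nat.card (H b) := by
    rw [← hπ]
    exact dvd_trans (orderOf_map_dvd π yy) (by rw [← orderOf_injective C.subtype C.subtype_injective]; exact horder)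
  have o2 : orderOf (π yl) ∣ Nat.card (CL L b) := by
    refine dvd_trans (orderOf_map_dvd π yl) ?_
    rw [← orderOf_injective C.subtype C.subtype_injective]
    exact Subgroup.orderOf_dvd_natCard _ hl
  have : π yl = 1 := orderOf_eq_one_iff.1 (Nat.eq_one_of_dvd_coprimes (hD.coprime b hb b hb) o1 o2)
  exact mul_mem hh (mem_subgroupOf.1 ((QuotientGroup.eq_one_iff _).1 this))

theorem card_H_conj (hD : Cfsg.DadeHypothesis A L H) {a x : G} (ha : a ∈ A) (hx : x ∈ L) :
    Nat.card (H (x * a * x⁻¹)) = Nat.card (H a) := by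
  rw [map_H hD ha hx]
  exact Nat.card_congr (equivMapOfInjective _ _ (MulAut.conj x).injective).toEquiv.symm

theorem normalizer_coset (hD : Cfsg.DadeHypothesis A L H) {a : G} (ha : a ∈ A) :
    normalizer ((fun u : G => a * u) '' (H a : Set G)) = centralizer ({a} : Set G) := by
  apply le_antisymm
  · intro g hg
    obtain ⟨u, hu, e⟩ := ((mem_set_normalizer_iff.1 hg) a).1 ⟨1, one_mem _, mul_one a⟩
    have e' : g * (a * 1) * g⁻¹ = a * u := by rw [mul_one]; exact e.symm
    exact mem_centralizer_of_conj_eq (conj_eq hD ha ha (one_mem _) hu e')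
  · intro c hc
    refine mem_normalizer_of_mapsTo ?_
    rintro _ ⟨u, hu, rfl⟩
    refine ⟨c * u * c⁻¹, hD.conj_mem_H a ha c hc u hu, ?_⟩
    show a * (c * u * c⁻¹) = c * (a * u) * c⁻¹
    rw [← mul_assoc, ← mul_assoc, ← mem_centralizer_singleton.1 hc]; group

omit [Finite G] in
theorem centralizer_le_of_trivial (hD : Cfsg.DadeHypothesis A L (fun _ => ⊥)) {a : G} (ha : a ∈ A) :
    centralizer ({a} : Set G) ≤ L := by
  intro c hc
  have := hD.sup_eq a ha
  rw [bot_sup_eq] at this
  rw [← this] at hc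
  exact hc.1

theorem mem_of_conj_mem_trivial (hD : Cfsg.DadeHypothesis A L (fun _ => ⊥)) {a g : G} (ha : a ∈ A)
    (h : g * a * g⁻¹ ∈ A) : g ∈ L := by
  obtain ⟨x, hx, e⟩ := hD.fusion a ha g h
  have hc : x⁻¹ * g ∈ centralizer ({a} : Set G) := by
    apply mem_centralizer_of_conj_eq
    calc x⁻¹ * g * a * (x⁻¹ * g)⁻¹ = x⁻¹ * (g * a * g⁻¹) * x := by group
      _ = x⁻¹ * (x * a * x⁻¹) * x := by rw [e]
      _ = a := by group
  have := mul_mem hx (centralizer_le_of_trivial hD ha hc)
  rwa [mul_inv_cancel_left] at this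

/-- A TI-subset with normaliser `L` is the Dade set-up with all `H(a)` trivial. -/
theorem isTISubset_iff_dade (hA : A.Nonempty) (h1 : (1 : G) ∉ A) :
    (Cfsg.IsTISubset A ∧ normalizer A = L) ↔ Cfsg.DadeHypothesis A L (fun _ => ⊥) := by
  constructor
  · rintro ⟨hTI, rfl⟩
    have key : ∀ a ∈ A, ∀ g : G, g * a * g⁻¹ ∈ A → g ∈ normalizer A := fun a ha g hg => by
      by_contra hn
      exact h1 ((hTI g hn a ha hg) ▸ ha)
    have hC : ∀ a ∈ A, centralizer ({a} : Set G) ≤ normalizer A :=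
      fun a ha c hc => key a ha c (by rw [conj_eq_self hc]; exact ha)
    exact {
      one_not_mem := h1
      subset := fun a ha => hC a ha (mem_centralizer_singleton.2 rfl)
      conj_mem := fun x hx a ha => ((mem_set_normalizer_iff.1 hx) a).1 ha
      fusion := fun a ha g hg => ⟨g, key a ha g hg, rfl⟩
      le_centralizer := fun _ _ => bot_le
      conj_mem_H := fun a _ c _ u hu => by simp only [mem_bot] at hu ⊢; simp [hu]
      inf_eq_bot := fun _ _ => bot_inf_eq _
      sup_eq := fun a ha => by rw [bot_sup_eq]; exact inf_eq_right.2 (hC a ha)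
      coprime := fun a _ b _ => by simp }
  · intro hD
    obtain ⟨a₀, ha₀⟩ := hA
    have hN : normalizer A = L := le_antisymm
      (fun g hg => mem_of_conj_mem_trivial hD ha₀ (((mem_set_normalizer_iff.1 hg) a₀).1 ha₀))
      (fun x hx => mem_normalizer_of_mapsTo (hD.conj_mem x hx))
    exact ⟨fun g hg a ha h => absurd (hN ▸ mem_of_conj_mem_trivial hD ha h) hg, hN⟩

end Fin

end Cfsg.Agent.Lib.Isometry.TI
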