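import Cfsg.Agent.Lib.Isometry.Layers
import Cfsg.Agent.Lib.Isometry.Feit
import Cfsg.Agent.S0198

/-!
Feit's coherence theorem for the kernel characters of a Frobenius group: the set is coherent if the
kernel is abelian, or not of prime power order, or has abelianisation larger than `4 e² + 1`.
-/

set_option autoImplicit false
set_option linter.unusedSectionVars false

namespace Cfsg.Agent.Lib.Isometry.FeitCoherence

open scoped ComplexConjugate Classical commutatorElement
open Cfsg.Agent.Lib.Isometry.Inner Cfsg.Agent.Lib.Isometry.Coherence Cfsg.Agent.Lib.Isometry.Inflate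
open Cfsg.Agent.Lib.Isometry.Layers

universe u v

/-- In a finite nilpotent group every prime divisor of the order divides the order of the centre. -/
theorem exists_central_orderOf {M : Type u} [Group M] [Finite M] (h : Group.IsNilpotent M) {q : ℕ}
    [hq : Fact q.Prime] (hdvd : q ∣ Nat.card M) :
    ∃ z ∈ Subgroup.center M, orderOf z = q := by
  have hnormal := ((Group.isNilpotent_of_finite_tfae (G := M)).out 0 3 rfl rfl).mp h
  obtain ⟨Q⟩ := (inferInstance : Nonempty (Sylow q M))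
  have hQn : (Q : Subgroup M).Normal := hnormal q hq Q
  have hQd : q ∣ Nat.card (Q : Subgroup M) := by
    rw [Q.card_eq_multiplicity]
    exact dvd_pow_self q (hq.out.factorization_pos_of_dvd Nat.card_pos.ne' hdvd).ne'
  have : Nontrivial (Q : Subgroup M) := Finite.one_lt_card_iff_nontrivial.1
    (hq.out.one_lt.trans_le (Nat.le_of_dvd Nat.card_pos hQd))
  have := Q.isPGroup'.center_nontrivial
  obtain ⟨z₀, hz₀⟩ := exists_prime_orderOf_dvd_card' (G := Subgroup.center (Q : Subgroup M)) q (by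
    obtain ⟨k, hk⟩ := IsPGroup.iff_card.1 (Q.isPGroup'.to_subgroup (Subgroup.center (Q : Subgroup M)))
    rw [hk]
    refine dvd_pow_self q fun hk0 => ?_
    rw [hk0, pow_zero] at hk
    exact (Finite.one_lt_card_iff_nontrivial.2 inferInstance).ne' hk)
  set z : M := ((z₀ : (Q : Subgroup M)) : M) with hz
  refine ⟨z, ?_, by rw [hz, Subgroup.orderOf_coe, Subgroup.orderOf_coe, hz₀]⟩
  -- every Sylow subgroup centralises `z`
  have hcen : ∀ (r : ℕ) [Fact r.Prime] (R : Sylow r M), (R : Subgroup M) ≤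
      Subgroup.centralizer ({z} : Set M) := by
    intro r hr R x hx
    rw [Subgroup.mem_centralizer_singleton_iff]
    have hRn : (R : Subgroup M).Normal := hnormal r hr R
    by_cases hrq : r = q
    · subst hrq
      have hRQ : (R : Subgroup M) = Q := by
        have : Subsingleton (Sylow r M) := (Sylow.unique_of_normal Q hQn).instSubsingleton
        rw [Subsingleton.elim R Q]
      exact congrArg Subtype.val
        ((Subgroup.mem_center_iff.1 z₀.2) ⟨x, hRQ ▸ hx⟩)
    · exact Subgroup.commute_of_normal_of_disjoint _ _ hRn hQn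
        (IsPGroup.disjoint_of_ne r q hrq _ _ R.isPGroup' Q.isPGroup') x z hx (z₀ : (Q : Subgroup M)).2
  have htop : Subgroup.centralizer ({z} : Set M) = ⊤ := by
    refine Subgroup.eq_top_of_card_eq _ (Nat.dvd_antisymm (Subgroup.card_subgroup_dvd_card _) ?_)
    refine (Nat.dvd_iff_prime_pow_dvd_dvd _ _).2 fun r k hr hk => ?_
    have := Fact.mk hr
    obtain ⟨R⟩ := (inferInstance : Nonempty (Sylow r M))
    exact (R.pow_dvd_card_of_pow_dvd_card hk).trans (Subgroup.card_dvd_of_le (hcen r R))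
  exact Subgroup.mem_center_iff.2 fun g =>
    Subgroup.mem_centralizer_singleton_iff.1 (htop ▸ Subgroup.mem_top g)

variable {L : Type u} [Group L] [Fintype L] {G : Type v} [Group G] [Fintype G]
  {τ : (L → ℂ) → (G → ℂ)}

theorem isometry_mono {S S' : Set (L → ℂ)} (h : S ⊆ S')
    (hτ : Cfsg.IsLinearIsometryOn (Cfsg.zspanOn S' {1}ᶜ) τ) :
    Cfsg.IsLinearIsometryOn (Cfsg.zspanOn S {1}ᶜ) τ :=
  have hm : Cfsg.zspanOn S {1}ᶜ ⊆ Cfsg.zspanOn S' {1}ᶜ := zspanOn_mono _ h
  ⟨fun a ha b hb => hτ.1 a (hm ha) b (hm hb), fun a ha n => hτ.2.1 a (hm ha) n,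
    fun a ha b hb => hτ.2.2.1 a (hm ha) b (hm hb), fun a ha => hτ.2.2.2 a (hm ha)⟩

/-- A set of irreducible characters of one degree is coherent. -/
theorem coherent_equalDeg (S : Finset (L → ℂ)) (hirr : ∀ χ ∈ S, Cfsg.IsIrrCharacter L χ) (d : ℂ)
    (hdeg : ∀ χ ∈ S, χ 1 = d) (h2 : 2 ≤ S.card)
    (hτ : Cfsg.IsLinearIsometryOn (Cfsg.zspanOn (↑S : Set (L → ℂ)) {1}ᶜ) τ)
    (hτ1 : ∀ α ∈ Cfsg.zspanOn (↑S : Set (L → ℂ)) {1}ᶜ, τ α 1 = 0) :
    Cfsg.IsCoherent (↑S : Set (L → ℂ)) {1}ᶜ τ := by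
  have eqv : Fin S.card ≃ S := S.equivFin.symm
  let i₀ : Fin S.card := ⟨0, by omega⟩
  set χ₀ : L → ℂ := (eqv i₀ : L → ℂ) with hχ₀
  have hχ₀S : χ₀ ∈ S := (eqv i₀).2
  have hd : d ≠ 0 := by
    rw [← hdeg χ₀ hχ₀S]
    exact apply_one_ne_zero_of_signed (Or.inl (hirr χ₀ hχ₀S))
  have hdiff : ∀ χ ∈ S, χ - χ₀ ∈ Cfsg.zspanOn (↑S : Set (L → ℂ)) {1}ᶜ := fun χ h =>
    mem_zspanOn_one.2 ⟨zspan_sub (subset_zspan _ (Finset.mem_coe.2 h))
      (subset_zspan _ (Finset.mem_coe.2 hχ₀S)), by rw [Pi.sub_apply, hdeg χ h, hdeg χ₀ hχ₀S, sub_self]⟩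
  have hin : ∀ χ ∈ S, ∀ φ ∈ S, Cfsg.classInner χ φ = if χ = φ then 1 else 0 :=
    fun χ h φ h' => classInner_irr_eq (hirr χ h) (hirr φ h')
  obtain ⟨ε, hε, μ, hμ, hμinj, hμτ⟩ := Cfsg.Agent.S0198.result S.card i₀
    (fun i => τ ((eqv i : L → ℂ) - χ₀))
    (by show τ _ = 0; rw [← hχ₀, sub_self, iso_zero hτ])
    (fun i => hτ.2.2.2 _ (hdiff _ (eqv i).2)) (fun i => hτ1 _ (hdiff _ (eqv i).2))
    (fun i j hi hj => by
      have hne : ∀ i, i ≠ i₀ → (eqv i : L → ℂ) ≠ χ₀ := fun i hi e =>
        hi (eqv.injective (Subtype.ext e))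
      rw [hτ.2.2.1 _ (hdiff _ (eqv i).2) _ (hdiff _ (eqv j).2)]
      simp only [Induced.Basic.classInner_sub_left, Induced.Basic.classInner_sub_right,
        hin _ (eqv i).2 _ (eqv j).2, hin _ (eqv i).2 _ hχ₀S, hin _ hχ₀S _ (eqv j).2,
        hin _ hχ₀S _ hχ₀S, if_pos rfl, if_neg (hne i hi), if_neg (hne j hj).symm]
      by_cases hij : i = j
      · subst hij; simp only [if_pos rfl]; norm_num
      · rw [if_neg (fun e => hij (eqv.injective (Subtype.ext e))), if_neg hij]; norm_num)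
  have hεε : ε * conj ε = 1 := by rcases hε with rfl | rfl <;> simp
  set f : (L → ℂ) → (G → ℂ) := fun χ => if h : χ ∈ S then ε • μ (eqv.symm ⟨χ, h⟩) else 0 with hf
  have hfS : ∀ χ (h : χ ∈ S), f χ = ε • μ (eqv.symm ⟨χ, h⟩) := fun χ h => dif_pos h
  refine coherent_of_images (fun p hp r hr hne => by rw [hin p hp r hr, if_neg hne])
    (fun p hp e => apply_one_ne_zero_of_signed (Or.inl (hirr p hp)) (by rw [e]; rfl)) f ?_ ?_ ?_ ?_
  · intro χ h
    rw [hfS χ h]
    rcases hε with rfl | rfl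
    · simpa using gen_of_irr (hμ (eqv.symm ⟨χ, h⟩))
    · simpa using gen_intCast_smul (gen_of_irr (hμ (eqv.symm ⟨χ, h⟩))) (-1)
  · intro χ h φ h'
    rw [hfS χ h, hfS φ h', Induced.Basic.classInner_smul_left, Induced.Basic.classInner_smul_right,
      classInner_irr_eq (hμ _) (hμ _), ← mul_assoc, hεε, one_mul, hin χ h φ h']
    exact if_congr (by rw [hμinj.eq_iff, eqv.symm.injective.eq_iff, Subtype.ext_iff]) rfl rfl
  · have : Nontrivial S := Finset.one_lt_card_iff_nontrivial.1 (by omega) |> fun h =>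
      Set.nontrivial_coe_sort.2 h
    obtain ⟨⟨χ₁, h1⟩, hne⟩ := exists_ne (⟨χ₀, hχ₀S⟩ : S)
    exact ⟨χ₁ - χ₀, hdiff χ₁ h1, fun e => hne (Subtype.ext (sub_eq_zero.1 e))⟩
  · intro T hT α hα
    set V := zspanOnMod (↑S : Set (L → ℂ)) ({1}ᶜ : Set L) with hV
    set D : Set (L → ℂ) := (fun χ => χ - χ₀) '' (↑S : Set (L → ℂ)) with hD
    have hDV : Submodule.span ℤ D ≤ V := Submodule.span_le.2 (by
      rintro _ ⟨χ, hχ, rfl⟩; exact hdiff χ (Finset.mem_coe.1 hχ))
    have hTD : ∀ γ ∈ Submodule.span ℤ D, T γ = τ γ := by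
      intro γ hγ
      induction hγ using Submodule.span_induction with
      | mem z hz =>
        obtain ⟨χ, hχ, rfl⟩ := hz
        have hχ' := Finset.mem_coe.1 hχ
        have h := hμτ (eqv.symm ⟨χ, hχ'⟩)
        simp only [Equiv.apply_symm_apply] at h
        rw [map_sub, hT χ hχ', hT χ₀ hχ₀S, hfS χ hχ', hfS χ₀ hχ₀S, h, smul_sub]
        congr 3
        exact eqv.symm_apply_apply i₀
      | zero => rw [map_zero, iso_zero hτ]
      | add p r hp hr ihp ihr => rw [map_add, ihp, ihr, hτ.1 p (hDV hp) r (hDV hr)]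
      | smul n p hp ih => rw [map_zsmul, ih, hτ.2.1 p (hDV hp) n]
    have key : ∀ β ∈ Cfsg.zspan (↑S : Set (L → ℂ)), ∃ a : ℤ,
        β - (a : ℂ) • χ₀ ∈ Submodule.span ℤ D := by
      intro β hβ
      induction hβ using Submodule.span_induction with
      | mem z hz => exact ⟨1, by simpa using Submodule.subset_span (R := ℤ) (show z - χ₀ ∈ D from ⟨z, hz, rfl⟩)⟩
      | zero => exact ⟨0, by simp⟩
      | add p r _ _ ihp ihr =>
        obtain ⟨m, hp⟩ := ihp
        obtain ⟨m', hr⟩ := ihr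
        refine ⟨m + m', ?_⟩
        convert (Submodule.span ℤ D).add_mem hp hr using 1
        push_cast; rw [add_smul]; abel
      | smul t p _ ih =>
        obtain ⟨m, hp⟩ := ih
        refine ⟨t * m, ?_⟩
        convert (Submodule.span ℤ D).smul_mem t hp using 1
        funext y
        simp only [Pi.sub_apply, Pi.smul_apply, zsmul_eq_mul, smul_eq_mul, Pi.mul_apply,
          Pi.intCast_apply]
        push_cast; ring
    obtain ⟨hαs, hα1⟩ := mem_zspanOn_one.1 hα
    obtain ⟨a, ha⟩ := key α hαs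
    have h0 := (mem_zspanOn_one.1 (hDV ha)).2
    simp only [Pi.sub_apply, Pi.smul_apply, smul_eq_mul, hα1, hdeg χ₀ hχ₀S, zero_sub, neg_eq_zero,
      mul_eq_zero, hd, or_false, Int.cast_eq_zero] at h0
    rw [h0, Int.cast_zero, zero_smul, sub_zero] at ha
    exact hTD α ha

variable {K : Subgroup L} [K.Normal]
  (hC : ∀ n ∈ K, n ≠ 1 → Subgroup.centralizer ({n} : Set L) ≤ K)
  (hτ : Cfsg.IsLinearIsometryOn (Cfsg.zspanOn (↑(Inflate.layer K ⊥) : Set (L → ℂ)) {1}ᶜ) τ)
  (hτ1 : ∀ α ∈ Cfsg.zspanOn (↑(Inflate.layer K ⊥) : Set (L → ℂ)) {1}ᶜ, τ α 1 = 0)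

include hC in
/-- The size of the part of the kernel characters trivial on `Z`. -/
theorem sum_mdeg_layer (Z : Subgroup L) [Z.Normal] (hZ : Z ≤ K) :
    K.index * ∑ χ ∈ Inflate.layer K Z, mdeg K χ ^ 2 + 1 = Z.relIndex K := by
  have h := sum_mdeg hC hZ le_rfl
  rwa [Subgroup.relIndex_self] at h

include hC hτ hτ1 in
/-- Adjoining the layer between `B` and `Z`. -/
theorem coherent_step {B Z A : Subgroup L} [B.Normal] [Z.Normal] [A.Normal] (hBZ : B ≤ Z)
    (hZA : Z ≤ A) (hAK : A ≤ K) (hcomm : ⁅A, K⁆ ≤ B)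
    (hcoh : Cfsg.IsCoherent (↑(Inflate.layer K Z) : Set (L → ℂ)) {1}ᶜ τ)
    (hlin : ∃ ψ ∈ Inflate.layer K Z, mdeg K ψ = 1)
    (hnum : ∀ t : ℕ, t ^ 2 ≤ A.relIndex K → 2 * K.index * t + 1 < Z.relIndex K) :
    Cfsg.IsCoherent (↑(Inflate.layer K B) : Set (L → ℂ)) {1}ᶜ τ := by
  have hBK : B ≤ K := hBZ.trans (hZA.trans hAK)
  have hZK : Z ≤ K := hZA.trans hAK
  have hsub : Inflate.layer K Z ⊆ Inflate.layer K B := by
    intro χ hχ
    obtain ⟨h1, h2, h3⟩ := mem_layer.1 hχ
    exact mem_layer.2 ⟨h1, fun g hg => h2 g (hBZ hg), h3⟩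
  have hsubK : Inflate.layer K B ⊆ Inflate.layer K ⊥ := by
    intro χ hχ
    obtain ⟨h1, -, h3⟩ := mem_layer.1 hχ
    exact mem_layer.2 ⟨h1, fun g hg => by rw [Subgroup.mem_bot.1 hg], h3⟩
  obtain ⟨ψ, hψ, hψ1⟩ := hlin
  suffices h : ∀ T : Finset (L → ℂ), T ⊆ Inflate.layer K B \ Inflate.layer K Z →
      Cfsg.IsCoherent (↑(Inflate.layer K Z ∪ T) : Set (L → ℂ)) {1}ᶜ τ by
    have := h _ (Finset.Subset.refl _)
    rwa [Finset.union_sdiff_of_subset hsub] at this
  intro T
  induction T using Finset.induction_on with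
  | empty => intro _; simpa using hcoh
  | @insert χ T hχT ih =>
    intro hT
    rw [Finset.insert_subset_iff] at hT
    obtain ⟨hχB, hχZ⟩ := Finset.mem_sdiff.1 hT.1
    have hall : Inflate.layer K Z ∪ T ⊆ Inflate.layer K ⊥ :=
      Finset.union_subset (hsub.trans hsubK) ((hT.2.trans (Finset.sdiff_subset)).trans hsubK)
    have hins : (↑(insert χ (Inflate.layer K Z ∪ T)) : Set (L → ℂ)) ⊆ ↑(Inflate.layer K ⊥) :=
      Finset.coe_subset.2 (Finset.insert_subset (hsubK hχB) hall)
    rw [Finset.union_insert]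
    refine Feit.coherent_insert _ χ (fun ξ h => isIrr (hall h)) (isIrr (hsubK hχB))
      (by simp [hχZ, hχT]) (fun ξ => K.index * mdeg K ξ)
      (fun ξ h => (mdeg_spec hC (hins (Finset.mem_coe.2 h))).1) τ (isometry_mono hins hτ)
      (fun α hα => hτ1 α (zspanOn_mono _ hins hα)) (ih hT.2) ψ (Finset.mem_union_left _ hψ) ?_ ?_
    · rw [hψ1, mul_one]; exact dvd_mul_right _ _
    · have hχA : χ ∈ Inflate.layer A B := by
        obtain ⟨h1, h2, g, hg, hne⟩ := mem_layer.1 hχB
        refine mem_layer.2 ⟨h1, h2, ?_⟩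
        by_contra! hA
        exact hχZ (mem_layer.2 ⟨h1, fun x hx => hA x (hZA hx), g, hg, hne⟩)
      have hsq := mdeg_sq_le hC (hBZ.trans hZA) hAK hcomm hχA
      have h1 := hnum _ hsq
      have h2 := sum_mdeg_layer hC Z hZK
      have h3 : ∑ ξ ∈ Inflate.layer K Z, mdeg K ξ ^ 2 ≤ ∑ ξ ∈ Inflate.layer K Z ∪ T, mdeg K ξ ^ 2 :=
        Finset.sum_le_sum_of_subset Finset.subset_union_left
      have he : 0 < K.index := Nat.pos_of_ne_zero Subgroup.index_ne_zero_of_finite
      have h4 : 2 * mdeg K χ < ∑ ξ ∈ Inflate.layer K Z ∪ T, mdeg K ξ ^ 2 := by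
        refine lt_of_lt_of_le (Nat.lt_of_mul_lt_mul_left (a := K.index) ?_) h3
        rw [← h2] at h1
        rw [← mul_assoc, mul_comm K.index 2]
        omega
      rw [hψ1, mul_one]
      calc 2 * K.index * (K.index * mdeg K χ) = K.index ^ 2 * (2 * mdeg K χ) := by ring
        _ < K.index ^ 2 * ∑ ξ ∈ Inflate.layer K Z ∪ T, mdeg K ξ ^ 2 :=
          Nat.mul_lt_mul_of_pos_left h4 (pow_pos he 2)
        _ = _ := by
          rw [Finset.mul_sum]; exact Finset.sum_congr rfl fun ξ _ => (mul_pow _ _ 2).symm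

include hC hτ hτ1 in
/-- The characters trivial on the derived subgroup form a coherent set. -/
theorem coherent_derived (hK1 : K.lowerCentralSeries 1 < K)
    (hlarge : 2 * K.index + 1 ≤ (K.lowerCentralSeries 1).relIndex K) :
    Cfsg.IsCoherent (↑(Inflate.layer K (K.lowerCentralSeries 1)) : Set (L → ℂ)) {1}ᶜ τ ∧
      ∀ χ ∈ Inflate.layer K (K.lowerCentralSeries 1), mdeg K χ = 1 := by
  haveI := lcs_normal (K := K) 1
  have hdeg : ∀ χ ∈ Inflate.layer K (K.lowerCentralSeries 1), mdeg K χ = 1 := by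
    intro χ hχ
    have h1 := mdeg_sq_le hC hK1.le le_rfl (le_of_eq rfl) hχ
    rw [Subgroup.relIndex_self] at h1
    have := (mdeg_spec hC (layer_subset le_rfl hχ)).2.1
    nlinarith
  have hsub : (↑(Inflate.layer K (K.lowerCentralSeries 1)) : Set (L → ℂ)) ⊆
      ↑(Inflate.layer K ⊥) := Finset.coe_subset.2 (layer_subset le_rfl)
  refine ⟨coherent_equalDeg _ (fun χ h => isIrr (layer_subset le_rfl h)) (K.index : ℂ)
    (fun χ h => by rw [(mdeg_spec hC (layer_subset le_rfl h)).1, hdeg χ h, mul_one]) ?_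
    (isometry_mono hsub hτ) (fun α hα => hτ1 α (zspanOn_mono _ hsub hα)), hdeg⟩
  have h := sum_mdeg_layer hC (K.lowerCentralSeries 1) hK1.le
  rw [Finset.sum_congr rfl fun χ hχ => by rw [hdeg χ hχ, one_pow], Finset.sum_const, smul_eq_mul,
    mul_one] at h
  by_contra! hlt
  have : K.index * (Inflate.layer K (K.lowerCentralSeries 1)).card ≤ K.index * 1 :=
    Nat.mul_le_mul_left _ (Nat.lt_succ_iff.1 hlt)
  have he : 0 < K.index := Nat.pos_of_ne_zero Subgroup.index_ne_zero_of_finite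
  omega

include hC in
theorem lcs_one_lt (hK : K ≠ ⊥) (htop : K ≠ ⊤) : K.lowerCentralSeries 1 < K := by
  obtain ⟨n, hn⟩ := (Subgroup.isNilpotent_iff_lowerCentralSeries K).1 (isNilpotent_kernel hC htop)
  refine lt_of_le_of_ne (lcs_le 1) fun h => hK ?_
  have := le_of_sup_derived hn (N := ⊥) (by rw [h])
  exact le_bot_iff.1 this

include hC in
/-- If the kernel is not of prime power order, its abelianisation has two prime divisors and order
at least `(e + 1)²`. -/
theorem abelianisation_of_not_primePow (hK : K ≠ ⊥) (htop : K ≠ ⊤)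
    (hpp : ¬ ∃ p a : ℕ, p.Prime ∧ Nat.card K = p ^ a) :
    (K.index + 1) ^ 2 ≤ (K.lowerCentralSeries 1).relIndex K ∧
      ∀ p : ℕ, p.Prime → ∃ q : ℕ, q.Prime ∧ q ≠ p ∧ q ∣ (K.lowerCentralSeries 1).relIndex K := by
  have hnil := isNilpotent_kernel hC htop
  obtain ⟨n, hn⟩ := (Subgroup.isNilpotent_iff_lowerCentralSeries K).1 hnil
  haveI := lcs_normal (K := K) 1
  set Z := K.lowerCentralSeries 1 with hZ
  have hZK : Z ≤ K := lcs_le 1
  have hr : Z.relIndex K ≠ 1 := fun h =>
    (lcs_one_lt hC hK htop).ne (le_antisymm hZK (Subgroup.relIndex_eq_one.1 h))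
  obtain ⟨p, hp, hpr⟩ := Nat.exists_prime_and_dvd hr
  haveI : Fact p.Prime := ⟨hp⟩
  obtain ⟨P⟩ := (inferInstance : Nonempty (Sylow p K))
  haveI hPn : (P : Subgroup K).Normal :=
    ((Group.isNilpotent_of_finite_tfae (G := K)).out 0 3 rfl rfl).mp hnil p ⟨hp⟩ P
  haveI : (P : Subgroup K).Characteristic := Sylow.characteristic_of_normal P hPn
  set P' := (P : Subgroup K).map K.subtype with hP'
  haveI : P'.Normal := inferInstance
  have hP'K : P' ≤ K := Subgroup.map_subtype_le _
  set N := P' ⊔ Z with hN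
  have hNK : N ≤ K := sup_le hP'K hZK
  have hP'rel : P'.relIndex K = (P : Subgroup K).index := by
    show (P'.subgroupOf K).index = _
    rw [Subgroup.subgroupOf, hP', Subgroup.comap_map_eq_self_of_injective K.subtype_injective]
  have hn'p : ¬ p ∣ N.relIndex K := fun h => P.not_dvd_index
    (hP'rel ▸ h.trans (Subgroup.relIndex_dvd_of_le_left K le_sup_left))
  have hn'1 : N.relIndex K ≠ 1 := by
    intro h
    have h' : N = K := le_antisymm hNK (Subgroup.relIndex_eq_one.1 h)
    have hKP : K ≤ P' := le_of_sup_derived hn (by rw [← hZ, ← hN, h', sup_eq_right.2 hP'K])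
    obtain ⟨a, ha⟩ := IsPGroup.iff_card.1 P.isPGroup'
    exact hpp ⟨p, a, hp, by
      rw [← ha]
      refine (congrArg (fun X : Subgroup L => Nat.card X) (le_antisymm hKP hP'K)).trans ?_
      exact Nat.card_congr ((P : Subgroup K).equivMapOfInjective _ K.subtype_injective).symm.toEquiv⟩
  have hmul : Z.relIndex N * N.relIndex K = Z.relIndex K :=
    Subgroup.relIndex_mul_relIndex Z N K le_sup_right hNK
  have hnp1 : Z.relIndex N ≠ 1 := fun h => hn'p (by rw [h, one_mul] at hmul; rw [hmul]; exact hpr)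
  have m1 := relIndex_modEq hC N hNK
  have m3 := relIndex_modEq hC Z hZK
  have m2 : Z.relIndex N ≡ 1 [MOD K.index] := by
    rw [← hmul] at m3
    exact ((m1.mul_left (Z.relIndex N)).symm.trans m3).trans rfl |> fun h => by simpa using h
  have hge : ∀ x : ℕ, 0 < x → x ≠ 1 → x ≡ 1 [MOD K.index] → K.index + 1 ≤ x := by
    intro x hx0 hx1 hm
    have := Nat.le_of_dvd (by omega) ((Nat.modEq_iff_dvd' hx0).1 hm.symm)
    omega
  have hpos : 0 < Z.relIndex K :=
    Nat.pos_of_ne_zero (Subgroup.index_ne_zero_of_finite (H := Z.subgroupOf K))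
  refine ⟨?_, fun r _ => ?_⟩
  · rw [← hmul] at hpos ⊢
    rw [pow_two]
    exact Nat.mul_le_mul (hge _ (Nat.pos_of_mul_pos_right hpos) hnp1 m2)
      (hge _ (Nat.pos_of_mul_pos_left hpos) hn'1 m1)
  · obtain ⟨q, hq, hqd⟩ := Nat.exists_prime_and_dvd hn'1
    by_cases hrp : r = p
    · exact ⟨q, hq, fun e => hn'p (hrp ▸ e ▸ hqd), hmul ▸ hqd.mul_left _⟩
    · exact ⟨p, hp, Ne.symm hrp, hpr⟩

include hC hτ hτ1 in
/-- Feit's coherence theorem. -/
theorem coherent_of_criterion (hK : K ≠ ⊥) (htop : K ≠ ⊤)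
    (hcrit : (∀ a ∈ K, ∀ b ∈ K, a * b = b * a) ∧ 2 * K.index + 1 ≤ Nat.card K ∨
      2 ≤ K.index ∧ (¬ ∃ p a : ℕ, p.Prime ∧ Nat.card K = p ^ a) ∨
      4 * K.index ^ 2 + 1 < (K.lowerCentralSeries 1).relIndex K) :
    Cfsg.IsCoherent (↑(Inflate.layer K ⊥) : Set (L → ℂ)) {1}ᶜ τ := by
  haveI := fun m => lcs_normal (K := K) m
  have hK1 : K.lowerCentralSeries 1 < K := lcs_one_lt hC hK htop
  have he : 0 < K.index := Nat.pos_of_ne_zero Subgroup.index_ne_zero_of_finite
  set X := (K.lowerCentralSeries 1).relIndex K with hX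
  have hlarge : 2 * K.index + 1 ≤ X := by
    rcases hcrit with ⟨hab, h⟩ | ⟨he2, hpp⟩ | h
    · have hbot : K.lowerCentralSeries 1 = ⊥ := by
        rw [Subgroup.lowerCentralSeries_succ, Subgroup.lowerCentralSeries_zero, eq_bot_iff,
          Subgroup.commutator_le]
        intro a ha b hb
        rw [Subgroup.mem_bot, commutatorElement_eq_one_iff_mul_comm]
        exact hab a ha b hb
      rwa [hX, hbot, Subgroup.relIndex_bot_left]
    · have := (abelianisation_of_not_primePow hC hK htop hpp).1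
      rw [← hX] at this
      nlinarith
    · nlinarith
  obtain ⟨hbase, hdeg1⟩ := coherent_derived hC hτ hτ1 hK1 hlarge
  suffices h : ∀ (N : ℕ) (B : Subgroup L), B.Normal → B ≤ K.lowerCentralSeries 1 →
      Nat.card (K.lowerCentralSeries 1) ≤ N + Nat.card B →
      Cfsg.IsCoherent (↑(Inflate.layer K B) : Set (L → ℂ)) {1}ᶜ τ by
    exact h (Nat.card (K.lowerCentralSeries 1)) ⊥ inferInstance bot_le (Nat.le_add_right _ _)
  intro N
  induction N with
  | zero =>
    intro B _ hB hN
    rwa [Subgroup.eq_of_le_of_card_ge hB (by omega)]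
  | succ N ih =>
    intro B hBn hB hN
    rcases hB.eq_or_lt with rfl | hlt
    · exact hbase
    obtain ⟨Z, ⟨hZn, hBZ, hZ1⟩, hmin⟩ := (Set.toFinite
      {Z : Subgroup L | Z.Normal ∧ B < Z ∧ Z ≤ K.lowerCentralSeries 1}).exists_minimal
      ⟨_, inferInstance, hlt, le_rfl⟩
    have hmin' : ∀ W : Subgroup L, W.Normal → B < W → W ≤ Z → W = Z := fun W hWn hBW hWZ =>
      le_antisymm hWZ (hmin ⟨hWn, hBW, hWZ.trans hZ1⟩ hWZ)
    have hZK : Z ≤ K := hZ1.trans (lcs_le 1)
    have hBK : B ≤ K := hB.trans (lcs_le 1)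
    set f := QuotientGroup.mk' B with hf
    have hker : ∀ X : Subgroup L, B ≤ X → (X.map f).comap f = X := fun X hX' => by
      rw [Subgroup.comap_map_eq, hf, QuotientGroup.ker_mk', sup_eq_left.2 hX']
    have hsurj : Function.Surjective f := QuotientGroup.mk'_surjective B
    obtain ⟨n, hn⟩ := (Subgroup.isNilpotent_iff_lowerCentralSeries K).1 (isNilpotent_kernel hC htop)
    -- `Z / B` is central in `K / B`
    have hZc : ⁅Z, K⁆ ≤ B := by
      have hW : ⁅Z, K⁆ ⊔ B ≤ Z :=
        sup_le (Subgroup.commutator_le_left Z K) hBZ.le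
      rcases (show B ≤ ⁅Z, K⁆ ⊔ B from le_sup_right).eq_or_lt with h | h
      · exact h ▸ le_sup_left
      · exfalso
        have hWZ := hmin' _ inferInstance h hW
        have hmap : (Z.map f) = ⁅Z.map f, K.map f⁆ := by
          rw [← Subgroup.map_commutator]
          conv_lhs => rw [← hWZ, Subgroup.map_sup, hf,
            (Subgroup.map_eq_bot_iff B).2 (QuotientGroup.ker_mk' B).ge, sup_bot_eq]
        have hall : ∀ j, Z.map f ≤ (K.lowerCentralSeries j).map f := by
          intro j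
          induction j with
          | zero => exact Subgroup.map_mono hZK
          | succ j ihj =>
            rw [hmap, Subgroup.lowerCentralSeries_succ, Subgroup.map_commutator]
            exact Subgroup.commutator_mono ihj le_rfl
        have := hall n
        rw [hn, Subgroup.map_bot, le_bot_iff, hf, Subgroup.map_eq_bot_iff,
          QuotientGroup.ker_mk'] at this
        exact hBZ.not_ge this
    have hstep : ∀ (A : Subgroup L), A.Normal → Z ≤ A → A ≤ K → ⁅A, K⁆ ≤ B →
        (∀ t : ℕ, t ^ 2 ≤ A.relIndex K → 2 * K.index * t + 1 < Z.relIndex K) →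
        Cfsg.IsCoherent (↑(Inflate.layer K B) : Set (L → ℂ)) {1}ᶜ τ := by
      intro A hAn hZA hAK hAc hnum
      have hlt' : Nat.card B < Nat.card Z := by
        by_contra h
        exact hBZ.ne (Subgroup.eq_of_le_of_card_ge hBZ.le (not_lt.1 h))
      obtain ⟨ψ, hψ⟩ := layer_nonempty hK1
      exact coherent_step hC hτ hτ1 hBZ.le hZA hAK hAc (ih Z hZn hZ1 (by omega))
        ⟨ψ, mem_layer.2 ⟨(mem_layer.1 hψ).1, fun g hg => (mem_layer.1 hψ).2.1 g (hZ1 hg),
          (mem_layer.1 hψ).2.2⟩, hdeg1 ψ hψ⟩ hnum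
    have hXZ : X ≤ Z.relIndex K :=
      Nat.le_of_dvd (Nat.pos_of_ne_zero (Subgroup.index_ne_zero_of_finite (H := Z.subgroupOf K)))
        (Subgroup.relIndex_dvd_of_le_left K hZ1)
    rcases hcrit with ⟨hab, -⟩ | ⟨he2, hpp⟩ | hbig
    · exfalso
      refine hlt.not_ge ((le_of_eq ?_).trans bot_le)
      rw [Subgroup.lowerCentralSeries_succ, Subgroup.lowerCentralSeries_zero, eq_bot_iff,
        Subgroup.commutator_le]
      intro a ha b hb
      rw [Subgroup.mem_bot, commutatorElement_eq_one_iff_mul_comm]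
      exact hab a ha b hb
    · obtain ⟨hX2, hprimes⟩ := abelianisation_of_not_primePow hC hK htop hpp
      rw [← hX] at hX2
      -- `Z / B` has prime exponent
      have hZbar : ∃ p : ℕ, p.Prime ∧ ∀ y ∈ Z.map f, y ^ p = 1 := by
        have hne : Z.map f ≠ ⊥ := by
          rw [Ne, Subgroup.map_eq_bot_iff, hf, QuotientGroup.ker_mk']
          exact hBZ.not_ge
        have : Nat.card (Z.map f) ≠ 1 := fun h => hne (Subgroup.card_eq_one.1 h)
        obtain ⟨p, hp, hpd⟩ := Nat.exists_prime_and_dvd this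
        have := Fact.mk hp
        obtain ⟨x, hx⟩ := exists_prime_orderOf_dvd_card' (G := Z.map f) p hpd
        have hcommZ : ∀ y ∈ Z.map f, ∀ z ∈ Z.map f, y * z = z * y := by
          rintro _ ⟨y, hy, rfl⟩ _ ⟨z, hz, rfl⟩
          rw [← commutatorElement_eq_one_iff_mul_comm, ← map_commutatorElement]
          exact (QuotientGroup.eq_one_iff _).2
            (hZc (Subgroup.commutator_mem_commutator hy (hZK hz)))
        let E : Subgroup (L ⧸ B) :=
          { carrier := {y | y ∈ Z.map f ∧ y ^ p = 1}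
            one_mem' := ⟨one_mem _, one_pow p⟩
            mul_mem' := fun {y z} hy hz => ⟨mul_mem hy.1 hz.1, by
              rw [Commute.mul_pow (hcommZ y hy.1 z hz.1), hy.2, hz.2, one_mul]⟩
            inv_mem' := fun {y} hy => ⟨inv_mem hy.1, by rw [inv_pow, hy.2, inv_one]⟩ }
        have hZbn : (Z.map f).Normal := hZn.map f hsurj
        have hEn : E.Normal := ⟨fun y hy g => ⟨hZbn.conj_mem y hy.1 g, by
          rw [conj_pow, hy.2, mul_one, mul_inv_cancel]⟩⟩
        refine ⟨p, hp, fun y hy => ?_⟩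
        have hxE : (x : L ⧸ B) ∈ E := ⟨x.2, by
          rw [← hx, ← Subgroup.orderOf_coe, pow_orderOf_eq_one]⟩
        have hBE : B ≤ E.comap f := fun b hb => by
          rw [Subgroup.mem_comap, show f b = 1 from (QuotientGroup.eq_one_iff b).2 hb]
          exact one_mem E
        have hEZ : E.comap f ≤ Z := (Subgroup.comap_mono (show E ≤ Z.map f from fun y hy => hy.1)).trans_eq (hker Z hBZ.le)
        rcases hBE.eq_or_lt with h | h
        · exfalso
          obtain ⟨w, hw⟩ := hsurj (x : L ⧸ B)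
          have hwB : w ∈ B := by rw [h, Subgroup.mem_comap, hw]; exact hxE
          rw [show (x : Z.map f) = 1 from Subtype.ext
            (hw.symm.trans ((QuotientGroup.eq_one_iff w).2 hwB)), orderOf_one] at hx
          exact hp.one_lt.ne hx
        · have := hmin' _ (hEn.comap f) h hEZ
          obtain ⟨w, hw, rfl⟩ := hy
          rw [← this] at hw
          exact (Subgroup.mem_comap.1 hw).2
      obtain ⟨p, hp, hexp⟩ := hZbar
      obtain ⟨q, hq, hqp, hqX⟩ := hprimes p hp
      have := Fact.mk hq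
      -- the centre of `K / B`
      set C := K.map f ⊓ Subgroup.centralizer ((K.map f : Subgroup (L ⧸ B)) : Set (L ⧸ B)) with hC'
      haveI : (K.map f).Normal := Subgroup.Normal.map inferInstance f hsurj
      have hCn : C.Normal := inferInstance
      have hAK : C.comap f ≤ K := (Subgroup.comap_mono inf_le_left).trans_eq (hker K hBK)
      have hAc : ⁅C.comap f, K⁆ ≤ B := by
        rw [Subgroup.commutator_le]
        intro y hy k hk
        rw [← QuotientGroup.eq_one_iff]
        change f ⁅y, k⁆ = 1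
        rw [map_commutatorElement, commutatorElement_eq_one_iff_mul_comm]
        exact ((Subgroup.mem_centralizer_iff.1 hy.2) (f k) (Subgroup.mem_map_of_mem f hk)).symm
      have hZA : Z ≤ C.comap f := by
        intro z hz
        rw [Subgroup.mem_comap, hC', Subgroup.mem_inf, Subgroup.mem_centralizer_iff]
        refine ⟨Subgroup.mem_map_of_mem f (hZK hz), ?_⟩
        rintro _ ⟨k, hk, rfl⟩
        refine Eq.symm ?_
        rw [← commutatorElement_eq_one_iff_mul_comm, ← map_commutatorElement]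
        exact (QuotientGroup.eq_one_iff _).2 (hZc (Subgroup.commutator_mem_commutator hz hk))
      have hne : C.comap f ≠ Z := by
        intro heq
        have hCZ : C = Z.map f := by rw [← heq, Subgroup.map_comap_eq_self_of_surjective hsurj]
        have hnilq : Group.IsNilpotent (K.map f) := by
          have := isNilpotent_kernel hC htop
          exact Group.nilpotent_of_surjective (f.subgroupMap K) (f.subgroupMap_surjective K)
        have hqK : q ∣ Nat.card (K.map f) := by
          have h1 : X ∣ B.relIndex K := Subgroup.relIndex_dvd_of_le_left K hB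
          have h2 : Nat.card (K.map f) = B.relIndex K := by
            rw [← Subgroup.relIndex_ker, hf, QuotientGroup.ker_mk']
          exact h2 ▸ hqX.trans h1
        obtain ⟨z, hz, hzo⟩ := exists_central_orderOf hnilq hqK
        have hzC : (z : L ⧸ B) ∈ C := ⟨z.2, Subgroup.mem_centralizer_iff.2 fun k hk =>
          congrArg Subtype.val (Subgroup.mem_center_iff.1 hz ⟨k, hk⟩)⟩
        have hzp := hexp _ (hCZ ▸ hzC)
        have hdvd := orderOf_dvd_of_pow_eq_one hzp
        rw [Subgroup.orderOf_coe, hzo] at hdvd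
        exact hqp ((Nat.prime_dvd_prime_iff_eq hq hp).1 hdvd)
      haveI : (C.comap f).Normal := hCn.comap f
      refine hstep _ inferInstance hZA hAK hAc fun t ht => ?_
      -- `[A : Z] ≥ e + 1`
      have hmul := Subgroup.relIndex_mul_relIndex Z (C.comap f) K hZA hAK
      have hpos : 0 < Z.relIndex K :=
        Nat.pos_of_ne_zero (Subgroup.index_ne_zero_of_finite (H := Z.subgroupOf K))
      have m1 := relIndex_modEq hC (C.comap f) hAK
      have m2 : Z.relIndex (C.comap f) ≡ 1 [MOD K.index] := by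
        have m3 := relIndex_modEq hC Z hZK
        rw [← hmul] at m3
        exact ((m1.mul_left (Z.relIndex (C.comap f))).symm.trans m3).trans rfl |> fun h => by
          simpa using h
      have hne1 : Z.relIndex (C.comap f) ≠ 1 := fun h =>
        hne (le_antisymm (Subgroup.relIndex_eq_one.1 h) hZA)
      have hpos' : 0 < Z.relIndex (C.comap f) := by
        rw [← hmul] at hpos; exact Nat.pos_of_mul_pos_right hpos
      have hge : K.index + 1 ≤ Z.relIndex (C.comap f) := by
        have := Nat.le_of_dvd (by omega) ((Nat.modEq_iff_dvd' hpos').1 m2.symm)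
        omega
      by_contra hcon
      rw [not_lt] at hcon
      set Y := Z.relIndex K with hY
      have h5 : (K.index + 1) * t ^ 2 ≤ Y := by
        rw [← hmul]; exact Nat.mul_le_mul hge ht
      nlinarith [Nat.mul_le_mul hcon hcon]
    · refine hstep Z hZn le_rfl hZK hZc fun t ht => ?_
      by_contra hcon
      rw [not_lt] at hcon
      nlinarith [Nat.mul_le_mul hcon hcon]

end Cfsg.Agent.Lib.Isometry.FeitCoherence
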