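import Cfsg.Agent.Lib.Isometry.TI
set_option autoImplicit false

/-! The Dade map: evaluation, the averaging formula over the support, adjoint, isometry. -/

namespace Cfsg.Agent.Lib.Isometry.Dade

open Subgroup Cfsg.Agent.Lib.Isometry.TI
open scoped Classical ComplexConjugate

universe u
variable {G : Type u} [Group G] {A : Set G} {L : Subgroup G} {H : G → Subgroup G}

/-- The support of the Dade map: the conjugates of the cosets `a H(a)`, `a ∈ A`. -/
def support (A : Set G) (H : G → Subgroup G) : Set G :=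
  {g | ∃ a ∈ A, ∃ u ∈ H a, ∃ x : G, x * g * x⁻¹ = a * u}

theorem mem_support_of_coset {a u x : G} (ha : a ∈ A) (hu : u ∈ H a) :
    x * (a * u) * x⁻¹ ∈ support A H :=
  ⟨a, ha, u, hu, x⁻¹, by group⟩

theorem dadeIsometry_eq_zero {α : L → ℂ} {g : G} (h : g ∉ support A H) :
    Cfsg.dadeIsometry A L H α g = 0 := by
  unfold Cfsg.dadeIsometry
  rw [dif_neg]
  rintro ⟨a, ha, x, u, hu, e⟩
  exact h ⟨a, ha, u, hu, x, e⟩

section Fin
variable [Finite G]

theorem dadeIsometry_apply (hD : Cfsg.DadeHypothesis A L H) {α : L → ℂ}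
    (hα : Cfsg.IsClassFunction L α) {g x u : G} {a : L} (ha : (a : G) ∈ A) (hu : u ∈ H a)
    (e : x * g * x⁻¹ = a * u) : Cfsg.dadeIsometry A L H α g = α a := by
  have h : ∃ a : L, (a : G) ∈ A ∧ ∃ x : G, ∃ u ∈ H (a : G), x * g * x⁻¹ = (a : G) * u :=
    ⟨a, ha, x, u, hu, e⟩
  unfold Cfsg.dadeIsometry
  rw [dif_pos h]
  set b : L := Classical.choose h with hb
  obtain ⟨hbA, y, v, hv, ev⟩ := Classical.choose_spec h
  have e2 : (y * x⁻¹) * ((a : G) * u) * (y * x⁻¹)⁻¹ = (b : G) * v := by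
    rw [← e, ← ev]; group
  have e3 := conj_eq hD ha hbA hu hv e2
  obtain ⟨z, hz, ez⟩ := hD.fusion a ha (y * x⁻¹) (e3.symm ▸ hbA)
  rw [e3] at ez
  have : b = (⟨z, hz⟩ : L) * a * (⟨z, hz⟩ : L)⁻¹ := Subtype.ext (by simpa using ez.symm)
  rw [this]
  exact hα a ⟨z, hz⟩

theorem dadeIsometry_coset (hD : Cfsg.DadeHypothesis A L H) {α : L → ℂ}
    (hα : Cfsg.IsClassFunction L α) {u : G} (a : L) (ha : (a : G) ∈ A) (hu : u ∈ H a) :
    Cfsg.dadeIsometry A L H α ((a : G) * u) = α a :=
  dadeIsometry_apply hD hα (x := 1) ha hu (by group)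

theorem dadeIsometry_isClassFunction (hD : Cfsg.DadeHypothesis A L H) {α : L → ℂ}
    (hα : Cfsg.IsClassFunction L α) : Cfsg.IsClassFunction G (Cfsg.dadeIsometry A L H α) := by
  intro g y
  by_cases h : g ∈ support A H
  · obtain ⟨a, ha, u, hu, x, e⟩ := h
    rw [dadeIsometry_apply hD hα (a := ⟨a, hD.subset ha⟩) ha hu e]
    exact dadeIsometry_apply hD hα (x := x * y⁻¹) (a := ⟨a, hD.subset ha⟩) ha hu
      (by rw [← e]; group)
  · rw [dadeIsometry_eq_zero h, dadeIsometry_eq_zero]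
    rintro ⟨a, ha, u, hu, x, e⟩
    exact h ⟨a, ha, u, hu, x * y, by rw [← e]; group⟩

/-- The elements `x` with `x g x⁻¹` in some coset `a H(a)`, for a `g` in the support,
correspond to `H(a₀) × L`. -/
theorem card_transporter (hD : Cfsg.DadeHypothesis A L H) {a₀ u₀ g x₀ : G} (ha₀ : a₀ ∈ A)
    (hu₀ : u₀ ∈ H a₀) (e₀ : x₀ * g * x₀⁻¹ = a₀ * u₀) :
    Nat.card {x : G // ∃ a ∈ A, ∃ u ∈ H a, x * g * x⁻¹ = a * u} =
      Nat.card L * Nat.card (H a₀) := by
  rw [← Nat.card_prod]
  have hmem : ∀ p : L × H a₀, ∃ a ∈ A, ∃ u ∈ H a,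
      ((p.1 : G) * p.2 * x₀) * g * ((p.1 : G) * p.2 * x₀)⁻¹ = a * u := by
    rintro ⟨⟨l, hl⟩, ⟨h, hh⟩⟩
    have hc := commute_of_mem hD ha₀ hh
    refine ⟨l * a₀ * l⁻¹, hD.conj_mem l hl a₀ ha₀, l * (h * u₀ * h⁻¹) * l⁻¹, ?_, ?_⟩
    · rw [map_H hD ha₀ hl]
      exact ⟨h * u₀ * h⁻¹, mul_mem (mul_mem hh hu₀) (inv_mem hh), rfl⟩
    · calc l * h * x₀ * g * (l * h * x₀)⁻¹ = l * (h * (x₀ * g * x₀⁻¹) * h⁻¹) * l⁻¹ := by group
        _ = l * ((h * a₀) * u₀ * h⁻¹) * l⁻¹ := by rw [e₀]; group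
        _ = l * ((a₀ * h) * u₀ * h⁻¹) * l⁻¹ := by rw [hc.eq]
        _ = _ := by group
  refine (Nat.card_congr (Equiv.ofBijective
    (fun p : L × H a₀ => (⟨(p.1 : G) * p.2 * x₀, hmem p⟩ :
      {x : G // ∃ a ∈ A, ∃ u ∈ H a, x * g * x⁻¹ = a * u})) ⟨?_, ?_⟩)).symm
  · rintro ⟨l₁, h₁⟩ ⟨l₂, h₂⟩ h
    simp only [Subtype.mk.injEq] at h
    have h' := mul_right_cancel h
    have e : (l₂ : G)⁻¹ * l₁ = (h₂ : G) * (h₁ : G)⁻¹ := by
      rw [inv_mul_eq_iff_eq_mul, ← mul_assoc, eq_mul_inv_iff_mul_eq]; exact h'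
    have hmem : (l₂ : G)⁻¹ * l₁ ∈ H a₀ ⊓ L :=
      mem_inf.2 ⟨e ▸ (H a₀).mul_mem h₂.2 ((H a₀).inv_mem h₁.2), L.mul_mem (L.inv_mem l₂.2) l₁.2⟩
    rw [inf_L_eq_bot hD ha₀, mem_bot] at hmem
    rw [hmem] at e
    ext
    · exact (inv_mul_eq_one.1 hmem).symm
    · exact (mul_inv_eq_one.1 e.symm).symm
  · rintro ⟨x, a, ha, u, hu, e⟩
    have e2 : (x * x₀⁻¹) * (a₀ * u₀) * (x * x₀⁻¹)⁻¹ = a * u := by rw [← e₀, ← e]; group
    have e3 := conj_eq hD ha₀ ha hu₀ hu e2
    obtain ⟨l, hl, el⟩ := hD.fusion a₀ ha₀ (x * x₀⁻¹) (e3.symm ▸ ha)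
    have hc : l⁻¹ * (x * x₀⁻¹) ∈ centralizer ({a₀} : Set G) := by
      apply mem_centralizer_of_conj_eq
      calc l⁻¹ * (x * x₀⁻¹) * a₀ * (l⁻¹ * (x * x₀⁻¹))⁻¹
            = l⁻¹ * ((x * x₀⁻¹) * a₀ * (x * x₀⁻¹)⁻¹) * l := by group
        _ = l⁻¹ * (l * a₀ * l⁻¹) * l := by rw [el]
        _ = a₀ := by group
    obtain ⟨h, hh, m, hm, ehm⟩ := exists_mul_of_mem_centralizer hD ha₀ hc
    refine ⟨(⟨l * m, L.mul_mem hl hm.1⟩, ⟨m⁻¹ * h * m, ?_⟩), Subtype.ext ?_⟩
    · simpa using hD.conj_mem_H a₀ ha₀ m⁻¹ (inv_mem hm.2) h hh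
    · show l * m * (m⁻¹ * h * m) * x₀ = x
      calc l * m * (m⁻¹ * h * m) * x₀ = l * (h * m) * x₀ := by group
        _ = x := by rw [ehm]; group

end Fin

section Sum
variable [Fintype G] {K : Type*} [Field K] [CharZero K]

/-- Averaging formula over the support of the Dade map. -/
theorem sum_support (hD : Cfsg.DadeHypothesis A L H) (F : G → K)
    (hF : ∀ g y : G, F (y * g * y⁻¹) = F g) :
    (Nat.card L : K) * (∑ g ∈ Finset.univ.filter (fun g => g ∈ support A H), F g) =
      (Fintype.card G : K) * ∑ a ∈ Finset.univ.filter (fun a => a ∈ A),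
        (Nat.card (H a) : K)⁻¹ * ∑ u ∈ Finset.univ.filter (fun u => u ∈ H a), F (a * u) := by
  have h1 : ∀ a : G, ∑ u ∈ Finset.univ.filter (fun u => u ∈ H a), F (a * u) =
      ∑ g : G, if a⁻¹ * g ∈ H a then F g else 0 := by
    intro a
    rw [Finset.sum_filter]
    exact Fintype.sum_equiv (Equiv.mulLeft a) _ _ (fun u => by simp)
  have h2 : ∀ (a x : G), (∑ g : G, if a⁻¹ * g ∈ H a then F g else 0) =
      ∑ g : G, if a⁻¹ * (x * g * x⁻¹) ∈ H a then F g else 0 := by
    intro a x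
    refine Fintype.sum_equiv (MulAut.conj x⁻¹).toEquiv _ _ (fun g => ?_)
    simp only [MulEquiv.toEquiv_eq_coe, EquivLike.coe_coe, MulAut.conj_apply, inv_inv]
    have : x * (x⁻¹ * g * x) * x⁻¹ = g := by group
    rw [this]
    have : F (x⁻¹ * g * x) = F g := by simpa using hF g x⁻¹
    rw [this]
  set Af := Finset.univ.filter (fun a => a ∈ A) with hAf
  calc (Nat.card L : K) * ∑ g ∈ Finset.univ.filter (fun g => g ∈ support A H), F g
      = ∑ g : G, F g * ∑ x : G, ∑ a ∈ Af,
          (if a⁻¹ * (x * g * x⁻¹) ∈ H a then (Nat.card (H a) : K)⁻¹ else 0) := by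
        rw [Finset.sum_filter, Finset.mul_sum]
        refine Finset.sum_congr rfl fun g _ => ?_
        by_cases hg : g ∈ support A H
        · rw [if_pos hg, mul_comm]
          congr 1
          obtain ⟨a₀, ha₀, u₀, hu₀, x₀, e₀⟩ := hg
          have hcard := card_transporter hD ha₀ hu₀ e₀
          rw [Nat.card_eq_fintype_card, Fintype.card_subtype] at hcard
          have key : ∀ x : G, (∑ a ∈ Af,
              (if a⁻¹ * (x * g * x⁻¹) ∈ H a then (Nat.card (H a) : K)⁻¹ else 0)) =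
              if (∃ a ∈ A, ∃ u ∈ H a, x * g * x⁻¹ = a * u) then (Nat.card (H a₀) : K)⁻¹ else 0 := by
            intro x
            split_ifs with hx
            · obtain ⟨a, ha, u, hu, e⟩ := hx
              have hua : a⁻¹ * (x * g * x⁻¹) ∈ H a := by rw [e, inv_mul_cancel_left]; exact hu
              rw [Finset.sum_eq_single a]
              · rw [if_pos hua]
                have e2 : (x * x₀⁻¹) * (a₀ * u₀) * (x * x₀⁻¹)⁻¹ = a * u := by
                  rw [← e₀, ← e]; group
                have e3 := conj_eq hD ha₀ ha hu₀ hu e2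
                obtain ⟨l, hl, el⟩ := hD.fusion a₀ ha₀ (x * x₀⁻¹) (e3.symm ▸ ha)
                rw [← e3, ← el, card_H_conj hD ha₀ hl]
              · intro b hb hne
                rw [if_neg]
                intro hb'
                refine hne ?_
                simp only [hAf, Finset.mem_filter, Finset.mem_univ, true_and] at hb
                have e2 : (1 : G) * (b * (b⁻¹ * (x * g * x⁻¹))) * (1 : G)⁻¹ = a * u := by
                  rw [← e]; group
                have := conj_eq hD hb ha hb' hu e2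
                rw [one_mul, inv_one, mul_one] at this
                exact this
              · intro hna; exact absurd (by simp [hAf, ha]) hna
            · refine Finset.sum_eq_zero fun a ha => ?_
              rw [if_neg]
              intro h
              simp only [hAf, Finset.mem_filter, Finset.mem_univ, true_and] at ha
              exact hx ⟨a, ha, _, h, (mul_inv_cancel_left _ _).symm⟩
          simp only [key]
          rw [← Finset.sum_filter, Finset.sum_const, nsmul_eq_mul]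
          have : (Finset.univ.filter fun x => ∃ a ∈ A, ∃ u ∈ H a, x * g * x⁻¹ = a * u).card =
              Nat.card L * Nat.card (H a₀) := by convert hcard
          rw [this, Nat.cast_mul, mul_assoc, mul_inv_cancel₀ (by
            exact_mod_cast Nat.card_pos.ne'), mul_one]
        · rw [if_neg hg, mul_zero]
          symm
          refine mul_eq_zero_of_right _ (Finset.sum_eq_zero fun x _ => Finset.sum_eq_zero fun a ha => ?_)
          rw [if_neg]
          intro h
          simp only [hAf, Finset.mem_filter, Finset.mem_univ, true_and] at ha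
          exact hg ⟨a, ha, _, h, x, (mul_inv_cancel_left _ _).symm⟩
    _ = ∑ x : G, ∑ a ∈ Af, (Nat.card (H a) : K)⁻¹ *
          ∑ g : G, (if a⁻¹ * (x * g * x⁻¹) ∈ H a then F g else 0) := by
        simp only [Finset.mul_sum]
        rw [Finset.sum_comm]
        refine Finset.sum_congr rfl fun x _ => ?_
        rw [Finset.sum_comm]
        refine Finset.sum_congr rfl fun a _ => Finset.sum_congr rfl fun g _ => ?_
        split_ifs <;> ring
    _ = _ := by
        simp only [h1, ← h2]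
        rw [Finset.sum_const, Finset.card_univ, nsmul_eq_mul]

/-- The adjoint of the Dade map. -/
theorem classInner_dade [Fintype L] (hD : Cfsg.DadeHypothesis A L H) {α : L → ℂ}
    (hα : Cfsg.IsClassFunction L α) (hαA : ∀ x : L, (x : G) ∉ A → α x = 0)
    {χ : G → ℂ} (hχ : Cfsg.IsClassFunction G χ) {ψ : L → ℂ}
    (hψ : ∀ a : L, (a : G) ∈ A → ψ a = (Nat.card (H a) : ℂ)⁻¹ * ∑ᶠ u ∈ (H a : Set G), χ (a * u)) :
    Cfsg.classInner (Cfsg.dadeIsometry A L H α) χ = Cfsg.classInner α ψ := by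
  set τ := Cfsg.dadeIsometry A L H α with hτ
  have hcl : Cfsg.IsClassFunction G τ := dadeIsometry_isClassFunction hD hα
  have key := sum_support hD (fun g => τ g * conj (χ g)) (fun g y => by rw [hcl g y, hχ g y])
  have e1 : ∑ g ∈ Finset.univ.filter (fun g => g ∈ support A H), τ g * conj (χ g) =
      ∑ g : G, τ g * conj (χ g) := by
    refine Finset.sum_filter_of_ne fun g _ hne => ?_
    by_contra h
    exact hne (by rw [hτ, dadeIsometry_eq_zero h, zero_mul])
  rw [e1] at key
  have e2 : ∑ a ∈ Finset.univ.filter (fun a => a ∈ A), (Nat.card (H a) : ℂ)⁻¹ *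
        ∑ u ∈ Finset.univ.filter (fun u => u ∈ H a), τ (a * u) * conj (χ (a * u)) =
      ∑ x : L, α x * conj (ψ x) := by
    rw [← Finset.sum_filter_of_ne (p := fun x : L => (x : G) ∈ A) (s := Finset.univ)
      (f := fun x : L => α x * conj (ψ x)) (fun x _ hne => by
        by_contra h; exact hne (by rw [hαA x h, zero_mul]))]
    refine (Finset.sum_bij (fun (x : L) _ => (x : G)) ?_ ?_ ?_ ?_).symm
    · intro x hx; simpa using hx
    · intro x _ y _ h; exact Subtype.ext h
    · intro a ha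
      simp only [Finset.mem_filter, Finset.mem_univ, true_and] at ha
      exact ⟨⟨a, hD.subset ha⟩, by simpa using ha, rfl⟩
    · intro x hx
      simp only [Finset.mem_filter, Finset.mem_univ, true_and] at hx
      rw [hψ x hx, map_mul, map_inv₀, map_natCast,
        finsum_mem_eq_toFinset_sum (f := fun u => χ ((x : G) * u)), map_sum, ← mul_assoc,
        mul_comm (α x), mul_assoc]
      congr 1
      rw [Finset.mul_sum]
      refine Finset.sum_congr (by ext; simp) fun u hu => ?_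
      simp only [Finset.mem_filter, Finset.mem_univ, true_and] at hu
      rw [hτ, dadeIsometry_coset hD hα x hx hu]
  rw [e2] at key
  unfold Cfsg.classInner
  rw [Nat.card_eq_fintype_card (α := G)]
  have hL : (Nat.card L : ℂ) ≠ 0 := by exact_mod_cast Nat.card_pos.ne'
  have hG : (Fintype.card G : ℂ) ≠ 0 := by exact_mod_cast Fintype.card_ne_zero
  field_simp
  linear_combination key

theorem classInner_dade_dade [Fintype L] (hD : Cfsg.DadeHypothesis A L H) {α β : L → ℂ}
    (hα : Cfsg.IsClassFunction L α) (hαA : ∀ x : L, (x : G) ∉ A → α x = 0)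
    (hβ : Cfsg.IsClassFunction L β) :
    Cfsg.classInner (Cfsg.dadeIsometry A L H α) (Cfsg.dadeIsometry A L H β) =
      Cfsg.classInner α β := by
  refine classInner_dade hD hα hαA (dadeIsometry_isClassFunction hD hβ) fun a ha => ?_
  rw [finsum_mem_congr rfl (g := fun _ => β a) (fun u hu => dadeIsometry_coset hD hβ a ha hu),
    finsum_mem_eq_toFinset_sum, Finset.sum_const, nsmul_eq_mul, Set.toFinset_card,
    ← Nat.card_eq_fintype_card]
  simp only [SetLike.coe_sort_coe]
  rw [← mul_assoc, inv_mul_cancel₀ (by exact_mod_cast Nat.card_pos.ne'), one_mul]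

end Sum

end Cfsg.Agent.Lib.Isometry.Dade
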