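import Cfsg.Agent.Lib.Isometry.Inflate
import Cfsg.Agent.Lib.Isometry.Iterate
import Cfsg.Agent.Lib.Characters.Degree
import Cfsg.Agent.Lib.Characters.Indicator
import Cfsg.Agent.Lib.Frobenius.Nilpotent
import Cfsg.Agent.S1492
import Cfsg.Agent.S1528
import Cfsg.Agent.Lib.Isometry.TI
set_option autoImplicit false

/-! Characters of a Frobenius group layered along the lower central series of the kernel. -/

namespace Cfsg.Agent.Lib.Isometry.Layers

open scoped ComplexConjugate Classical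
open Cfsg.Agent.Lib.Isometry.Inner Cfsg.Agent.Lib.Isometry.Coherence Cfsg.Agent.Lib.Isometry.Inflate

universe u v
variable {L : Type u} [Group L] [Fintype L] (K : Subgroup L) [K.Normal]

/-- The degree of an irreducible character divided by the index of the kernel. -/
noncomputable def mdeg (χ : L → ℂ) : ℕ := ⌊(χ 1).re⌋₊ / K.index

variable {K} (hC : ∀ n ∈ K, n ≠ 1 → Subgroup.centralizer ({n} : Set L) ≤ K)

omit [K.Normal] in
theorem layer_subset {A B : Subgroup L} (hA : A ≤ K) : Inflate.layer A B ⊆ Inflate.layer K ⊥ := fun χ hχ => by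
  rw [mem_layer] at hχ ⊢
  obtain ⟨h, -, g, hg, hne⟩ := hχ
  exact ⟨h, fun x hx => by rw [Subgroup.mem_bot.1 hx], g, hA hg, hne⟩

omit [K.Normal] in
theorem isIrr {χ : L → ℂ} (hχ : χ ∈ Inflate.layer K ⊥) : Cfsg.IsIrrCharacter L χ := (mem_layer.1 hχ).1

include hC in
theorem exists_ind {χ : L → ℂ} (hχ : χ ∈ Inflate.layer K ⊥) :
    ∃ θ : K → ℂ, Cfsg.IsIrrCharacter K θ ∧ χ = Cfsg.indFun K θ := by
  obtain ⟨h, -, g, hg, hne⟩ := mem_layer.1 hχ
  exact Cfsg.Agent.S1528.result K hC χ h ⟨g, hg, hne⟩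

include hC in
theorem vanish {χ : L → ℂ} (hχ : χ ∈ Inflate.layer K ⊥) {x : L} (hx : x ∉ K) : χ x = 0 := by
  obtain ⟨θ, -, rfl⟩ := exists_ind hC hχ
  exact Induced.Basic.indFun_eq_zero_of_not_mem_normal K θ hx

include hC in
theorem mdeg_spec {χ : L → ℂ} (hχ : χ ∈ Inflate.layer K ⊥) :
    χ 1 = ((K.index * mdeg K χ : ℕ) : ℂ) ∧ 0 < mdeg K χ ∧ mdeg K χ ∣ Nat.card K := by
  obtain ⟨θ, hθ, rfl⟩ := exists_ind hC hχ
  obtain ⟨d, hd0, hdvd, hd⟩ := Characters.Degree.exists_degree_dvd ⟨θ, hθ⟩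
  have hd' : θ 1 = (d : ℂ) := hd
  have e : Cfsg.indFun K θ 1 = ((K.index * d : ℕ) : ℂ) := by
    rw [Induced.Basic.indFun_one, hd']; push_cast; ring
  have : mdeg K (Cfsg.indFun K θ) = d := by
    rw [mdeg, e, Complex.natCast_re, Nat.floor_natCast,
      Nat.mul_div_cancel_left _ (Nat.pos_of_ne_zero Subgroup.index_ne_zero_of_finite)]
  rw [this]
  exact ⟨e, hd0, hdvd⟩

include hC in
/-- Sum of squares over a Inflate.layer inside the kernel. -/
theorem sum_mdeg {A B : Subgroup L} [A.Normal] [B.Normal] (hBA : B ≤ A) (hA : A ≤ K) :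
    K.index * ∑ χ ∈ Inflate.layer A B, mdeg K χ ^ 2 + A.relIndex K = B.relIndex K := by
  have h := sum_sq_layer hBA (L := L)
  have e1 := Subgroup.relIndex_mul_index hA
  have e2 := Subgroup.relIndex_mul_index (hBA.trans hA)
  rw [Finset.sum_congr rfl fun χ hχ => by rw [(mdeg_spec hC (layer_subset hA hχ)).1],
    ← e1, ← e2, eq_sub_iff_add_eq] at h
  have h' : ∑ χ ∈ Inflate.layer A B, (K.index * mdeg K χ) * (K.index * mdeg K χ) + A.relIndex K * K.index =
      B.relIndex K * K.index := by exact_mod_cast h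
  refine Nat.eq_of_mul_eq_mul_right (Nat.pos_of_ne_zero (Subgroup.index_ne_zero_of_finite (H := K))) ?_
  rw [← h', add_mul, Finset.mul_sum, Finset.sum_mul]
  congr 1
  exact Finset.sum_congr rfl fun χ _ => by ring

include hC in
theorem relIndex_modEq (B : Subgroup L) [B.Normal] (hB : B ≤ K) : B.relIndex K ≡ 1 [MOD K.index] := by
  rw [← sum_mdeg hC hB le_rfl, Subgroup.relIndex_self]
  exact Nat.ModEq.symm ((Nat.modEq_iff_dvd' (Nat.le_add_left _ _)).2 (by simp))

include hC in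
theorem coprime_index : Nat.Coprime K.index (Nat.card K) := by
  have h := relIndex_modEq hC ⊥ bot_le
  rw [Subgroup.relIndex_bot_left] at h
  rw [Nat.Coprime, Nat.gcd_comm, h.gcd_eq, Nat.gcd_one_left]

include hC in
theorem mdeg_sq_le {A B : Subgroup L} [A.Normal] [B.Normal] (hBA : B ≤ A) (hA : A ≤ K)
    (hcomm : ⁅A, K⁆ ≤ B) {χ : L → ℂ} (hχ : χ ∈ Inflate.layer A B) : mdeg K χ ^ 2 ≤ A.relIndex K := by
  obtain ⟨h, hB, -⟩ := mem_layer.1 hχ
  have hb := Cfsg.Agent.S1492.result χ h B K A hBA hA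
    (fun c _ b hb => Subgroup.Normal.conj_mem inferInstance b hb c)
    (fun d hd c hc => by
      have := hcomm (Subgroup.commutator_mem_commutator hd hc)
      rwa [commutatorElement_def] at this) hB
  rw [(mdeg_spec hC (layer_subset hA hχ)).1, Complex.norm_natCast, ← K.card_mul_index] at hb
  have hb' : (K.index * mdeg K χ) ^ 2 * Nat.card K * Nat.card A ≤ (Nat.card K * K.index) ^ 2 := by
    exact_mod_cast hb
  have hK : Nat.card A * A.relIndex K = Nat.card K := by
    have := Subgroup.relIndex_mul_relIndex (⊥ : Subgroup L) A K bot_le hA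
    rwa [Subgroup.relIndex_bot_left, Subgroup.relIndex_bot_left] at this
  have hpos : 0 < K.index ^ 2 * Nat.card K * Nat.card A :=
    Nat.mul_pos (Nat.mul_pos (pow_pos (Nat.pos_of_ne_zero (Subgroup.index_ne_zero_of_finite (H := K))) 2)
      (Nat.card_pos (α := K))) (Nat.card_pos (α := A))
  refine Nat.le_of_mul_le_mul_left ?_ hpos
  calc K.index ^ 2 * Nat.card K * Nat.card A * mdeg K χ ^ 2
      = (K.index * mdeg K χ) ^ 2 * Nat.card K * Nat.card A := by ring
    _ ≤ (Nat.card K * K.index) ^ 2 := hb'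
    _ = K.index ^ 2 * Nat.card K * (Nat.card A * A.relIndex K) := by rw [hK]; ring
    _ = _ := by ring

/-! ### The lower central series of the kernel -/

theorem lcs_normal (m : ℕ) : (K.lowerCentralSeries m).Normal := by
  induction m with
  | zero => rw [Subgroup.lowerCentralSeries_zero]; infer_instance
  | succ m ih => rw [Subgroup.lowerCentralSeries_succ]; infer_instance

omit [K.Normal] in
theorem lcs_le (m : ℕ) [K.Normal] : K.lowerCentralSeries m ≤ K :=
  K.lowerCentralSeries_antitone (Nat.zero_le m)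

/-- A normal subgroup supplementing the derived subgroup of a nilpotent kernel is the kernel. -/
theorem le_of_sup_derived {n : ℕ} (hn : K.lowerCentralSeries n = ⊥) {N : Subgroup L} [N.Normal]
    (h : N ⊔ K.lowerCentralSeries 1 = N ⊔ K) : K ≤ N := by
  set f := QuotientGroup.mk' N
  have hN : N.map f = ⊥ := (Subgroup.map_eq_bot_iff N).2 (QuotientGroup.ker_mk' N).ge
  set M := K.map f with hM
  have h1 : M.lowerCentralSeries 1 = M := by
    rw [hM, ← Subgroup.map_lowerCentralSeries]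
    have := congrArg (Subgroup.map f) h
    rwa [Subgroup.map_sup, Subgroup.map_sup, hN, bot_sup_eq, bot_sup_eq] at this
  have hconst : ∀ m, M.lowerCentralSeries m = M := by
    intro m
    induction m with
    | zero => rfl
    | succ m ih =>
      rw [Subgroup.lowerCentralSeries_succ, ih]
      conv_rhs => rw [← h1]
      rfl
  have := hconst n
  rw [hM, ← Subgroup.map_lowerCentralSeries, hn, Subgroup.map_bot, eq_comm] at this
  simpa [f] using (Subgroup.map_eq_bot_iff K).1 this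

include hC in
theorem isNilpotent_kernel (htop : K ≠ ⊤) : Group.IsNilpotent K := by
  have hcop := coprime_index hC
  obtain ⟨r, hr, hre⟩ := Nat.exists_prime_and_dvd
    (fun h => htop (Subgroup.index_eq_one.1 h))
  have : Fact r.Prime := ⟨hr⟩
  obtain ⟨x, hx⟩ := exists_prime_orderOf_dvd_card' (G := L) r
    (hre.trans ⟨Nat.card K, (K.index_mul_card).symm⟩)
  have hxK : x ∉ K := fun h => hr.one_lt.ne'
    (Nat.eq_one_of_dvd_coprimes hcop hre (hx ▸ Subgroup.orderOf_dvd_natCard K h))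
  refine Frobenius.Nilpotent.isNilpotent_of_fixedPointFree hr
    (MulAut.conjNormal x : K ≃* K) ?_ ?_
  · intro n hn
    by_contra hne
    have h1 : x * (n : L) * x⁻¹ = n := by
      simpa [MulAut.conjNormal_apply] using congrArg Subtype.val hn
    exact hxK (hC n n.2 (fun e => hne (Subtype.ext e)) (TI.mem_centralizer_of_conj_eq h1))
  · intro n
    have h : ∀ j, ((⇑(MulAut.conjNormal x : K ≃* K))^[j] n : L) = x ^ j * n * (x ^ j)⁻¹ := by
      intro j
      induction j with
      | zero => simp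
      | succ j ih =>
        rw [Function.iterate_succ_apply', MulAut.conjNormal_apply, ih, pow_succ' x j]
        group
    apply Subtype.ext
    rw [h r, ← hx, pow_orderOf_eq_one]
    simp

omit [K.Normal] in
theorem two_mul_add_one_le {x e : ℕ} (hx : Odd x) (he : Odd e) (h1 : x ≠ 1) (hm : x ≡ 1 [MOD e]) :
    2 * e + 1 ≤ x := by
  obtain ⟨q, hq⟩ : e ∣ x - 1 := (Nat.modEq_iff_dvd' hx.pos).1 hm.symm
  obtain ⟨a, ha⟩ := hx
  obtain ⟨b, hb⟩ := he
  rcases Nat.lt_or_ge q 2 with hq2 | hq2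
  · interval_cases q <;> omega
  · have := Nat.mul_le_mul_left e hq2
    omega

include hC in
/-- If the kernel is not of prime power order its abelianisation is large. -/
theorem big_of_not_primePow (hodd : Odd (Nat.card L)) (hK : K ≠ ⊥) {n : ℕ}
    (hn : K.lowerCentralSeries n = ⊥)
    (hpp : ¬ ∃ p a : ℕ, p.Prime ∧ Nat.card K = p ^ a) :
    4 * K.index ^ 2 + 1 < (K.lowerCentralSeries 1).relIndex K := by
  have hnil : Group.IsNilpotent K := (Subgroup.isNilpotent_iff_lowerCentralSeries K).2 ⟨n, hn⟩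
  haveI := lcs_normal (K := K) 1
  set Z := K.lowerCentralSeries 1 with hZ
  have hZK : Z ≤ K := lcs_le 1
  have hoddK : Odd (Nat.card K) := hodd.of_dvd_nat (Subgroup.card_subgroup_dvd_card K)
  have hodde : Odd K.index := hodd.of_dvd_nat (Subgroup.index_dvd_card K)
  have hr : Z.relIndex K ≠ 1 := fun h => hK (by
    have h' : K ≤ Z := Subgroup.relIndex_eq_one.1 h
    exact le_bot_iff.1 (le_of_sup_derived hn (N := ⊥) (by
      rw [← hZ, bot_sup_eq, bot_sup_eq]; exact le_antisymm hZK h')))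
  obtain ⟨p, hp, hpr⟩ := Nat.exists_prime_and_dvd hr
  haveI : Fact p.Prime := ⟨hp⟩
  obtain ⟨P⟩ := (inferInstance : Nonempty (Sylow p K))
  haveI hPn : (P : Subgroup K).Normal :=
    ((Group.isNilpotent_of_finite_tfae (G := K)).out 0 3 rfl rfl).mp hnil p ⟨hp⟩ P
  haveI : (P : Subgroup K).Characteristic := Sylow.characteristic_of_normal P hPn
  set P' := (P : Subgroup K).map K.subtype with hP'
  haveI : P'.Normal := inferInstance
  have hP'K : P' ≤ K := Subgroup.map_subtype_le _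
  set N := P' ⊔ Z with hN
  have hNK : N ≤ K := sup_le hP'K hZK
  have hP'rel : P'.relIndex K = (P : Subgroup K).index := by
    show (P'.subgroupOf K).index = _
    rw [Subgroup.subgroupOf, hP', Subgroup.comap_map_eq_self_of_injective K.subtype_injective]
  have hn'p : ¬ p ∣ N.relIndex K := fun h => P.not_dvd_index
    (hP'rel ▸ h.trans (Subgroup.relIndex_dvd_of_le_left K le_sup_left))
  have hn'1 : N.relIndex K ≠ 1 := by
    intro h
    have h' : N = K := le_antisymm hNK (Subgroup.relIndex_eq_one.1 h)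
    have hKP : K ≤ P' := le_of_sup_derived hn (by rw [← hZ, ← hN, h', sup_eq_right.2 hP'K])
    obtain ⟨a, ha⟩ := IsPGroup.iff_card.1 P.isPGroup'
    exact hpp ⟨p, a, hp, by
      rw [← ha]
      refine (congrArg (fun X : Subgroup L => Nat.card X) (le_antisymm hKP hP'K)).trans ?_
      exact Nat.card_congr ((P : Subgroup K).equivMapOfInjective _ K.subtype_injective).symm.toEquiv⟩
  have hmul : Z.relIndex N * N.relIndex K = Z.relIndex K :=
    Subgroup.relIndex_mul_relIndex Z N K le_sup_right hNK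
  have hdvdK : Z.relIndex K ∣ Nat.card K := Subgroup.index_dvd_card _
  have hnp1 : Z.relIndex N ≠ 1 := fun h => hn'p (by rw [h, one_mul] at hmul; rw [hmul]; exact hpr)
  have m1 := relIndex_modEq hC N hNK
  have m2 : Z.relIndex N ≡ 1 [MOD K.index] := by
    have h3 := relIndex_modEq hC Z hZK
    rw [← hmul] at h3
    exact ((m1.mul_left (Z.relIndex N)).symm.trans h3).trans rfl |> fun h => by simpa using h
  have o : Odd (Z.relIndex N * N.relIndex K) := hmul ▸ hoddK.of_dvd_nat hdvdK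
  have l1 := two_mul_add_one_le (Nat.odd_mul.1 o).1 hodde hnp1 m2
  have l2 := two_mul_add_one_le (Nat.odd_mul.1 o).2 hodde hn'1 m1
  rw [← hmul]
  have := Nat.mul_le_mul l1 l2
  have : 0 < K.index := hodde.pos
  nlinarith

/-! ### Coherence of the layers -/

section Coh
variable {G : Type v} [Group G] [Fintype G] {τ : (L → ℂ) → (G → ℂ)} {R : (L → ℂ) → Finset (G → ℂ)}

theorem layer_system (hS : Cfsg.IsCoherenceSystem (↑(Inflate.layer K ⊥) : Set (L → ℂ)) τ R)
    {A B : Subgroup L} [A.Normal] [B.Normal] (hA : A ≤ K) (hBA : B < A) :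
    Cfsg.IsCoherenceSystem (↑(Inflate.layer A B) : Set (L → ℂ)) τ R :=
  Iterate.sys_mono hS (Finset.coe_subset.2 (layer_subset hA)) (layer_nonempty hBA)
    fun _ h => conj_mem_layer h

omit [K.Normal] in
theorem layer_norm {A B : Subgroup L} {χ : L → ℂ} (h : χ ∈ Inflate.layer A B) :
    Cfsg.classInner χ χ = 1 := by
  rw [classInner_irr_eq (mem_layer.1 h).1 (mem_layer.1 h).1, if_pos rfl]

include hC in
theorem mdeg_eq_pow {p a : ℕ} (hp : p.Prime) (hcard : Nat.card K = p ^ a) {χ : L → ℂ}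
    (hχ : χ ∈ Inflate.layer K ⊥) : ∃ t, mdeg K χ = p ^ t := by
  obtain ⟨t, -, ht⟩ := (Nat.dvd_prime_pow hp).1 (hcard ▸ (mdeg_spec hC hχ).2.2)
  exact ⟨t, ht⟩

include hC in
theorem coherent_layer_pGroup (hS : Cfsg.IsCoherenceSystem (↑(Inflate.layer K ⊥) : Set (L → ℂ)) τ R)
    {p a : ℕ} (hp : p.Prime) (hp2 : p ≠ 2) (hcard : Nat.card K = p ^ a) {A B : Subgroup L}
    [A.Normal] [B.Normal] (hA : A ≤ K) (hBA : B < A) (hcomm : ⁅A, K⁆ ≤ B) :
    Cfsg.IsCoherent (↑(Inflate.layer A B) : Set (L → ℂ)) {1}ᶜ τ := by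
  have hk : ∀ χ, ∃ t, χ ∈ Inflate.layer A B → mdeg K χ = p ^ t := fun χ => by
    by_cases h : χ ∈ Inflate.layer A B
    · obtain ⟨t, ht⟩ := mdeg_eq_pow hC hp hcard (layer_subset hA h); exact ⟨t, fun _ => ht⟩
    · exact ⟨0, fun h' => absurd h' h⟩
  choose k hk using hk
  refine Iterate.coherent_pPower (Inflate.layer A B) (layer_system hS hA hBA)
    (fun φ h => layer_norm h) K.index p (Nat.pos_of_ne_zero Subgroup.index_ne_zero_of_finite)
    (by have := hp.two_le; omega) k
    (fun φ h => by rw [← hk φ h]; exact (mdeg_spec hC (layer_subset hA h)).1) ?_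
  intro φ hφ
  have hle := mdeg_sq_le hC hBA.le hA hcomm hφ
  rw [hk φ hφ, ← pow_mul, mul_comm] at hle
  obtain ⟨s, -, hs⟩ := (Nat.dvd_prime_pow hp).1
    (hcard ▸ Subgroup.index_dvd_card (A.subgroupOf K) : A.relIndex K ∣ p ^ a)
  have hA' : p ^ (2 * k φ) ∣ A.relIndex K := by
    rw [hs] at hle ⊢
    exact Nat.pow_dvd_pow p ((Nat.pow_le_pow_iff_right hp.one_lt).1 hle)
  have hB' : p ^ (2 * k φ) ∣ B.relIndex K :=
    hA'.trans (Subgroup.relIndex_dvd_of_le_left K hBA.le)
  have hsum := sum_mdeg hC hBA.le hA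
  rw [← hsum] at hB'
  have := (Nat.dvd_add_iff_left hA').2 hB'
  have hc : Nat.Coprime (p ^ (2 * k φ)) K.index :=
    (coprime_index hC).symm.coprime_dvd_left (hA'.trans (Subgroup.index_dvd_card _))
  have h2 := hc.dvd_of_dvd_mul_left this
  rwa [Finset.sum_congr rfl fun χ hχ => by rw [hk χ hχ, ← pow_mul, mul_comm (k χ) 2]] at h2

include hC in
theorem coherent_big (hS : Cfsg.IsCoherenceSystem (↑(Inflate.layer K ⊥) : Set (L → ℂ)) τ R) {n : ℕ}
    (hn : K.lowerCentralSeries n = ⊥) (hn0 : 0 < n) (hK1 : K.lowerCentralSeries 1 < K)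
    (hbig : 4 * K.index ^ 2 + 1 < (K.lowerCentralSeries 1).relIndex K) :
    Cfsg.IsCoherent (↑(Inflate.layer K ⊥) : Set (L → ℂ)) {1}ᶜ τ := by
  haveI := fun m => lcs_normal (K := K) m
  set Z := K.lowerCentralSeries with hZ
  suffices h : ∀ m, Cfsg.IsCoherent (↑(Inflate.layer K (Z (m + 1))) : Set (L → ℂ)) {1}ᶜ τ by
    obtain ⟨n', rfl⟩ := Nat.exists_eq_succ_of_ne_zero hn0.ne'
    have := h n'
    rwa [show Z (n' + 1) = ⊥ from hn] at this
  have hdeg : ∀ χ ∈ Inflate.layer K (Z 1), mdeg K χ = 1 := by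
    intro χ hχ
    have h1 := mdeg_sq_le hC hK1.le le_rfl (le_of_eq rfl) hχ
    rw [Subgroup.relIndex_self] at h1
    have := (mdeg_spec hC (layer_subset le_rfl hχ)).2.1
    nlinarith
  intro m
  induction m with
  | zero =>
    refine EqualDegree.coherent_of_equal_degree (R := R) (layer_system hS le_rfl hK1) ?_
    intro φ hφ ψ hψ
    rw [(mdeg_spec hC (layer_subset le_rfl hφ)).1, (mdeg_spec hC (layer_subset le_rfl hψ)).1,
      hdeg φ hφ, hdeg ψ hψ]
  | succ m ih =>
    have hle : Z (m + 1 + 1) ≤ Z (m + 1) := K.lowerCentralSeries_antitone (Nat.le_succ _)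
    have hmono : ∀ i j, i ≤ j → Inflate.layer K (Z i) ⊆ Inflate.layer K (Z j) := by
      intro i j hij χ hχ
      obtain ⟨h1, h2, h3⟩ := mem_layer.1 hχ
      exact mem_layer.2 ⟨h1, fun g hg => h2 g (K.lowerCentralSeries_antitone hij hg), h3⟩
    have hsub : Inflate.layer K (Z (m + 1)) ⊆ Inflate.layer K (Z (m + 1 + 1)) := hmono _ _ (Nat.le_succ _)
    have hsub1 : Inflate.layer K (Z 1) ⊆ Inflate.layer K (Z (m + 1)) := hmono _ _ (by omega)
    obtain ⟨χ₁, hχ₁⟩ := layer_nonempty hK1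
    have h := Iterate.extend_many hS (fun χ => K.index * mdeg K χ)
      (fun φ h => (mdeg_spec hC h).1) (fun φ h => layer_norm h) (Inflate.layer K (Z (m + 1)))
      (Finset.coe_subset.2 (layer_subset le_rfl)) (fun φ h => conj_mem_layer h) ih (hsub1 hχ₁)
      (Inflate.layer K (Z (m + 1 + 1))) (Finset.coe_subset.2 (layer_subset le_rfl))
      (fun φ h => conj_mem_layer h) ?_
    · rwa [Finset.union_eq_right.2 hsub] at h
    intro φ hφ hφ'
    have hlay : φ ∈ Inflate.layer (Z (m + 1)) (Z (m + 1 + 1)) := by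
      simp only [Inflate.layer, Finset.mem_sdiff] at hφ hφ' ⊢
      exact ⟨hφ.1, fun hh => hφ' ⟨hh, hφ.2⟩⟩
    simp only [hdeg χ₁ hχ₁, mul_one]
    refine ⟨dvd_mul_right _ _, ?_⟩
    have ht := mdeg_sq_le hC hle (lcs_le _) (le_of_eq rfl) hlay
    have hN : 4 * K.index ^ 2 + 1 < (Z (m + 1)).relIndex K :=
      hbig.trans_le (Nat.le_of_dvd (Nat.pos_of_ne_zero (Subgroup.index_ne_zero_of_finite (H := (Z (m + 1)).subgroupOf K)))
        (Subgroup.relIndex_dvd_of_le_left K (K.lowerCentralSeries_antitone (by omega))))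
    have hsum := sum_mdeg hC (lcs_le (m + 1)) le_rfl
    rw [Subgroup.relIndex_self] at hsum
    have he : 0 < K.index := Nat.pos_of_ne_zero Subgroup.index_ne_zero_of_finite
    have hlt : 2 * mdeg K φ < ∑ χ ∈ Inflate.layer K (Z (m + 1)), mdeg K χ ^ 2 := by
      by_contra hcon
      rw [not_lt] at hcon
      have h4 := Nat.mul_le_mul_left K.index hcon
      have h5 := Nat.mul_le_mul h4 h4
      nlinarith
    calc 2 * (K.index * mdeg K φ) * K.index = K.index ^ 2 * (2 * mdeg K φ) := by ring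
      _ < K.index ^ 2 * ∑ χ ∈ Inflate.layer K (Z (m + 1)), mdeg K χ ^ 2 := by
          exact Nat.mul_lt_mul_of_pos_left hlt (pow_pos he 2)
      _ = _ := by
          rw [Finset.mul_sum]; exact Finset.sum_congr rfl fun χ _ => (mul_pow _ _ 2).symm

include hC in
/-- The chain of coherent layers used for value computations. -/
theorem exists_chain (hodd : Odd (Nat.card L)) (hK : K ≠ ⊥) (htop : K ≠ ⊤)
    (hS : Cfsg.IsCoherenceSystem (↑(Inflate.layer K ⊥) : Set (L → ℂ)) τ R) :
    ∃ (n M : ℕ) (Z : ℕ → Subgroup L), 0 < n ∧ Z 0 = K ∧ Z n = ⊥ ∧ Antitone Z ∧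
      (∀ m, (Z m).Normal) ∧ (∀ m < n, Z (m + 1) < Z m) ∧
      (∀ m < n, Cfsg.IsCoherent (↑(Inflate.layer (Z m) (Z (m + 1))) : Set (L → ℂ)) {1}ᶜ τ) ∧
      (∃ ζ ∈ Inflate.layer K (Z 1), ζ 1 = (K.index : ℂ)) ∧
      (∀ k, 0 < k → k < n → ∀ m ≤ k, ∀ ξ ∈ Inflate.layer (Z m) (Z (m + 1)),
        K.index * mdeg K ξ * M ∣ (Z k).index) ∧
      (Z 1 = ⊥ ∨ ∃ p a : ℕ, p.Prime ∧ p ≠ 2 ∧ (Z 1).relIndex K = p ^ a ∧
        M = p ^ ((a + 1) / 2)) := by
  obtain ⟨N, hN⟩ := (Subgroup.isNilpotent_iff_lowerCentralSeries K).1 (isNilpotent_kernel hC htop)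
  haveI := fun m => lcs_normal (K := K) m
  set W := K.lowerCentralSeries with hW
  have hex : ∃ m, W m = ⊥ := ⟨N, hN⟩
  set n := Nat.find hex with hn_def
  have hn : W n = ⊥ := Nat.find_spec hex
  have hn0 : 0 < n := Nat.pos_of_ne_zero fun h => hK (by rw [h] at hn; exact hn)
  have hstrict : ∀ m < n, W (m + 1) < W m := by
    intro m hm
    refine lt_of_le_of_ne (K.lowerCentralSeries_antitone (Nat.le_succ m)) fun he => ?_
    have hconst : ∀ j, W (m + j) = W m := by
      intro j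
      induction j with
      | zero => rfl
      | succ j ih =>
        rw [← Nat.add_assoc]
        show ⁅W (m + j), K⁆ = W m
        rw [ih]; exact he
    have := hconst (n - m)
    rw [Nat.add_sub_cancel' hm.le, hn] at this
    exact Nat.find_min hex hm this.symm
  have hW0 : W 0 = K := rfl
  have hK1 : W 1 < K := hstrict 0 hn0
  obtain ⟨ζ, hζ⟩ := layer_nonempty hK1
  have hζ1 : mdeg K ζ = 1 := by
    have h1 := mdeg_sq_le hC hK1.le le_rfl (le_of_eq rfl) hζ
    rw [Subgroup.relIndex_self] at h1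
    have := (mdeg_spec hC (layer_subset le_rfl hζ)).2.1
    nlinarith
  have hζe : ζ 1 = (K.index : ℂ) := by
    rw [(mdeg_spec hC (layer_subset le_rfl hζ)).1, hζ1, mul_one]
  by_cases hpp : ∃ p a : ℕ, p.Prime ∧ Nat.card K = p ^ a
  · obtain ⟨p, b, hp, hcard⟩ := hpp
    have hp2 : p ≠ 2 := by
      rintro rfl
      have h1 : Odd (Nat.card K) := hodd.of_dvd_nat (Subgroup.card_subgroup_dvd_card K)
      rcases Nat.eq_zero_or_pos b with rfl | hb
      · exact hK (Subgroup.card_eq_one.1 (by simpa using hcard))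
      · rw [hcard] at h1
        exact (Nat.not_even_iff_odd.2 h1) (Nat.even_pow.2 ⟨even_two, hb.ne'⟩)
    have hpow : ∀ m, ∃ s, (W m).relIndex K = p ^ s := fun m => by
      obtain ⟨s, -, hs⟩ := (Nat.dvd_prime_pow hp).1
        (hcard ▸ Subgroup.index_dvd_card ((W m).subgroupOf K) : (W m).relIndex K ∣ p ^ b)
      exact ⟨s, hs⟩
    choose s hs using hpow
    refine ⟨n, p ^ ((s 1 + 1) / 2), W, hn0, hW0, hn, K.lowerCentralSeries_antitone, inferInstance,
      hstrict, fun m hm => coherent_layer_pGroup hC hS hp hp2 hcard (lcs_le m) (hstrict m hm) le_rfl,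
      ⟨ζ, hζ, hζe⟩, ?_, Or.inr ⟨p, s 1, hp, hp2, hs 1, rfl⟩⟩
    intro k hk _ m hm ξ hξ
    have hmono : ∀ i j, i ≤ j → s i ≤ s j := fun i j hij => by
      have h := Subgroup.relIndex_dvd_of_le_left K (K.lowerCentralSeries_antitone hij)
      rw [hs, hs] at h
      exact (Nat.pow_dvd_pow_iff_le_right hp.one_lt).1 h
    obtain ⟨t, ht⟩ := mdeg_eq_pow hC hp hcard (layer_subset (lcs_le m) hξ)
    have h2t := mdeg_sq_le hC (K.lowerCentralSeries_antitone (Nat.le_succ m)) (lcs_le m) le_rfl hξ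
    rw [ht, hs, ← pow_mul, Nat.pow_le_pow_iff_right hp.one_lt] at h2t
    rw [← Subgroup.relIndex_mul_index (lcs_le k), hs, ht, mul_comm (p ^ s k), mul_assoc, ← pow_add]
    refine Nat.mul_dvd_mul_left _ (Nat.pow_dvd_pow p ?_)
    have := hmono m k hm
    have := hmono 1 k hk
    omega
  · refine ⟨1, 1, fun m => if m = 0 then K else ⊥, one_pos, rfl, rfl, ?_, ?_, ?_, ?_, ?_, ?_,
      Or.inl rfl⟩
    · intro i j hij
      dsimp only
      split_ifs with h1 h2 <;> first | exact le_rfl | exact bot_le | omega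
    · intro m; dsimp only; split_ifs <;> infer_instance
    · intro m hm
      obtain rfl : m = 0 := by omega
      simpa using bot_lt_iff_ne_bot.2 hK
    · intro m hm
      obtain rfl : m = 0 := by omega
      simpa using coherent_big hC hS hn hn0 hK1 (big_of_not_primePow hC hodd hK hn hpp)
    · refine ⟨ζ, ?_, hζe⟩
      simpa using layer_subset le_rfl hζ
    · intro k hk hk'; omega

end Coh

end Cfsg.Agent.Lib.Isometry.Layers
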