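import Cfsg.Agent.Lib.Isometry.InducedNilpotent
import Cfsg.Agent.Lib.Isometry.Layers
import Cfsg.Agent.Lib.Isometry.EqualDegree
set_option autoImplicit false

/-! Coherence of the characters of a kernel outside a small chief factor. -/

namespace Cfsg.Agent.Lib.Isometry.KernelCoherence

open scoped ComplexConjugate Classical commutatorElement
open Cfsg.Agent.Lib.Isometry

universe u v

section Nilpotent
variable {Q : Type u} [Group Q] [Finite Q] (hnil : Group.IsNilpotent Q)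

include hnil in
/-- A subgroup supplementing the derived subgroup of a nilpotent group is everything. -/
theorem eq_top_of_sup_commutator {S : Subgroup Q} (h : S ⊔ commutator Q = ⊤) : S = ⊤ := by
  by_contra hS
  obtain ⟨M, hM, hSM⟩ := (eq_top_or_exists_le_coatom S).resolve_left hS
  haveI := hnil
  haveI : M.Normal := Subgroup.NormalizerCondition.normal_of_coatom M
    (Group.normalizerCondition_of_isNilpotent (G := Q)) hM
  haveI := Fintype.ofFinite Q
  obtain ⟨n, hn⟩ := Subgroup.nilpotent_iff_lowerCentralSeries.1 hnil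
  refine hM.1 (top_le_iff.1 (Layers.le_of_sup_derived (K := (⊤ : Subgroup Q)) (n := n) hn (N := M) ?_))
  rw [sup_top_eq, Subgroup.lowerCentralSeries_succ, Subgroup.lowerCentralSeries_zero,
    ← commutator_def]
  exact top_le_iff.1 (h ▸ sup_le_sup_right hSM _)

include hnil in
theorem isPGroup_of_commutator {p a : ℕ} (hp : p.Prime) (h : (commutator Q).index ∣ p ^ a) :
    IsPGroup p Q := by
  haveI : Fact p.Prime := ⟨hp⟩
  obtain ⟨P⟩ := (inferInstance : Nonempty (Sylow p Q))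
  have htop : (P : Subgroup Q) ⊔ commutator Q = ⊤ := Subgroup.index_eq_one.1
    (Nat.eq_one_of_dvd_coprimes (((hp.coprime_iff_not_dvd.2 P.not_dvd_index).pow_left a))
      ((Subgroup.index_dvd_of_le le_sup_right).trans h) (Subgroup.index_dvd_of_le le_sup_left))
  intro x
  obtain ⟨k, hk⟩ := P.isPGroup' ⟨x, (eq_top_of_sup_commutator hnil htop).ge (Subgroup.mem_top x)⟩
  exact ⟨k, congrArg Subtype.val hk⟩

include hnil in
theorem comm_of_commutator_prime (h : (commutator Q).index.Prime ∨ (commutator Q).index = 1) :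
    commutator Q = ⊥ := by
  obtain ⟨x, hx⟩ : ∃ x : Q, Subgroup.zpowers x ⊔ commutator Q = ⊤ := by
    rcases h with h | h
    · obtain ⟨x, hx⟩ : ∃ x : Q, x ∉ commutator Q := by
        by_contra hall
        push Not at hall
        rw [(Subgroup.eq_top_iff' _).2 hall, Subgroup.index_top] at h
        exact Nat.not_prime_one h
      refine ⟨x, Subgroup.index_eq_one.1 ((h.eq_one_or_self_of_dvd _
        (Subgroup.index_dvd_of_le le_sup_right)).resolve_right fun he => hx ?_)⟩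
      have : commutator Q = Subgroup.zpowers x ⊔ commutator Q := by
        refine le_antisymm le_sup_right (Subgroup.relIndex_eq_one.1 ?_)
        have h2 := Subgroup.relIndex_mul_index (le_sup_right : commutator Q ≤ Subgroup.zpowers x ⊔ commutator Q)
        rw [he] at h2
        exact (Nat.mul_eq_right h.ne_zero).1 h2
      rw [this]
      exact le_sup_left (a := Subgroup.zpowers x) (Subgroup.mem_zpowers x)
    · exact ⟨1, by rw [Subgroup.index_eq_one.1 h, sup_top_eq]⟩
  have htop := eq_top_of_sup_commutator hnil hx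
  rw [commutator_def, Subgroup.commutator_eq_bot_iff_le_centralizer]
  intro a _
  rw [Subgroup.mem_centralizer_iff]
  intro b _
  obtain ⟨i, rfl⟩ := Subgroup.mem_zpowers_iff.1 (htop.ge (Subgroup.mem_top a))
  obtain ⟨j, rfl⟩ := Subgroup.mem_zpowers_iff.1 (htop.ge (Subgroup.mem_top b))
  exact ((Commute.refl x).zpow_zpow j i).eq

end Nilpotent

variable {L : Type u} [Group L] [Fintype L] {K : Subgroup L} [K.Normal]

/-- Index congruence in a Frobenius quotient. -/
theorem relIndex_modEq_quotient (hKL : K < ⊤) {H₁ N : Subgroup L} [H₁.Normal] [N.Normal]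
    (hH₁N : H₁ ≤ N) (hNK : N ≤ K)
    (hfrob : ∀ k ∈ K, k ∉ H₁ → ∀ x : L, x * k * x⁻¹ * k⁻¹ ∈ H₁ → x ∈ K) :
    H₁.relIndex N ≡ 1 [MOD K.index] ∧ N.relIndex K ≡ 1 [MOD K.index] := by
  have := hKL
  set f := QuotientGroup.mk' H₁
  have hf := QuotientGroup.mk'_surjective H₁
  haveI : (K.map f).Normal := Subgroup.Normal.map inferInstance f hf
  haveI : (N.map f).Normal := Subgroup.Normal.map inferInstance f hf
  haveI := Fintype.ofFinite (L ⧸ H₁)
  have hker : f.ker = H₁ := QuotientGroup.ker_mk' H₁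
  have hC : ∀ n ∈ K.map f, n ≠ 1 → Subgroup.centralizer ({n} : Set (L ⧸ H₁)) ≤ K.map f := by
    rintro _ ⟨k, hk, rfl⟩ hne c hc
    obtain ⟨x, rfl⟩ := hf c
    refine Subgroup.mem_map_of_mem f (hfrob k hk (fun h => hne ((QuotientGroup.eq_one_iff k).2 h)) x ?_)
    rw [← hker, MonoidHom.mem_ker, map_mul, map_mul, map_mul, map_inv, map_inv,
      Subgroup.mem_centralizer_singleton_iff.1 hc]
    show f k * f x * (f x)⁻¹ * (f k)⁻¹ = 1
    group
  have hidx : (K.map f).index = K.index :=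
    Subgroup.index_map_eq K hf (hker.le.trans (hH₁N.trans hNK))
  have h1 := Layers.relIndex_modEq hC (N.map f) (Subgroup.map_mono hNK)
  have h2 := Layers.relIndex_modEq hC (⊥ : Subgroup (L ⧸ H₁)) bot_le
  rw [hidx] at h1 h2
  have hN : (N.map f).relIndex (K.map f) = N.relIndex K := by
    rw [Subgroup.relIndex_map_map, hker, sup_eq_left.2 hH₁N, sup_eq_left.2 (hH₁N.trans hNK)]
  have hbot : (⊥ : Subgroup (L ⧸ H₁)).relIndex (K.map f) = H₁.relIndex N * N.relIndex K := by
    rw [← Subgroup.map_bot f, Subgroup.relIndex_map_map, hker, bot_sup_eq,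
      sup_eq_left.2 (hH₁N.trans hNK), Subgroup.relIndex_mul_relIndex _ _ _ hH₁N hNK]
  rw [hN] at h1
  rw [hbot] at h2
  refine ⟨?_, h1⟩
  have h3 := h1.mul_left (H₁.relIndex N)
  rw [mul_one] at h3
  exact h3.symm.trans h2

variable {G : Type v} [Group G] [Fintype G]

/-- The induced linear characters are coherent. -/
theorem coherent_base (hsolv : Group.IsSolvable K) {τ : (L → ℂ) → (G → ℂ)}
    {R : (L → ℂ) → Finset (G → ℂ)} (hS : Cfsg.IsCoherenceSystem (Cfsg.inducedIrrAbove K ⊥) τ R)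
    (H₁ : Subgroup L) [H₁.Normal] (hH₁K : H₁ < K) (hder : ⁅K, K⁆ ≤ H₁) :
    Cfsg.IsCoherent (Cfsg.inducedIrrAbove K H₁) {1}ᶜ τ := by
  rw [← InducedSystem.coe_above]
  obtain ⟨θ₀, hθ₀, -⟩ := InducedSystem.exists_linear K hsolv H₁ hH₁K
  refine EqualDegree.coherent_of_equal_degree (R := R) (Iterate.sys_mono hS ?_
    ⟨_, Finset.mem_coe.2 (Finset.mem_image_of_mem (Cfsg.indFun K) hθ₀)⟩
    fun φ h => InducedSystem.conj_mem K h) fun φ hφ ψ hψ => ?_
  · rw [← InducedSystem.coe_above K ⊥]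
    exact Finset.coe_subset.2 (InducedSystem.above_anti K bot_le)
  have hdeg : ∀ φ ∈ InducedSystem.above K H₁, φ 1 = (K.index : ℂ) := by
    intro φ hφ
    obtain ⟨θ, hθ, rfl⟩ := Finset.mem_image.1 hφ
    obtain ⟨m, hm0, hm, hm'⟩ := InducedSystem.indFun_one K hθ
    obtain ⟨hi, -, htriv⟩ := (InducedSystem.mem_theta K).1 hθ
    have hb := Cfsg.Agent.S1492.result θ hi (H₁.subgroupOf K) ⊤ ⊤ le_top le_rfl
      (fun c _ b hb => Subgroup.Normal.conj_mem inferInstance b hb c)
      (fun d _ c _ => by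
        rw [Subgroup.mem_subgroupOf]
        push_cast
        exact hder (Subgroup.commutator_mem_commutator d.2 c.2))
      fun b hb => htriv b hb
    rw [hm, Complex.norm_natCast, Subgroup.card_top] at hb
    have hb' : m ^ 2 * Nat.card K * Nat.card K ≤ Nat.card K ^ 2 := by exact_mod_cast hb
    have hm1 : m ^ 2 ≤ 1 := by
      refine Nat.le_of_mul_le_mul_right ?_ (Nat.mul_pos (Nat.card_pos (α := K)) (Nat.card_pos (α := K)))
      rw [one_mul, ← mul_assoc]
      exact hb'.trans_eq (sq _)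
    rw [hm', show m = 1 by nlinarith, mul_one]
  rw [hdeg φ hφ, hdeg ψ hψ]

/-- An intermediate normal subgroup makes the section large. -/
theorem big_of_between (hodd : Odd (Nat.card L)) (hKL : K < ⊤) {H₁ N : Subgroup L} [H₁.Normal]
    [N.Normal] (h1 : H₁ < N) (h2 : N < K)
    (hfrob : ∀ k ∈ K, k ∉ H₁ → ∀ x : L, x * k * x⁻¹ * k⁻¹ ∈ H₁ → x ∈ K) :
    4 * K.index ^ 2 + 1 < H₁.relIndex K := by
  obtain ⟨m1, m2⟩ := relIndex_modEq_quotient hKL h1.le h2.le hfrob
  have hmul : H₁.relIndex N * N.relIndex K = H₁.relIndex K :=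
    Subgroup.relIndex_mul_relIndex _ _ _ h1.le h2.le
  have o : Odd (H₁.relIndex N * N.relIndex K) := hmul ▸
    (hodd.of_dvd_nat (Subgroup.card_subgroup_dvd_card K)).of_dvd_nat (Subgroup.index_dvd_card _)
  have hodde : Odd K.index := hodd.of_dvd_nat (Subgroup.index_dvd_card K)
  have n1 : H₁.relIndex N ≠ 1 := fun h => h1.not_ge (Subgroup.relIndex_eq_one.1 h)
  have n2 : N.relIndex K ≠ 1 := fun h => h2.not_ge (Subgroup.relIndex_eq_one.1 h)
  have l1 := Layers.two_mul_add_one_le (Nat.odd_mul.1 o).1 hodde n1 m1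
  have l2 := Layers.two_mul_add_one_le (Nat.odd_mul.1 o).2 hodde n2 m2
  rw [← hmul]
  have := Nat.mul_le_mul l1 l2
  have := hodde.pos
  nlinarith

/-- Without an intermediate normal subgroup the section has prime power order. -/
theorem relIndex_primePow {H₁ : Subgroup L} [H₁.Normal] (hH₁K : H₁ < K) (hder : ⁅K, K⁆ ≤ H₁)
    (hno : ¬ ∃ N : Subgroup L, N.Normal ∧ H₁ < N ∧ N < K) :
    ∃ p a : ℕ, p.Prime ∧ H₁.relIndex K = p ^ a ∧ 0 < a := by
  have hr : H₁.relIndex K ≠ 1 := fun h => hH₁K.not_ge (Subgroup.relIndex_eq_one.1 h)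
  obtain ⟨p, hp, hpd⟩ := Nat.exists_prime_and_dvd hr
  haveI : Fact p.Prime := ⟨hp⟩
  set f := QuotientGroup.mk' H₁
  set a := (H₁.relIndex K).factorization p with ha
  have hcomm : ∀ x ∈ K, ∀ y ∈ K, Commute (f x) (f y) := fun x hx y hy => by
    show f x * f y = f y * f x
    rw [← commutatorElement_eq_one_iff_mul_comm, ← map_commutatorElement]
    exact (QuotientGroup.eq_one_iff _).2 (hder (Subgroup.commutator_mem_commutator hx hy))
  let N : Subgroup L :=
    { carrier := {x | x ∈ K ∧ x ^ p ^ a ∈ H₁}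
      one_mem' := ⟨one_mem _, by rw [one_pow]; exact one_mem _⟩
      mul_mem' := fun {x y} hx hy => ⟨mul_mem hx.1 hy.1, (QuotientGroup.eq_one_iff _).1 (by
        show f ((x * y) ^ p ^ a) = 1
        rw [map_pow, map_mul, (hcomm x hx.1 y hy.1).mul_pow, ← map_pow, ← map_pow,
          show f (x ^ p ^ a) = 1 from (QuotientGroup.eq_one_iff _).2 hx.2,
          show f (y ^ p ^ a) = 1 from (QuotientGroup.eq_one_iff _).2 hy.2, one_mul])⟩
      inv_mem' := fun {x} hx => ⟨inv_mem hx.1, by rw [inv_pow]; exact inv_mem hx.2⟩ }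
  haveI hN : N.Normal := ⟨fun x hx g => ⟨Subgroup.Normal.conj_mem inferInstance x hx.1 g, by
    rw [conj_pow]; exact Subgroup.Normal.conj_mem inferInstance _ hx.2 g⟩⟩
  have hle : H₁ ≤ N := fun x hx => ⟨hH₁K.le hx, pow_mem hx _⟩
  have hcard : Nat.card (K ⧸ H₁.subgroupOf K) = H₁.relIndex K := rfl
  obtain ⟨z, hz⟩ := exists_prime_orderOf_dvd_card' (G := K ⧸ H₁.subgroupOf K) p (hcard ▸ hpd)
  obtain ⟨y, rfl⟩ := QuotientGroup.mk'_surjective _ z
  have hy : (y : L) ∉ H₁ := fun h => hp.ne_one (by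
    rw [← hz, orderOf_eq_one_iff]; exact (QuotientGroup.eq_one_iff y).2 h)
  have hypow : ((y : L) ^ p ^ a) ∈ H₁ := by
    have hpa : p ∣ p ^ a := dvd_pow_self p
      (hp.factorization_pos_of_dvd Subgroup.index_ne_zero_of_finite hpd).ne'
    have hdv : orderOf (QuotientGroup.mk' (H₁.subgroupOf K) y) ∣ p ^ a := by rw [hz]; exact hpa
    have h := orderOf_dvd_iff_pow_eq_one.1 hdv
    rw [← map_pow] at h
    simpa only [SubgroupClass.coe_pow] using
      Subgroup.mem_subgroupOf.1 ((QuotientGroup.eq_one_iff _).1 h)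
  have hlt : H₁ < N := lt_of_le_of_ne hle fun h => hy (h.ge ⟨y.2, hypow⟩)
  have hNK : N = K := by
    by_contra hne
    exact hno ⟨N, hN, hlt, lt_of_le_of_ne (fun x hx => hx.1) hne⟩
  have hpg : IsPGroup p (K ⧸ H₁.subgroupOf K) := by
    intro z
    obtain ⟨x, rfl⟩ := QuotientGroup.mk'_surjective _ z
    have hx : (x : L) ∈ N := hNK.symm ▸ x.2
    exact ⟨a, by rw [← map_pow]; exact (QuotientGroup.eq_one_iff _).2 hx.2⟩
  obtain ⟨b, hb⟩ := IsPGroup.iff_card.1 hpg
  refine ⟨p, b, hp, hb, Nat.pos_of_ne_zero fun h => hr ?_⟩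
  rw [← hcard, hb, h, pow_zero]

/-- The index of the derived subgroup of the quotient. -/
theorem index_commutator_quotient {M H₁ : Subgroup L} [M.Normal] (hMK : M ≤ K)
    [(M.subgroupOf K).Normal] (hH₁ : H₁ = ⁅K, K⁆ ⊔ M) :
    (commutator (↥K ⧸ M.subgroupOf K)).index = H₁.relIndex K := by
  set q := QuotientGroup.mk' (M.subgroupOf K)
  have hq := QuotientGroup.mk'_surjective (M.subgroupOf K)
  have hcomap : (commutator (↥K ⧸ M.subgroupOf K)).comap q = H₁.subgroupOf K := by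
    have h1 : commutator (↥K ⧸ M.subgroupOf K) = (commutator ↥K).map q := by
      rw [commutator_def, commutator_def, Subgroup.map_commutator, Subgroup.map_top_of_surjective q hq]
    rw [h1, Subgroup.comap_map_eq, QuotientGroup.ker_mk']
    apply Subgroup.map_injective K.subtype_injective
    rw [Subgroup.map_sup, Subgroup.subgroupOf_map_subtype, Subgroup.subgroupOf_map_subtype,
      inf_eq_left.2 hMK, hH₁, inf_eq_left.2 (sup_le (Subgroup.commutator_le_self K) hMK),
      Subgroup.map_subtype_commutator]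
  rw [← Subgroup.index_comap_of_surjective _ hq, hcomap]
  rfl

theorem coherent_main (hsolv : Group.IsSolvable K) {τ : (L → ℂ) → (G → ℂ)}
    {R : (L → ℂ) → Finset (G → ℂ)} (hS : Cfsg.IsCoherenceSystem (Cfsg.inducedIrrAbove K ⊥) τ R)
    (hodd : Odd (Nat.card L)) (M : Subgroup L) [M.Normal] (hMK : M ≤ K) [(M.subgroupOf K).Normal]
    (hnil : Group.IsNilpotent (↥K ⧸ M.subgroupOf K)) (H₁ : Subgroup L) (hH₁ : H₁ = ⁅K, K⁆ ⊔ M)
    (hH₁K : H₁ < K) (hKL : K < ⊤)
    (hfrob : ∀ k ∈ K, k ∉ H₁ → ∀ x : L, x * k * x⁻¹ * k⁻¹ ∈ H₁ → x ∈ K)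
    (hgood : (∃ N : Subgroup L, N.Normal ∧ H₁ < N ∧ N < K) ∨ 4 * K.index ^ 2 + 1 < H₁.relIndex K ∨
      (¬ ∃ p m : ℕ, p.Prime ∧ M.relIndex K = p ^ m) ∨ ⁅K, K⁆ ≤ M ∨
      (∃ p m : ℕ, p.Prime ∧ M.relIndex K = p ^ m ∧ K.index ∣ p - 1)) :
    Cfsg.IsCoherent (Cfsg.inducedIrrAbove K M) {1}ᶜ τ := by
  haveI : H₁.Normal := hH₁ ▸ inferInstance
  have hder : ⁅K, K⁆ ≤ H₁ := hH₁ ▸ le_sup_left
  have hbase := coherent_base hsolv hS H₁ hH₁K hder
  by_cases hab : ⁅K, K⁆ ≤ M
  · rw [sup_eq_right.2 hab] at hH₁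
    rwa [hH₁] at hbase
  suffices hbig : 4 * K.index ^ 2 + 1 < H₁.relIndex K from
    InducedNilpotent.coherent_nilpotent K hS subset_rfl hsolv M H₁ K (hH₁ ▸ le_sup_right) hH₁K.le
      le_rfl hnil hbase hbig
  by_cases hno : ∃ N : Subgroup L, N.Normal ∧ H₁ < N ∧ N < K
  · obtain ⟨N, hN, h1, h2⟩ := hno
    exact big_of_between hodd hKL h1 h2 hfrob
  obtain ⟨p, a, hp, hpa, ha0⟩ := relIndex_primePow hH₁K hder hno
  have hidx := index_commutator_quotient hMK hH₁
  rcases hgood with h | h | h | h | ⟨p', m, hp', hm, hdvd⟩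
  · exact absurd h hno
  · exact h
  · refine absurd ?_ h
    haveI : Fact p.Prime := ⟨hp⟩
    obtain ⟨b, hb⟩ := IsPGroup.iff_card.1
      (isPGroup_of_commutator hnil hp (a := a) (hidx ▸ dvd_of_eq hpa))
    exact ⟨p, b, hp, hb⟩
  · exact absurd h hab
  have hdiv : p ^ a ∣ p' ^ m := hpa ▸ hm ▸
    Subgroup.relIndex_dvd_of_le_left K (hH₁ ▸ le_sup_right : M ≤ H₁)
  obtain rfl : p = p' :=
    (Nat.prime_dvd_prime_iff_eq hp hp').1 (hp.dvd_of_dvd_pow ((dvd_pow_self p ha0.ne').trans hdiv))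
  rw [hpa]
  by_contra hle
  push Not at hle
  have hoddp : Odd p := (hodd.of_dvd_nat (Subgroup.card_subgroup_dvd_card K)).of_dvd_nat
    ((dvd_pow_self p ha0.ne').trans (hpa ▸ Subgroup.index_dvd_card _))
  have hodde : Odd K.index := hodd.of_dvd_nat (Subgroup.index_dvd_card K)
  have hp2 : 2 * K.index + 1 ≤ p := Layers.two_mul_add_one_le hoddp hodde hp.ne_one
    (((Nat.modEq_iff_dvd' hp.one_lt.le).2 hdvd).symm)
  have ha1 : a = 1 := by
    by_contra hne
    have h2 : p ^ 2 ≤ p ^ a := Nat.pow_le_pow_right hp.pos (by omega)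
    have := hodde.pos
    nlinarith
  have hQ := comm_of_commutator_prime hnil (Or.inl (by rw [hidx, hpa, ha1, pow_one]; exact hp))
  refine hab ?_
  intro x hx
  have hxK : x ∈ K := Subgroup.commutator_le_self K hx
  have hmem : (⟨x, hxK⟩ : K) ∈ commutator ↥K := by
    rw [← Subgroup.mem_map_iff_mem K.subtype_injective, Subgroup.map_subtype_commutator]
    exact hx
  have h := Subgroup.mem_map_of_mem (QuotientGroup.mk' (M.subgroupOf K)) hmem
  rw [commutator_def, Subgroup.map_commutator,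
    Subgroup.map_top_of_surjective _ (QuotientGroup.mk'_surjective _), ← commutator_def, hQ,
    Subgroup.mem_bot] at h
  exact Subgroup.mem_subgroupOf.1 ((QuotientGroup.eq_one_iff _).1 h)

end Cfsg.Agent.Lib.Isometry.KernelCoherence
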