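import Cfsg.Agent.Lib.Isometry.Layers

/-!
# Characters induced from the kernel of a Frobenius group

* `centralizer_le_of_fpf` : a fixed-point-free complement gives self-centralising kernel elements.
* `coe_layer_eq` : the characters induced from non-principal irreducible characters of the kernel
  are the irreducible characters that are not trivial on it.
-/

set_option autoImplicit false
set_option linter.unusedSectionVars false

namespace Cfsg.Agent.Lib.Isometry.KernelInduced

open scoped Classical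
open Cfsg.Agent.Lib.Isometry.Inflate

universe u

variable {L : Type u} [Group L] [Fintype L] (K : Subgroup L) [K.Normal]

theorem centralizer_le_of_fpf (W : Subgroup L) (hsup : K ⊔ W = ⊤)
    (hfpf : ∀ w ∈ W, w ≠ 1 → ∀ h ∈ K, w * h = h * w → h = 1) :
    ∀ k ∈ K, k ≠ 1 → Subgroup.centralizer ({k} : Set L) ≤ K := by
  intro k hk hk1 x hx
  rw [Subgroup.mem_centralizer_singleton_iff] at hx
  obtain ⟨h, hh, w, hw, rfl⟩ := Subgroup.mem_sup_of_normal_left.1 (hsup ▸ Subgroup.mem_top x)
  by_cases hw1 : w = 1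
  · subst hw1; simpa using hh
  exfalso
  -- `h w` is conjugate to `w` under `K`
  let f : K → K := fun a => ⟨(a : L)⁻¹ * (w * a * w⁻¹),
    mul_mem (inv_mem a.2) (Subgroup.Normal.conj_mem inferInstance _ a.2 w)⟩
  have hf : Function.Injective f := by
    intro a b hab
    have e : (a : L)⁻¹ * (w * a * w⁻¹) = (b : L)⁻¹ * (w * b * w⁻¹) := congrArg Subtype.val hab
    refine Subtype.ext (mul_inv_eq_one.1 (hfpf w hw hw1 ((b : L) * (a : L)⁻¹)
      (mul_mem b.2 (inv_mem a.2)) ?_)).symm
    calc w * ((b : L) * (a : L)⁻¹) = (b : L) * ((b : L)⁻¹ * (w * b * w⁻¹)) * (w * (a : L)⁻¹) := by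
          group
      _ = (b : L) * ((a : L)⁻¹ * (w * a * w⁻¹)) * (w * (a : L)⁻¹) := by rw [e]
      _ = (b : L) * (a : L)⁻¹ * w := by group
  obtain ⟨a, ha⟩ := (Finite.injective_iff_surjective.1 hf) ⟨h, hh⟩
  have ha' : (a : L)⁻¹ * (w * a * w⁻¹) = h := congrArg Subtype.val ha
  have hconj : (a : L) * (h * w) * (a : L)⁻¹ = w := by rw [← ha']; group
  refine hk1 ?_
  have h1 := hfpf w hw hw1 ((a : L) * k * (a : L)⁻¹)
    (Subgroup.Normal.conj_mem inferInstance _ hk _) ?_
  · rwa [mul_inv_eq_one, mul_eq_left] at h1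
  · calc w * ((a : L) * k * (a : L)⁻¹)
        = (a : L) * (h * w) * (a : L)⁻¹ * ((a : L) * k * (a : L)⁻¹) := by rw [hconj]
      _ = (a : L) * ((h * w) * k) * (a : L)⁻¹ := by group
      _ = (a : L) * (k * (h * w)) * (a : L)⁻¹ := by rw [hx]
      _ = (a : L) * k * (a : L)⁻¹ * ((a : L) * (h * w) * (a : L)⁻¹) := by group
      _ = _ := by rw [hconj]

theorem coe_layer_eq (hC : ∀ k ∈ K, k ≠ 1 → Subgroup.centralizer ({k} : Set L) ≤ K) :
    (↑(Inflate.layer K ⊥) : Set (L → ℂ)) = Cfsg.inducedIrrAbove K ⊥ := by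
  ext χ
  rw [Finset.mem_coe]
  constructor
  · intro hχ
    obtain ⟨θ, hθ, rfl⟩ := Layers.exists_ind hC hχ
    refine ⟨θ, hθ, fun h1 => ?_, fun a ha => ?_, rfl⟩
    · obtain ⟨-, -, g, hg, hne⟩ := mem_layer.1 hχ
      refine hne ?_
      subst h1
      simp only [Cfsg.indFun]
      congr 1
      refine Finset.sum_congr rfl fun x _ => ?_
      rw [Induced.Basic.extendByZero_of_mem K _ (by
          simpa using Subgroup.Normal.conj_mem inferInstance g hg x⁻¹),
        Induced.Basic.extendByZero_of_mem K _ (by simp)]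
    · rw [Subtype.ext (Subgroup.mem_bot.1 ha) (a1 := a) (a2 := (1 : K))]
  · rintro ⟨θ, hθ, hne, -, rfl⟩
    have hstab : ∀ g : L, Clifford.Basic.conjC K g θ = θ → g ∈ K := by
      intro g hg
      by_contra hgK
      refine hne (Induced.Mackey.eq_one_of_fixed (MulAut.conjNormal g) ?_ hθ hg)
      intro n hn
      by_contra hn1
      obtain ⟨m, hm⟩ := isConj_iff.1 hn
      have hm' : (m : L) * (g * (n : L) * g⁻¹) * (m : L)⁻¹ = n := by
        simpa using congrArg Subtype.val hm
      have hmem : (m : L) * g ∈ Subgroup.centralizer ({(n : L)} : Set L) := by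
        rw [Subgroup.mem_centralizer_singleton_iff]
        calc (m : L) * g * n = (m : L) * (g * (n : L) * g⁻¹) * (m : L)⁻¹ * ((m : L) * g) := by group
          _ = _ := by rw [hm']
      have := hC (n : L) n.2 (fun e => hn1 (Subtype.ext e)) hmem
      exact hgK (by simpa using K.mul_mem (K.inv_mem m.2) this)
    have hirr := Induced.Mackey.isIrrCharacter_indFun K hθ hstab
    refine mem_layer.2 ⟨hirr, fun g hg => by rw [Subgroup.mem_bot.1 hg], ?_⟩
    by_contra! hall
    have h1 := Induced.Basic.frobenius_reciprocity K θ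
      (Characters.Basic.isClassFunction_irr ⟨_, hirr⟩)
    rw [Inner.classInner_irr_eq hirr hirr, if_pos rfl] at h1
    have hres : (fun x : K => Cfsg.indFun K θ (x : L)) =
        Cfsg.indFun K θ 1 • ((Characters.Basic.oneChar K : K → ℂ)) := by
      funext x
      rw [Pi.smul_apply, Characters.Basic.oneChar_apply, smul_eq_mul, mul_one, hall (x : L) x.2]
    rw [hres, Induced.Basic.classInner_smul_right,
      Inner.classInner_irr_eq hθ (Characters.Basic.oneChar K).2, if_neg, mul_zero] at h1
    · exact one_ne_zero h1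
    · intro e
      exact hne (e.trans (funext fun x => Characters.Basic.oneChar_apply x))

end Cfsg.Agent.Lib.Isometry.KernelInduced
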