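import Cfsg.Agent.Lib.Isometry.Layers
import Cfsg.Agent.Lib.Characters.TI
import Cfsg.Agent.Lib.Induced.Character
import Cfsg.Agent.S1514
set_option autoImplicit false

/-! A Frobenius group with trivial-intersection kernel inside a group of odd order: the signed
characters attached to its first layer and their values on the kernel. -/

namespace Cfsg.Agent.Lib.Isometry.FrobeniusTI

open scoped ComplexConjugate Classical
open Cfsg.Agent.Lib.Isometry.Inner Cfsg.Agent.Lib.Isometry.Coherence Cfsg.Agent.Lib.Isometry.Inflate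
open Cfsg.Agent.Lib.Induced.Basic (classInner_add_left classInner_add_right classInner_sub_left
  classInner_sub_right classInner_smul_left classInner_smul_right classInner_conj_symm)
open Cfsg.Agent.Lib.Characters.Basic (classInner_sum_left classInner_sum_right classInner_zero_left)

universe u
variable {G : Type u} [Group G] [Fintype G]

/-! ### General facts -/

theorem restr_isClassFunction {L : Subgroup G} {f : G → ℂ} (hf : Cfsg.IsClassFunction G f) :
    Cfsg.IsClassFunction L (fun x : L => f x) := fun x y => by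
  show f ((y * x * y⁻¹ : L) : G) = f x
  push_cast; exact hf x y

theorem gen_indFun {L : Subgroup G} {S : Set (L → ℂ)} (hS : ∀ χ ∈ S, Cfsg.IsCharacter L χ)
    {α : L → ℂ} (hα : α ∈ Cfsg.zspan S) : Cfsg.IsGeneralizedCharacter G (Cfsg.indFun L α) := by
  induction hα using Submodule.span_induction with
  | mem x hx => exact gen_of_isCharacter (Induced.Character.isCharacter_indFun L (hS x hx))
  | zero => rw [Induced.Basic.indFun_zero]; exact gen_zero
  | add x y _ _ hx hy => rw [Induced.Basic.indFun_add]; exact gen_add hx hy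
  | smul n x _ hx =>
    rw [← Int.cast_smul_eq_zsmul ℂ, Induced.Basic.indFun_smul]
    exact gen_intCast_smul hx n

theorem zsmul_eq {X : Type u} (n : ℤ) (f : X → ℂ) : n • f = (n : ℂ) • f :=
  (Int.cast_smul_eq_zsmul ℂ n f).symm

theorem signed3 {θ φ : G → ℂ}
    (h : Cfsg.IsIrrCharacter G θ ∨ Cfsg.IsIrrCharacter G (-θ))
    (h' : Cfsg.IsIrrCharacter G φ ∨ Cfsg.IsIrrCharacter G (-φ)) :
    θ = φ ∨ θ = -φ ∨ Cfsg.classInner θ φ = 0 := by
  rcases signed_cases h h' with e | ⟨ε, rfl | rfl, e, -⟩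
  · exact Or.inr (Or.inr e)
  · exact Or.inl (by rw [e, one_smul])
  · exact Or.inr (Or.inl (by rw [e, neg_one_smul]))

/-- Two norm-two differences vanishing at `1` which are orthogonal share no constituent. -/
theorem orth_of_diff {a a' b b' : G → ℂ}
    (ha : Cfsg.IsIrrCharacter G a ∨ Cfsg.IsIrrCharacter G (-a))
    (ha' : Cfsg.IsIrrCharacter G a' ∨ Cfsg.IsIrrCharacter G (-a'))
    (hb : Cfsg.IsIrrCharacter G b ∨ Cfsg.IsIrrCharacter G (-b))
    (hb' : Cfsg.IsIrrCharacter G b' ∨ Cfsg.IsIrrCharacter G (-b'))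
    (haa : Cfsg.classInner a a' = 0) (hbb : Cfsg.classInner b b' = 0)
    (ha1 : a 1 = a' 1) (hb1 : b 1 = b' 1) (h : Cfsg.classInner (a - a') (b - b') = 0) :
    Cfsg.classInner a b = 0 := by
  have hbb' : Cfsg.classInner b' b = 0 := by rw [← classInner_conj_symm, hbb, map_zero]
  have haa' : Cfsg.classInner a' a = 0 := by rw [← classInner_conj_symm, haa, map_zero]
  rw [classInner_sub_left, classInner_sub_right, classInner_sub_right] at h
  rcases signed3 ha hb with e | e | e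
  · exfalso
    subst e
    rw [classInner_self_signed ha, hbb, haa'] at h
    have e2 : Cfsg.classInner a' b' = -1 := by linear_combination h
    rcases signed3 ha' hb' with e | e | e
    · rw [e, classInner_self_signed hb'] at e2; norm_num at e2
    · exact apply_one_ne_zero_of_signed hb' (by
        have := congrFun e 1
        rw [Pi.neg_apply] at this
        linear_combination (1 / 2 : ℂ) * (this + ha1 - hb1))
    · rw [e] at e2; norm_num at e2
  · exfalso
    subst e
    rw [classInner_neg_left, classInner_neg_left, classInner_self_signed hb, hbb] at h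
    have hab : Cfsg.classInner a' b = 0 := by
      have := haa'
      rwa [classInner_neg_right, neg_eq_zero] at this
    rw [hab] at h
    have e2 : Cfsg.classInner a' b' = 1 := by linear_combination h
    rcases signed3 ha' hb' with e | e | e
    · exact apply_one_ne_zero_of_signed hb' (by
        have := congrFun e 1
        rw [Pi.neg_apply] at ha1
        linear_combination (-1 / 2 : ℂ) * (this + ha1 + hb1))
    · rw [e, classInner_neg_left, classInner_self_signed hb'] at e2; norm_num at e2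
    · rw [e] at e2; norm_num at e2
  · exact e

variable (L H : Subgroup G) [(H.subgroupOf L).Normal]

/-- Class functions of `L` supported on the nonidentity elements of `H`. -/
def Supp (α : L → ℂ) : Prop :=
  Cfsg.IsClassFunction L α ∧ ∀ x : L, (x ∉ H.subgroupOf L ∨ x = 1) → α x = 0

variable {L H} (hTI : ∀ g ∉ L, ∀ t ∈ H, g * t * g⁻¹ ∈ H → t = 1)

omit [(H.subgroupOf L).Normal] in
theorem indFun_support {α : L → ℂ} (hα : Supp L H α) {g : G}
    (hg : Cfsg.indFun L α g ≠ 0) : g ≠ 1 ∧ ∃ y : G, y * g * y⁻¹ ∈ H := by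
  obtain ⟨x, hx⟩ : ∃ x : G, Cfsg.extendByZero L α (x⁻¹ * g * x) ≠ 0 := by
    by_contra h
    push Not at h
    exact hg (by simp [Cfsg.indFun, h])
  have hm : x⁻¹ * g * x ∈ L := by
    by_contra hm
    exact hx (Induced.Basic.extendByZero_of_not_mem L α hm)
  rw [Induced.Basic.extendByZero_of_mem L α hm] at hx
  have h1 : ¬((⟨_, hm⟩ : L) ∉ H.subgroupOf L ∨ (⟨_, hm⟩ : L) = 1) := fun h => hx (hα.2 _ h)
  push Not at h1
  refine ⟨fun h => h1.2 (Subtype.ext (by simp [h])), x⁻¹, ?_⟩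
  rw [inv_inv]
  exact h1.1

omit [(H.subgroupOf L).Normal] in
include hTI in
theorem indFun_apply {α : L → ℂ} (hα : Supp L H α) {x : L} (hx : x ∈ H.subgroupOf L) (hx1 : x ≠ 1) :
    Cfsg.indFun L α x = α x := by
  have key : ∀ y : G, Cfsg.extendByZero L α (y⁻¹ * x * y) = if y ∈ L then α x else 0 := by
    intro y
    split_ifs with hy
    · rw [Induced.Basic.extendByZero_of_mem L α (L.mul_mem (L.mul_mem (L.inv_mem hy) x.2) hy),
        ← hα.1 x ⟨y⁻¹, L.inv_mem hy⟩]
      congr 1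
      exact Subtype.ext (by simp)
    · by_cases hm : y⁻¹ * x * y ∈ L
      · rw [Induced.Basic.extendByZero_of_mem L α hm]
        refine hα.2 _ (Or.inl fun h => hx1 (Subtype.ext ?_))
        exact hTI y⁻¹ (fun h' => hy (inv_mem_iff.1 h')) x hx (by rwa [inv_inv])
      · exact Induced.Basic.extendByZero_of_not_mem L α hm
  show Cfsg.indFun L α x = α x
  simp only [Cfsg.indFun, key]
  rw [← Finset.sum_filter, Finset.sum_const, nsmul_eq_mul, ← mul_assoc,
    show (Finset.univ.filter fun y : G => y ∈ L).card = Nat.card L by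
      rw [Nat.card_eq_fintype_card, Fintype.card_subtype],
    inv_mul_cancel₀ (Induced.Basic.subgroup_card_ne_zero L), one_mul]

omit [(H.subgroupOf L).Normal] in
include hTI in
theorem classInner_indFun {α β : L → ℂ} (hα : Supp L H α) (hβ : Supp L H β) :
    Cfsg.classInner (Cfsg.indFun L α) (Cfsg.indFun L β) = Cfsg.classInner α β := by
  rw [Induced.Basic.frobenius_reciprocity L α (Induced.Basic.isClassFunction_indFun L β)]
  simp only [Cfsg.classInner]
  congr 1
  refine Finset.sum_congr rfl fun x _ => ?_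
  by_cases hx : x ∉ H.subgroupOf L ∨ x = 1
  · rw [hα.2 x hx, zero_mul, zero_mul]
  · push Not at hx
    rw [indFun_apply hTI hβ hx.1 hx.2]

variable (hC : ∀ n ∈ H.subgroupOf L, n ≠ 1 → Subgroup.centralizer ({n} : Set L) ≤ H.subgroupOf L)

include hC in
theorem supp_zspanOn {α : L → ℂ}
    (hα : α ∈ Cfsg.zspanOn (↑(Inflate.layer (H.subgroupOf L) ⊥) : Set (L → ℂ)) {1}ᶜ) :
    Supp L H α := by
  refine ⟨gen_classFun (gen_zspan (fun χ hχ => gen_of_irr
    (Layers.isIrr (Finset.mem_coe.1 hχ))) hα.1), ?_⟩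
  rintro x (hx | rfl)
  · obtain ⟨h, -⟩ := hα
    induction h using Submodule.span_induction with
    | mem χ hχ => exact Layers.vanish hC (Finset.mem_coe.1 hχ) hx
    | zero => rfl
    | add a b _ _ ha hb => rw [Pi.add_apply, ha, hb, add_zero]
    | smul n a _ ha => rw [zsmul_eq, Pi.smul_apply, ha, smul_zero]
  · exact (mem_zspanOn_one.1 hα).2

theorem indFun_one_eq_zero {α : L → ℂ} (h : α 1 = 0) : Cfsg.indFun L α 1 = 0 := by
  rw [Induced.Basic.indFun_one, h, mul_zero]

include hTI hC in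
theorem exists_system (hodd : Odd (Nat.card L)) (hH : H.subgroupOf L ≠ ⊥) :
    ∃ R, Cfsg.IsCoherenceSystem (↑(Inflate.layer (H.subgroupOf L) ⊥) : Set (L → ℂ))
      (Cfsg.indFun L) R := by
  refine Cfsg.Agent.S1514.result _ (layer_nonempty (bot_lt_iff_ne_bot.2 hH))
    (fun χ h => Layers.isIrr (Finset.mem_coe.1 h)) ?_ _ ?_ ?_
  · intro χ hχ
    refine ⟨conj_mem_layer hχ, fun hreal => ?_⟩
    obtain ⟨h, -, g, hg, hne⟩ := mem_layer.1 (Finset.mem_coe.1 hχ)
    have := Characters.Indicator.eq_oneChar_of_real hodd ⟨χ, h⟩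
      fun x => Complex.conj_eq_iff_im.1 (congrFun hreal x)
    exact hne (by rw [show χ = _ from congrArg Subtype.val this]; rfl)
  · refine ⟨fun a _ b _ => Induced.Basic.indFun_add L a b,
      fun a _ n => by rw [zsmul_eq, zsmul_eq, Induced.Basic.indFun_smul],
      fun a ha b hb => classInner_indFun hTI (supp_zspanOn hC ha) (supp_zspanOn hC hb),
      fun a ha => gen_indFun (fun χ hχ => Characters.Basic.IsCharacter_of_isIrrCharacter
        (Layers.isIrr (Finset.mem_coe.1 hχ))) ha.1⟩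
  · exact fun a ha => indFun_one_eq_zero (mem_zspanOn_one.1 ha).2

/-- The character induced from the principal character of the kernel. -/
noncomputable def RK (L H : Subgroup G) : L → ℂ :=
  fun x => if x ∈ H.subgroupOf L then ((H.subgroupOf L).index : ℂ) else 0

theorem RK_eq : RK L H = ∑ χ ∈ trivOn (H.subgroupOf L), χ 1 • χ := by
  funext x
  rw [Finset.sum_apply, RK, ← sum_trivOn (H.subgroupOf L) x]
  rfl

theorem classInner_RK_left {f : L → ℂ} :
    Cfsg.classInner (RK L H) f = ∑ χ ∈ trivOn (H.subgroupOf L), χ 1 * Cfsg.classInner χ f := by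
  rw [RK_eq, classInner_sum_left]
  simp only [classInner_smul_left]

theorem trivOn_bot (χ : L → ℂ) : χ ∈ trivOn (⊥ : Subgroup L) ↔ Cfsg.IsIrrCharacter L χ := by
  rw [mem_trivOn]
  exact ⟨And.left, fun h => ⟨h, fun g hg => by rw [Subgroup.mem_bot.1 hg]⟩⟩

omit [(H.subgroupOf L).Normal] in
theorem expansion {f : L → ℂ} (hf : Cfsg.IsClassFunction L f) :
    f = ∑ χ ∈ trivOn (⊥ : Subgroup L), Cfsg.classInner f χ • χ := by
  have := Fintype.ofFinite (Cfsg.IrrCharacter L)
  conv_lhs => rw [Characters.Complete.classFunction_eq_sum hf]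
  refine Finset.sum_bij (fun χ _ => (χ : L → ℂ)) (fun χ _ => (trivOn_bot _).2 χ.2)
    (fun a _ b _ h => Subtype.ext h) (fun χ hχ => ⟨⟨χ, (trivOn_bot _).1 hχ⟩, Finset.mem_univ _, rfl⟩)
    (fun _ _ => rfl)

theorem index_eq_relIndex_mul {A : Subgroup L} (hA : A ≤ H.subgroupOf L) :
    (A.index : ℂ) = (A.relIndex (H.subgroupOf L) : ℂ) * (H.subgroupOf L).index := by
  rw [← Subgroup.relIndex_mul_index hA]; push_cast; ring

include hC in
/-- Values on the kernel of a function whose coefficients are proportional on every layer, apart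
from the multiple `δ` of `ζ`. -/
theorem exists_value {n Mod : ℕ} {Z : ℕ → Subgroup L} (hn : 0 < n) (hZ0 : Z 0 = H.subgroupOf L)
    (hZn : Z n = ⊥) (hanti : Antitone Z) (hnorm : ∀ m, (Z m).Normal)
    (hstrict : ∀ m < n, Z (m + 1) < Z m)
    (hmod : ∀ k, 0 < k → k < n → ∀ m ≤ k, ∀ ξ ∈ Inflate.layer (Z m) (Z (m + 1)),
      (H.subgroupOf L).index * Layers.mdeg (H.subgroupOf L) ξ * Mod ∣ (Z k).index)
    {ζ : L → ℂ} (hζ : ζ ∈ Inflate.layer (Z 0) (Z 1)) (hζe : ζ 1 = ((H.subgroupOf L).index : ℂ))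
    (f : L → ℂ) (hf : Cfsg.IsClassFunction L f) (δ : ℤ)
    (a : (L → ℂ) → ℤ) (ha : ∀ χ ∈ Inflate.layer (H.subgroupOf L) ⊥, Cfsg.classInner f χ = a χ)
    (hrel : ∀ m < n, ∀ ξ ∈ Inflate.layer (Z m) (Z (m + 1)), ∀ η ∈ Inflate.layer (Z m) (Z (m + 1)),
      η 1 * ((a ξ - if ξ = ζ then δ else 0 : ℤ) : ℂ) = ξ 1 * ((a η - if η = ζ then δ else 0 : ℤ) : ℂ))
    (c : ℤ) (hc : Cfsg.classInner f (RK L H - ζ) = c) :
    ∃ v : L → ℤ, (∀ x ∈ H.subgroupOf L, x ≠ 1 → f x = v x + δ * ζ x) ∧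
      (∀ x ∈ H.subgroupOf L, x ∉ Z 1 → v x = c + δ) ∧
      (∀ x ∈ H.subgroupOf L, x ≠ 1 → (Mod : ℤ) ∣ v x - (c + δ)) := by
  set K := H.subgroupOf L with hK
  haveI := hnorm
  have hZK : ∀ m, Z m ≤ K := fun m => hZ0 ▸ hanti (Nat.zero_le m)
  have hex : ∀ m, ∃ η, m < n → η ∈ Inflate.layer (Z m) (Z (m + 1)) := fun m => by
    by_cases h : m < n
    · obtain ⟨η, hη⟩ := layer_nonempty (hstrict m h); exact ⟨η, fun _ => hη⟩
    · exact ⟨0, fun h' => absurd h' h⟩
  choose η hη using hex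
  set a' : (L → ℂ) → ℤ := fun ξ => a ξ - if ξ = ζ then δ else 0 with ha'
  set A : ℕ → ℂ := fun m => (a' (η m) : ℂ) / η m 1 with hA
  have hne : ∀ {m}, m < n → η m 1 ≠ 0 := fun h =>
    apply_one_ne_zero_of_signed (Or.inl (mem_layer.1 (hη _ h)).1)
  have hcoef : ∀ m < n, ∀ ξ ∈ Inflate.layer (Z m) (Z (m + 1)),
      Cfsg.classInner f ξ = ξ 1 * A m + (δ : ℂ) * if ξ = ζ then 1 else 0 := by
    intro m hm ξ hξ
    have h := hrel m hm ξ hξ (η m) (hη m hm)
    have h2 : ξ 1 * A m = (a' ξ : ℂ) := by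
      rw [hA]; simp only []
      rw [mul_div_assoc', div_eq_iff (hne hm)]
      linear_combination -h
    rw [ha ξ (Layers.layer_subset (hZK m) hξ), h2, ha']
    simp only []
    split_ifs <;> push_cast <;> ring
  have hζ0 : ∀ m < n, ζ ∈ Inflate.layer (Z m) (Z (m + 1)) → m = 0 := by
    intro m hm h
    by_contra hm0
    obtain ⟨g, hg, hgne⟩ := (mem_layer.1 h).2.2
    exact hgne ((mem_layer.1 hζ).2.1 g (hanti (Nat.one_le_iff_ne_zero.2 hm0) hg))
  have hlayer : ∀ m < n, ∀ x : L,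
      ∑ ξ ∈ Inflate.layer (Z m) (Z (m + 1)), Cfsg.classInner f ξ * ξ x =
        A m * ((if x ∈ Z (m + 1) then ((Z (m + 1)).index : ℂ) else 0) -
          if x ∈ Z m then ((Z m).index : ℂ) else 0) + if m = 0 then (δ : ℂ) * ζ x else 0 := by
    intro m hm x
    rw [← sum_layer (hanti (Nat.le_succ m)) x, Finset.mul_sum,
      Finset.sum_congr rfl fun ξ hξ => by rw [hcoef m hm ξ hξ, add_mul],
      Finset.sum_add_distrib]
    congr 1
    · exact Finset.sum_congr rfl fun ξ _ => by ring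
    · simp only [mul_ite, mul_one, mul_zero, ite_mul, zero_mul, Finset.sum_ite_eq']
      by_cases hm0 : m = 0
      · subst hm0; simp [hζ]
      · simp [hm0, show ζ ∉ Inflate.layer (Z m) (Z (m + 1)) from fun h => hm0 (hζ0 m hm h)]
  -- the sum over the characters trivial on the kernel
  have htriv : ∑ χ ∈ trivOn K, Cfsg.classInner f χ * χ 1 = (c : ℂ) + (δ : ℂ) + A 0 * K.index := by
    have h1 : Cfsg.classInner f (RK L H) = ∑ χ ∈ trivOn K, Cfsg.classInner f χ * χ 1 := by
      rw [RK_eq, classInner_sum_right]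
      refine Finset.sum_congr rfl fun χ hχ => ?_
      rw [classInner_smul_right, Characters.Basic.conj_apply_one
        (Characters.Basic.IsCharacter_of_isIrrCharacter (mem_trivOn.1 hχ).1), mul_comm]
    rw [classInner_sub_right, h1, hcoef 0 hn ζ hζ, if_pos rfl, hζe] at hc
    linear_combination hc
  set I : ℕ → ℂ := fun m => ((Z m).index : ℂ) with hI
  set F : ℕ → ℂ := fun k => (c : ℂ) + δ + A 0 * K.index +
    ∑ m ∈ Finset.range k, A m * (I (m + 1) - I m) - A k * I k with hF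
  have hval : ∀ k < n, ∀ x ∈ Z k, x ∉ Z (k + 1) → f x = F k + δ * ζ x := by
    intro k hk x hx hx'
    conv_lhs => rw [expansion hf]
    simp only [Finset.sum_apply, Pi.smul_apply, smul_eq_mul]
    have hsub : ∀ m, trivOn (Z m) ⊆ trivOn (Z (m + 1)) := fun m =>
      trivOn_mono (hanti (Nat.le_succ m))
    have htel := Finset.sum_range_sub (fun m => ∑ χ ∈ trivOn (Z m), Cfsg.classInner f χ * χ x) n
    have hterm : ∀ m ∈ Finset.range n,
        (∑ χ ∈ trivOn (Z (m + 1)), Cfsg.classInner f χ * χ x) -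
          ∑ χ ∈ trivOn (Z m), Cfsg.classInner f χ * χ x =
        A m * ((if x ∈ Z (m + 1) then ((Z (m + 1)).index : ℂ) else 0) -
          if x ∈ Z m then ((Z m).index : ℂ) else 0) + if m = 0 then (δ : ℂ) * ζ x else 0 := by
      intro m hm
      rw [← Finset.sum_sdiff_eq_sub (hsub m)]
      convert hlayer m (Finset.mem_range.1 hm) x using 2
      simp only [Inflate.layer]
      congr!
    rw [Finset.sum_congr rfl hterm, hZn, hZ0] at htel
    have hK' : ∑ χ ∈ trivOn K, Cfsg.classInner f χ * χ x = (c : ℂ) + δ + A 0 * K.index := by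
      rw [← htriv]
      exact Finset.sum_congr rfl fun χ hχ => by
        rw [(mem_trivOn.1 hχ).2 x (hZK k hx)]
    rw [hK', eq_sub_iff_add_eq] at htel
    rw [← htel, Finset.sum_add_distrib, Finset.sum_ite_eq', if_pos (Finset.mem_range.2 hn),
      ← Finset.sum_range_add_sum_Ico _ (Nat.succ_le_of_lt hk), Finset.sum_range_succ]
    rw [Finset.sum_congr rfl fun m hm => by
        rw [if_pos (hanti (Finset.mem_range.1 hm) hx), if_pos (hanti (Finset.mem_range.1 hm).le hx)],
      Finset.sum_eq_zero (s := Finset.Ico (k + 1) n) fun m hm => by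
        rw [if_neg fun h => hx' (hanti ((Finset.mem_Ico.1 hm).1.trans (Nat.le_succ m)) h),
          if_neg fun h => hx' (hanti (Finset.mem_Ico.1 hm).1 h)]
        ring,
      if_neg hx', if_pos hx]
    simp only [hF, hI]
    ring
  have hdvd : ∀ k, k + 1 < n → ∀ m ≤ k + 1, ∃ q : ℤ, A m * I (k + 1) = ((Mod : ℤ) * q : ℤ) := by
    intro k hk m hm
    have hm' : m < n := by omega
    obtain ⟨q, hq⟩ := hmod (k + 1) (Nat.succ_pos k) hk m hm (η m) (hη m hm')
    refine ⟨a' (η m) * q, ?_⟩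
    have h1 := (Layers.mdeg_spec hC (Layers.layer_subset (hZK m) (hη m hm'))).1
    simp only [hA, hI]
    rw [hq, div_mul_eq_mul_div, div_eq_iff (hne hm'), h1]
    push_cast; ring
  have hint : ∀ k < n, ∃ z : ℤ, F k = z ∧ (Mod : ℤ) ∣ z - (c + δ) := by
    intro k
    induction k with
    | zero =>
      intro _
      refine ⟨c + δ, ?_, by simp⟩
      simp only [hF, hI, hZ0, Finset.range_zero, Finset.sum_empty]
      push_cast; ring
    | succ k ih =>
      intro hk
      obtain ⟨z, hz, hzd⟩ := ih (by omega)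
      obtain ⟨q, hq⟩ := hdvd k hk k (Nat.le_succ k)
      obtain ⟨q', hq'⟩ := hdvd k hk (k + 1) le_rfl
      refine ⟨z + ((Mod : ℤ) * q - (Mod : ℤ) * q'), ?_, ?_⟩
      · have : F (k + 1) = F k + (A k * I (k + 1) - A (k + 1) * I (k + 1)) := by
          simp only [hF, Finset.sum_range_succ]; ring
        rw [this, hz, hq, hq']; push_cast; ring
      · rw [add_sub_right_comm]
        exact dvd_add hzd (dvd_sub (dvd_mul_right _ _) (dvd_mul_right _ _))
  have hlev : ∀ x : L, ∃ k, x ∈ K → x ≠ 1 → k < n ∧ x ∈ Z k ∧ x ∉ Z (k + 1) := by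
    intro x
    by_cases hx : x ∈ K ∧ x ≠ 1
    · have hex : ∃ k, x ∉ Z (k + 1) := ⟨n - 1, by
        rw [Nat.sub_add_cancel hn, hZn, Subgroup.mem_bot]; exact hx.2⟩
      refine ⟨Nat.find hex, fun _ _ => ⟨?_, ?_, Nat.find_spec hex⟩⟩
      · have : Nat.find hex ≤ n - 1 := Nat.find_le (by
          rw [Nat.sub_add_cancel hn, hZn, Subgroup.mem_bot]; exact hx.2)
        omega
      · rcases Nat.eq_zero_or_pos (Nat.find hex) with h | h
        · rw [h, hZ0]; exact hx.1
        · have := Nat.find_min hex (Nat.sub_lt h one_pos)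
          rw [show Nat.find hex - 1 + 1 = Nat.find hex from Nat.sub_add_cancel h, not_not] at this
          exact this
    · exact ⟨0, fun h h' => absurd ⟨h, h'⟩ hx⟩
  choose lev hlev using hlev
  have hzex : ∀ k, ∃ z : ℤ, k < n → F k = z ∧ (Mod : ℤ) ∣ z - (c + δ) := fun k => by
    by_cases h : k < n
    · obtain ⟨z, hz⟩ := hint k h; exact ⟨z, fun _ => hz⟩
    · exact ⟨0, fun h' => absurd h' h⟩
  choose z hz using hzex
  refine ⟨fun x => if x ∈ Z 1 then z (lev x) else c + δ, ?_, fun x _ hx => if_neg hx, ?_⟩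
  · intro x hx hx1
    obtain ⟨hk, hk1, hk2⟩ := hlev x hx hx1
    dsimp only
    split_ifs with h1
    · rw [hval _ hk x hk1 hk2, (hz _ hk).1]
    · have h0 : lev x = 0 := by
        by_contra h
        exact h1 (hanti (Nat.one_le_iff_ne_zero.2 h) hk1)
      rw [hval _ hk x hk1 hk2, h0]
      simp only [hF, hI, hZ0, Finset.range_zero, Finset.sum_empty]
      push_cast; ring
  · intro x hx hx1
    dsimp only
    split_ifs with h1
    · exact (hz _ (hlev x hx hx1).1).2
    · simp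

/-- The data attached to one kernel. -/
structure KernelData (L H : Subgroup G) [(H.subgroupOf L).Normal] where
  Z : Subgroup L
  Mod : ℕ
  ζ : L → ℂ
  M : G → ℂ
  Z_le : Z < H.subgroupOf L
  Z_normal : Z.Normal
  pcase : Z = ⊥ ∨ ∃ p a : ℕ, p.Prime ∧ p ≠ 2 ∧ Z.relIndex (H.subgroupOf L) = p ^ a ∧
    Mod = p ^ ((a + 1) / 2)
  ζ_mem : ζ ∈ Inflate.layer (H.subgroupOf L) Z
  ζ_one : ζ 1 = ((H.subgroupOf L).index : ℂ)
  signed : Cfsg.IsIrrCharacter G M ∨ Cfsg.IsIrrCharacter G (-M)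
  conj_orth : Cfsg.classInner M (Cfsg.conjFun M) = 0
  diff : Cfsg.indFun L (ζ - Cfsg.conjFun ζ) = M - Cfsg.conjFun M
  own : ∀ c : ℤ, Cfsg.classInner M (Cfsg.indFun L (RK L H - ζ)) = (c : ℂ) - 1 →
    ∃ v : L → ℤ, (∀ x ∈ H.subgroupOf L, x ≠ 1 → M x = v x + ζ x) ∧
      (∀ x ∈ H.subgroupOf L, x ∉ Z → v x = c) ∧
      (∀ x ∈ H.subgroupOf L, x ≠ 1 → (Mod : ℤ) ∣ v x - c)
  other : ∀ w : G → ℂ, Cfsg.IsIrrCharacter G w ∨ Cfsg.IsIrrCharacter G (-w) →
    Cfsg.classInner w (Cfsg.conjFun w) = 0 →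
    (∀ α : L → ℂ, Supp L H α → Cfsg.classInner (w - Cfsg.conjFun w) (Cfsg.indFun L α) = 0) →
    ∀ c : ℤ, Cfsg.classInner w (Cfsg.indFun L (RK L H - ζ)) = (c : ℂ) →
    ∃ v : L → ℤ, (∀ x ∈ H.subgroupOf L, x ≠ 1 → w x = v x) ∧
      (∀ x ∈ H.subgroupOf L, x ∉ Z → v x = c) ∧
      (∀ x ∈ H.subgroupOf L, x ≠ 1 → (Mod : ℤ) ∣ v x - c)

theorem conjFun_signed {χ : G → ℂ} (h : Cfsg.IsIrrCharacter G χ ∨ Cfsg.IsIrrCharacter G (-χ)) :
    Cfsg.IsIrrCharacter G (Cfsg.conjFun χ) ∨ Cfsg.IsIrrCharacter G (-Cfsg.conjFun χ) :=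
  h.imp conjFun_irr fun h => by
    have := conjFun_irr h
    rwa [show Cfsg.conjFun (-χ) = -Cfsg.conjFun χ from funext fun x => map_neg _ _] at this

theorem gen_conj_one {χ : G → ℂ} (h : Cfsg.IsIrrCharacter G χ ∨ Cfsg.IsIrrCharacter G (-χ)) :
    Cfsg.conjFun χ 1 = χ 1 := by
  rcases h with h | h
  · exact Characters.Basic.conj_apply_one (Characters.Basic.IsCharacter_of_isIrrCharacter h)
  · have := Characters.Basic.conj_apply_one (Characters.Basic.IsCharacter_of_isIrrCharacter h)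
    simpa [Cfsg.conjFun] using this

theorem conjFun_sub' {X : Type u} (f g : X → ℂ) :
    Cfsg.conjFun (f - g) = Cfsg.conjFun f - Cfsg.conjFun g := funext fun _ => map_sub _ _ _

theorem indFun_conjFun (α : L → ℂ) :
    Cfsg.indFun L (Cfsg.conjFun α) = Cfsg.conjFun (Cfsg.indFun L α) := by
  funext g
  simp only [Cfsg.indFun, Cfsg.conjFun, map_mul, map_inv₀, map_natCast, map_sum]
  congr 1
  refine Finset.sum_congr rfl fun x _ => ?_
  by_cases h : x⁻¹ * g * x ∈ L
  · rw [Induced.Basic.extendByZero_of_mem L _ h, Induced.Basic.extendByZero_of_mem L _ h]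
    rfl
  · rw [Induced.Basic.extendByZero_of_not_mem L _ h, Induced.Basic.extendByZero_of_not_mem L _ h,
      map_zero]

omit [(H.subgroupOf L).Normal] in
theorem classInner_one_indFun {α : L → ℂ} :
    Cfsg.classInner (Cfsg.indFun L α) (fun _ => 1) = Cfsg.classInner α (fun _ => 1) :=
  Induced.Basic.frobenius_reciprocity L α (fun _ _ => rfl)

set_option maxHeartbeats 1600000 in
include hTI hC in
theorem exists_kernelData (hodd : Odd (Nat.card G)) (hH : H.subgroupOf L ≠ ⊥)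
    (htop : H.subgroupOf L ≠ ⊤) : Nonempty (KernelData L H) := by
  set K := H.subgroupOf L with hK
  have hoddL : Odd (Nat.card L) := hodd.of_dvd_nat (Subgroup.card_subgroup_dvd_card L)
  obtain ⟨R, hS⟩ := exists_system hTI hC hoddL hH
  obtain ⟨n, Mod, Z, hn, hZ0, hZn, hanti, hnorm, hstrict, hcoh, ⟨ζ, hζ, hζe⟩, hmod, hp⟩ :=
    Layers.exists_chain hC hoddL hH htop hS
  have hsubK : ∀ m, Inflate.layer (Z m) (Z (m + 1)) ⊆ Inflate.layer K ⊥ := fun m =>
    Layers.layer_subset (hZ0 ▸ hanti (Nat.zero_le m))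
  have hζ0 : ζ ∈ Inflate.layer (Z 0) (Z 1) := by rw [hZ0]; exact hζ
  choose T hTiso hTagree using fun m : {m // m < n} => (hcoh m.1 m.2).2
  have hTs : ∀ (m : {m // m < n}), ∀ ξ ∈ Inflate.layer (Z m) (Z (m + 1)),
      Cfsg.IsIrrCharacter G (T m ξ) ∨ Cfsg.IsIrrCharacter G (-T m ξ) := fun m ξ h =>
    signed_of_norm_one ((hTiso m).2.2.2 _ (subset_zspan _ h))
      (by rw [(hTiso m).2.2.1 _ (subset_zspan _ h) _ (subset_zspan _ h), Layers.layer_norm h])
  have hdiffmem : ∀ m, ∀ ξ ∈ Inflate.layer (Z m) (Z (m + 1)), ξ - Cfsg.conjFun ξ ∈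
      Cfsg.zspanOn (↑(Inflate.layer (Z m) (Z (m + 1))) : Set (L → ℂ)) {1}ᶜ := fun m ξ h =>
    mem_zspanOn_one.2 ⟨zspan_sub (subset_zspan _ h) (subset_zspan _ (conj_mem_layer h)),
      by rw [Pi.sub_apply, sys_conj_one hS (hsubK m h), sub_self]⟩
  have hTdiff : ∀ (m : {m // m < n}), ∀ ξ ∈ Inflate.layer (Z m) (Z (m + 1)),
      T m ξ - T m (Cfsg.conjFun ξ) = Cfsg.indFun L (ξ - Cfsg.conjFun ξ) := by
    intro m ξ h
    rw [← hTagree m _ (hdiffmem m ξ h), Criterion.span_iso_sub (hTiso m) (subset_zspan _ h)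
      (subset_zspan _ (conj_mem_layer h))]
  have hTorth : ∀ (m : {m // m < n}), ∀ ξ ∈ Inflate.layer (Z m) (Z (m + 1)),
      Cfsg.classInner (T m ξ) (T m (Cfsg.conjFun ξ)) = 0 := by
    intro m ξ h
    rw [(hTiso m).2.2.1 _ (subset_zspan _ h) _ (subset_zspan _ (conj_mem_layer h)),
      sys_orth_conj hS (hsubK m h)]
  have hTone : ∀ (m : {m // m < n}), ∀ ξ ∈ Inflate.layer (Z m) (Z (m + 1)),
      T m ξ 1 = T m (Cfsg.conjFun ξ) 1 := by
    intro m ξ h
    have := congrFun (hTdiff m ξ h) 1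
    rwa [indFun_one_eq_zero (mem_zspanOn_one.1 (hdiffmem m ξ h)).2, Pi.sub_apply, sub_eq_zero] at this
  set M := T ⟨0, hn⟩ ζ with hM
  set M' := T ⟨0, hn⟩ (Cfsg.conjFun ζ) with hM'
  have hMs : Cfsg.IsIrrCharacter G M ∨ Cfsg.IsIrrCharacter G (-M) := hTs ⟨0, hn⟩ ζ hζ0
  have hM's : Cfsg.IsIrrCharacter G M' ∨ Cfsg.IsIrrCharacter G (-M') := hTs ⟨0, hn⟩ _ (conj_mem_layer hζ0)
  have hMM' : Cfsg.classInner M M' = 0 := hTorth ⟨0, hn⟩ ζ hζ0
  have hd : M - M' = Cfsg.indFun L (ζ - Cfsg.conjFun ζ) := hTdiff ⟨0, hn⟩ ζ hζ0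
  -- the conjugate of `M` is `M'`
  have hMne : Cfsg.classInner M (Cfsg.conjFun M) = 0 := by
    rcases signed3 hMs (conjFun_signed hMs) with e | e | e
    · exfalso
      have hr : ∀ x, (M x).im = 0 := fun x => Complex.conj_eq_iff_im.1 (congrFun e x).symm
      have h1 : Cfsg.classInner (M - M') (fun _ => 1) = 0 := by
        have hz := (mem_layer.1 hζ).1
        have hne : ∀ χ : L → ℂ, χ ∈ Inflate.layer K ⊥ → Cfsg.classInner χ (fun _ => 1) = 0 := by
          intro χ hχ
          obtain ⟨hi, -, g, hg, hgne⟩ := mem_layer.1 hχ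
          rw [show (fun _ : L => (1 : ℂ)) = (Characters.Basic.oneChar L : L → ℂ) from
          funext fun x => (Characters.Basic.oneChar_apply x).symm,
          classInner_irr_eq hi (Characters.Basic.oneChar L).2, if_neg]
          intro e'; exact hgne (by rw [e']; rfl)
        rw [hd, classInner_one_indFun, classInner_sub_left, hne ζ (hsubK 0 hζ0),
          hne _ (hsubK 0 (conj_mem_layer hζ0)), sub_zero]
      have hreal : ∀ ψ : G → ℂ, Cfsg.IsIrrCharacter G ψ → (∀ x, (ψ x).im = 0) → ψ = fun _ => 1 :=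
        fun ψ hψ hi => (congrArg Subtype.val (Characters.Indicator.eq_oneChar_of_real hodd ⟨ψ, hψ⟩ hi)).trans
          (funext fun x => Characters.Basic.oneChar_apply x)
      have hself := classInner_self_signed hMs
      rcases hMs with h | h
      · rw [← hreal M h hr, classInner_sub_left, hself,
          ← classInner_conj_symm M, hMM', map_zero] at h1
        norm_num at h1
      · rw [← hreal _ h (fun x => by rw [Pi.neg_apply, Complex.neg_im, hr x, neg_zero]), classInner_neg_right,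
          classInner_sub_left, hself, ← classInner_conj_symm M, hMM', map_zero] at h1
        norm_num at h1
    · exfalso
      refine apply_one_ne_zero_of_signed hMs ?_
      have := congrFun e 1
      rw [Pi.neg_apply, gen_conj_one hMs] at this
      linear_combination (1 / 2 : ℂ) * this
    · exact e
  have hconj : M' = Cfsg.conjFun M := by
    have hanti' : Cfsg.conjFun M - Cfsg.conjFun M' = -(M - M') := by
      rw [← conjFun_sub', hd, ← indFun_conjFun, conjFun_sub', conjFun_conjFun,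
        ← Induced.Basic.indFun_neg, neg_sub]
    have h := congrArg (fun v => Cfsg.classInner M v) hanti'
    simp only [classInner_sub_right, classInner_neg_right, classInner_self_signed hMs, hMM',
      hMne, zero_sub, sub_zero, neg_inj] at h
    rcases signed3 hMs (conjFun_signed hM's) with e | e | e
    · rw [e, conjFun_conjFun]
    · rw [e, classInner_neg_left, classInner_self_signed (conjFun_signed hM's)] at h
      norm_num at h
    · rw [e] at h; norm_num at h
  -- coefficients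
  have hint : ∀ (w : G → ℂ), Cfsg.IsGeneralizedCharacter G w → ∀ χ : L → ℂ, ∃ k : ℤ,
      χ ∈ Inflate.layer K ⊥ → Cfsg.classInner (fun x : L => w x) χ = k := by
    intro w hw χ
    by_cases h : χ ∈ Inflate.layer K ⊥
    · obtain ⟨k, hk⟩ := classInner_gen_int hw (gen_of_isCharacter
        (Induced.Character.isCharacter_indFun L (Characters.Basic.IsCharacter_of_isIrrCharacter
          (Layers.isIrr h))))
      rw [Induced.Basic.frobenius_reciprocity' L χ (gen_classFun hw)] at hk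
      exact ⟨k, fun _ => hk⟩
    · exact ⟨0, fun h' => absurd h' h⟩
  have hzero : ∀ w : G → ℂ, Cfsg.IsIrrCharacter G w ∨ Cfsg.IsIrrCharacter G (-w) →
      Cfsg.classInner w (Cfsg.conjFun w) = 0 → ∀ (m : {m // m < n}),
      ∀ ξ ∈ Inflate.layer (Z m) (Z (m + 1)),
      Cfsg.classInner (w - Cfsg.conjFun w) (Cfsg.indFun L (ξ - Cfsg.conjFun ξ)) = 0 →
      Cfsg.classInner w (T m ξ) = 0 := by
    intro w hw hwo m ξ hξ h0
    exact orth_of_diff hw (conjFun_signed hw) (hTs m ξ hξ) (hTs m _ (conj_mem_layer hξ)) hwo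
      (hTorth m ξ hξ) (gen_conj_one hw).symm (hTone m ξ hξ) (by rw [hTdiff m ξ hξ]; exact h0)
  have hval : ∀ (w : G → ℂ), Cfsg.IsGeneralizedCharacter G w → ∀ δ : ℤ,
      (∀ (m : {m // m < n}), ∀ ξ ∈ Inflate.layer (Z m) (Z (m + 1)),
        Cfsg.classInner w (T m ξ) = if ξ = ζ then (δ : ℂ) else 0) →
      ∀ c : ℤ, Cfsg.classInner w (Cfsg.indFun L (RK L H - ζ)) = (c : ℂ) →
      ∃ v : L → ℤ, (∀ x ∈ K, x ≠ 1 → w x = v x + δ * ζ x) ∧
        (∀ x ∈ K, x ∉ Z 1 → v x = c + δ) ∧ (∀ x ∈ K, x ≠ 1 → (Mod : ℤ) ∣ v x - (c + δ)) := by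
    intro w hw δ hwT c hc
    choose a ha using hint w hw
    rw [Induced.Basic.frobenius_reciprocity' L _ (gen_classFun hw)] at hc
    refine exists_value hC hn hZ0 hZn hanti hnorm hstrict hmod hζ0 hζe (fun x : L => w x)
      (restr_isClassFunction (gen_classFun hw)) δ a ha ?_ c hc
    intro m hm ξ hξ η hη
    set dη := (H.subgroupOf L).index * Layers.mdeg (H.subgroupOf L) η with hdη
    set dξ := (H.subgroupOf L).index * Layers.mdeg (H.subgroupOf L) ξ with hdξ
    have eη : η 1 = (dη : ℂ) := (Layers.mdeg_spec hC (hsubK m hη)).1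
    have eξ : ξ 1 = (dξ : ℂ) := (Layers.mdeg_spec hC (hsubK m hξ)).1
    set α := ((dη : ℤ) : ℂ) • ξ - ((dξ : ℤ) : ℂ) • η with hα
    have hαm : α ∈ Cfsg.zspanOn (↑(Inflate.layer (Z m) (Z (m + 1))) : Set (L → ℂ)) {1}ᶜ :=
      mem_zspanOn_one.2 ⟨zspan_sub (zspan_smul _ (subset_zspan _ hξ)) (zspan_smul _ (subset_zspan _ hη)),
        by rw [hα, Pi.sub_apply, Pi.smul_apply, Pi.smul_apply, eη, eξ, smul_eq_mul, smul_eq_mul]
           push_cast; ring⟩
    have h := congrArg (Cfsg.classInner w) (hTagree ⟨m, hm⟩ α hαm)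
    rw [Induced.Basic.frobenius_reciprocity' L α (gen_classFun hw), hα,
      Criterion.span_iso_sub (hTiso ⟨m, hm⟩) (zspan_smul _ (subset_zspan _ hξ))
        (zspan_smul _ (subset_zspan _ hη)),
      Criterion.span_iso_smul (hTiso ⟨m, hm⟩) (subset_zspan _ hξ),
      Criterion.span_iso_smul (hTiso ⟨m, hm⟩) (subset_zspan _ hη)] at h
    simp only [classInner_sub_right, classInner_smul_right, map_intCast, hwT ⟨m, hm⟩ ξ hξ,
      hwT ⟨m, hm⟩ η hη, ha ξ (hsubK m hξ), ha η (hsubK m hη)] at h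
    rw [eη, eξ]
    split_ifs at h ⊢ <;> push_cast at h ⊢ <;> linear_combination -h
  refine ⟨⟨Z 1, Mod, ζ, M, (hstrict 0 hn).trans_eq hZ0, hnorm 1, hp, hζ, hζe, hMs, hMne,
    by rw [← hd, hconj], ?_, ?_⟩⟩
  · intro c hc
    have hc' : Cfsg.classInner M (Cfsg.indFun L (RK L H - ζ)) = ((c - 1 : ℤ) : ℂ) := by
      rw [hc]; push_cast; ring
    suffices hT : ∀ (m : {m // m < n}), ∀ ξ ∈ Inflate.layer (Z m) (Z (m + 1)),
        Cfsg.classInner M (T m ξ) = if ξ = ζ then ((1 : ℤ) : ℂ) else 0 by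
      obtain ⟨v, h1, h2, h3⟩ := hval M (gen_of_signed hMs) 1 hT (c - 1) hc'
      exact ⟨v, fun x hx hx1 => by rw [h1 x hx hx1]; push_cast; ring,
          fun x hx hx1 => by rw [h2 x hx hx1]; ring,
          fun x hx hx1 => by simpa using h3 x hx hx1⟩
    intro m ξ hξ
    by_cases hm : m.1 = 0
    · have : m = ⟨0, hn⟩ := Subtype.ext hm
      subst this
      have hiso := (hTiso ⟨0, hn⟩).2.2.1
      have m1 : ζ ∈ Cfsg.zspan (↑(Inflate.layer (Z 0) (Z 1)) : Set (L → ℂ)) :=
        subset_zspan _ (Finset.mem_coe.2 hζ0)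
      have m2 : ξ ∈ Cfsg.zspan (↑(Inflate.layer (Z 0) (Z 1)) : Set (L → ℂ)) :=
        subset_zspan _ (Finset.mem_coe.2 hξ)
      rw [hM, hiso ζ m1 ξ m2, classInner_irr_eq (mem_layer.1 hζ0).1 (mem_layer.1 hξ).1]
      by_cases e : ξ = ζ
      · subst e; simp
      · rw [if_neg (Ne.symm e), if_neg e]
    · have hne : ∀ ψ ∈ Inflate.layer (Z 0) (Z 1), ξ ≠ ψ := by
        intro ψ hψ e
        subst e
        obtain ⟨g, hg, hgne⟩ := (mem_layer.1 hξ).2.2
        exact hgne ((mem_layer.1 hψ).2.1 g (hanti (Nat.one_le_iff_ne_zero.2 hm) hg))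
      rw [if_neg (hne ζ hζ0)]
      refine hzero M hMs hMne m ξ hξ ?_
      have hsub : ∀ k, Cfsg.zspanOn (↑(Inflate.layer (Z k) (Z (k + 1))) : Set (L → ℂ)) {1}ᶜ ⊆
          Cfsg.zspanOn (↑(Inflate.layer K ⊥) : Set (L → ℂ)) {1}ᶜ := fun k =>
        zspanOn_mono _ (Finset.coe_subset.2 (hsubK k))
      rw [← hconj, hd, classInner_indFun hTI (supp_zspanOn hC (hsub 0 (hdiffmem 0 ζ hζ0)))
        (supp_zspanOn hC (hsub _ (hdiffmem m ξ hξ)))]
      have hiξ := (mem_layer.1 hξ).1
      have hiζ := (mem_layer.1 hζ0).1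
      simp only [classInner_sub_left, classInner_sub_right, classInner_irr_eq hiζ hiξ,
        classInner_irr_eq hiζ (conjFun_irr hiξ), classInner_irr_eq (conjFun_irr hiζ) hiξ,
        classInner_irr_eq (conjFun_irr hiζ) (conjFun_irr hiξ)]
      have n1 := hne ζ hζ0
      have n2 := hne _ (conj_mem_layer hζ0)
      have e2 : ζ ≠ Cfsg.conjFun ξ := fun e => n2 (by rw [e, conjFun_conjFun])
      have e4 : Cfsg.conjFun ζ ≠ Cfsg.conjFun ξ := fun e =>
        n1 (by rw [← conjFun_conjFun ξ, ← e, conjFun_conjFun])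
      rw [if_neg (Ne.symm n1), if_neg e2, if_neg (Ne.symm n2), if_neg e4]
      ring
  · intro w hw hwo hort c hc
    suffices hT : ∀ (m : {m // m < n}), ∀ ξ ∈ Inflate.layer (Z m) (Z (m + 1)),
        Cfsg.classInner w (T m ξ) = if ξ = ζ then ((0 : ℤ) : ℂ) else 0 by
      obtain ⟨v, h1, h2, h3⟩ := hval w (gen_of_signed hw) 0 hT c hc
      exact ⟨v, fun x hx hx1 => by rw [h1 x hx hx1]; simp,
          fun x hx hx1 => by rw [h2 x hx hx1]; simp,
          fun x hx hx1 => by simpa using h3 x hx hx1⟩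
    intro m ξ hξ
    rw [hzero w hw hwo m ξ hξ (hort _ (supp_zspanOn hC
      (zspanOn_mono _ (Finset.coe_subset.2 (hsubK m)) (hdiffmem m ξ hξ))))]
    simp

end Cfsg.Agent.Lib.Isometry.FrobeniusTI
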