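import Cfsg.Agent.Lib.Isometry.TI
import Cfsg.Agent.Lib.Isometry.Inner
import Cfsg.Agent.Lib.H80.ClassMult
import Cfsg.Agent.Lib.Characters.Diag

/-!
# A congruence for characters constant on a central subgroup of a TI kernel

`H` is a normal subgroup of `L`, TI in `G` with respect to `L`, the index `[L : H]` is odd and
`Z` is a subgroup central in `H` all of whose non-identity elements have centraliser `H` in `L`.
If an irreducible character `ψ` of `G` is constantly `c` on `Z#`, then `[L : H] (ψ 1 - c)` is `|H|`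
times an algebraic integer.
-/

set_option autoImplicit false
set_option linter.unusedSectionVars false

namespace Cfsg.Agent.Lib.Isometry.TICongruence

open scoped Classical
open MulAction

universe u

variable {G : Type u} [Group G] [Fintype G] {L H : Subgroup G}

/-- The sum of the class values of `ψ` over a pair of cosets. -/
noncomputable def pairVal (H : Subgroup G) (z w : G) (ψ : G → ℂ) : (G ⧸ H) × (G ⧸ H) → ℂ :=
  fun p => ψ (p.1.out * z * p.1.out⁻¹ * (p.2.out * w * p.2.out⁻¹))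

theorem out_conj {z : G} (hz : ∀ h ∈ H, h * z = z * h) (a : G) :
    (a : G ⧸ H).out * z * (a : G ⧸ H).out⁻¹ = a * z * a⁻¹ := by
  obtain ⟨h, hh⟩ := QuotientGroup.mk_out_eq_mul H a
  rw [hh, mul_inv_rev, mul_assoc a, hz h h.2]
  group

theorem sum_pairVal {z w : G} (hz : ∀ h ∈ H, h * z = z * h) (hw : ∀ h ∈ H, h * w = w * h)
    (χ : Cfsg.IrrCharacter G) :
    (Nat.card H : ℂ) ^ 2 * ∑ p, pairVal H z w (χ : G → ℂ) p =
      (Nat.card G : ℂ) ^ 2 * (χ : G → ℂ) z * (χ : G → ℂ) w / (χ : G → ℂ) 1 := by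
  have hfib : ∀ F : G ⧸ H → ℂ, ∑ a : G, F a = (Nat.card H : ℂ) * ∑ x, F x := by
    intro F
    rw [← Finset.sum_fiberwise Finset.univ (fun a : G => (a : G ⧸ H)) (fun a => F a), Finset.mul_sum]
    refine Finset.sum_congr rfl fun x _ => ?_
    rw [Finset.sum_congr rfl (g := fun _ => F x) fun a ha => by rw [(Finset.mem_filter.1 ha).2],
      Finset.sum_const, nsmul_eq_mul]
    congr 2
    rw [← Fintype.card_subtype, ← Nat.card_eq_fintype_card]
    induction x using QuotientGroup.induction_on with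
    | _ a =>
      refine Nat.card_congr (Equiv.subtypeEquiv (Equiv.mulLeft a⁻¹) fun b => ?_)
      rw [QuotientGroup.eq]
      show b⁻¹ * a ∈ H ↔ a⁻¹ * b ∈ H
      rw [← inv_mem_iff, mul_inv_rev, inv_inv]
  have key : ∑ a : G, ∑ b : G, (χ : G → ℂ) (a * z * a⁻¹ * (b * w * b⁻¹)) =
      (Nat.card H : ℂ) ^ 2 * ∑ p, pairVal H z w (χ : G → ℂ) p := by
    rw [Finset.sum_congr rfl (g := fun a : G => (Nat.card H : ℂ) *
      ∑ y, pairVal H z w (χ : G → ℂ) ((a : G ⧸ H), y)) fun a _ => ?_,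
      ← Finset.mul_sum, hfib fun x => ∑ y, pairVal H z w (χ : G → ℂ) (x, y), Fintype.sum_prod_type]
    · ring
    rw [← hfib]
    refine Finset.sum_congr rfl fun b _ => ?_
    simp only [pairVal, out_conj hz, out_conj hw]
  rw [← key]
  have h1 := Characters.Basic.apply_one_ne_zero χ
  simp only [H80.ClassMult.sum_apply_mul_conj]
  rw [← Finset.sum_div, ← Finset.sum_mul, ← Finset.mul_sum]
  have hone : ∑ a : G, (χ : G → ℂ) (a * z * a⁻¹) = (Nat.card G : ℂ) * (χ : G → ℂ) z := by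
    rw [Finset.sum_congr rfl (g := fun _ => (χ : G → ℂ) z)
      fun a _ => (Characters.Basic.isClassFunction_irr χ) z a,
      Finset.sum_const, Finset.card_univ, nsmul_eq_mul, Nat.card_eq_fintype_card]
  rw [hone]
  field_simp

variable (hHL : H ≤ L) [(H.subgroupOf L).Normal] (hTI : ∀ g ∉ L, ∀ t ∈ H, g * t * g⁻¹ ∈ H → t = 1)

include hHL in
theorem conj_mem_of_mem {l : G} (hl : l ∈ L) {h : G} (hh : h ∈ H) : l⁻¹ * h * l ∈ H := by
  have h1 := Subgroup.Normal.conj_mem (inferInstance : (H.subgroupOf L).Normal) ⟨h, hHL hh⟩ hh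
    ⟨l⁻¹, L.inv_mem hl⟩
  simpa [Subgroup.mem_subgroupOf] using h1

include hHL hTI in
theorem smul_out_eq {u : H} {x : G ⧸ H} (hu : (u : G) ≠ 1) : u • x = x ↔ x.out ∈ L := by
  conv_lhs => rw [← QuotientGroup.out_eq' x]
  rw [show u • (x.out : G ⧸ H) = (((u : G) * x.out : G) : G ⧸ H) from rfl, QuotientGroup.eq,
    mul_inv_rev]
  constructor
  · intro h
    by_contra hx
    refine hu (inv_eq_one.1 (hTI x.out⁻¹ (fun h' => hx (inv_mem_iff.1 h')) _ (inv_mem u.2) ?_))
    rwa [inv_inv]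
  · exact fun hx => conj_mem_of_mem hHL hx (inv_mem u.2)

variable {Z : Subgroup G} (hZH : Z ≤ H) (hcen : ∀ z ∈ Z, ∀ h ∈ H, h * z = z * h)
  (hZL : ∀ l ∈ L, ∀ z ∈ Z, l * z * l⁻¹ ∈ Z)
  (hreg : ∀ z ∈ Z, z ≠ 1 → ∀ l ∈ L, l * z = z * l → l ∈ H)
  (hodd : Odd (Nat.card L))

include hHL hTI hZH hcen hZL hodd in
/-- The congruence, for an arbitrary centraliser. -/
theorem card_mul_sub (χ : Cfsg.IrrCharacter G) {c : ℂ} (hc : ∀ z ∈ Z, z ≠ 1 → (χ : G → ℂ) z = c)
    {z : G} (hzZ : z ∈ Z) (hz1 : z ≠ 1) :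
    ∃ (k : ℕ) (w : ℂ), IsIntegral ℤ w ∧
      k * Nat.card H ^ 2 = Nat.card L * Nat.card ↥(L ⊓ Subgroup.centralizer ({z} : Set G)) ∧
      (k : ℂ) * ((χ : G → ℂ) 1 - c) = (Nat.card H : ℂ) * w := by
  have hzi : z⁻¹ ∈ Z := inv_mem hzZ
  have hzi1 : z⁻¹ ≠ 1 := inv_ne_one.2 hz1
  obtain ⟨_, ρ, -, hρ⟩ := Characters.Basic.exists_rep χ
  have hint : ∀ g, IsIntegral ℤ ((χ : G → ℂ) g) := fun g => hρ ▸ Characters.Diag.isIntegral_char ρ g
  -- the pairs of cosets inside `L`
  let B : Finset ((G ⧸ H) × (G ⧸ H)) := Finset.univ.filter fun p => p.1.out ∈ L ∧ p.2.out ∈ L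
  have hfree : ∀ w ∈ Z, ∃ v : ℂ, IsIntegral ℤ v ∧
      ∑ p, pairVal H z w (χ : G → ℂ) p =
        ∑ p ∈ B, pairVal H z w (χ : G → ℂ) p + (Nat.card H : ℂ) * v := by
    intro w hw
    set F := pairVal H z w (χ : G → ℂ) with hF
    have hinv : ∀ (u : H) p, F (u • p) = F p := by
      intro u p
      have e : ∀ {y : G} (x : G ⧸ H), (∀ h ∈ H, h * y = y * h) →
          (u • x).out * y * (u • x).out⁻¹ = (u : G) * (x.out * y * x.out⁻¹) * (u : G)⁻¹ := by
        intro y x hy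
        conv_lhs => rw [← QuotientGroup.out_eq' x,
          show u • (x.out : G ⧸ H) = (((u : G) * x.out : G) : G ⧸ H) from rfl, out_conj hy]
        group
      show (χ : G → ℂ) _ = (χ : G → ℂ) _
      rw [Prod.smul_fst, Prod.smul_snd, e p.1 (hcen z hzZ), e p.2 (hcen w hw)]
      rw [show (u : G) * (p.1.out * z * p.1.out⁻¹) * (u : G)⁻¹ *
        ((u : G) * (p.2.out * w * p.2.out⁻¹) * (u : G)⁻¹) =
          (u : G) * (p.1.out * z * p.1.out⁻¹ * (p.2.out * w * p.2.out⁻¹)) * (u : G)⁻¹ by group]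
      exact Characters.Basic.isClassFunction_irr χ _ _
    have hB : ∀ (u : H) p, (u : G) ≠ 1 → (u • p = p ↔ p ∈ B) := by
      intro u p hu
      rw [Finset.mem_filter, Prod.ext_iff, Prod.smul_fst, Prod.smul_snd,
        smul_out_eq hHL hTI hu, smul_out_eq hHL hTI hu]
      simp
    let π : (G ⧸ H) × (G ⧸ H) → orbitRel.Quotient H ((G ⧸ H) × (G ⧸ H)) := fun p => Quotient.mk'' p
    refine ⟨∑ ω ∈ Finset.univ.filter (fun ω => ω ∈ (Finset.univ.filter fun p => p ∉ B).image π),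
      F (Quotient.out ω), IsIntegral.sum _ fun ω _ => hint _, ?_⟩
    rw [← Finset.sum_filter_add_sum_filter_not Finset.univ (fun p => p ∈ B) F,
      Finset.filter_univ_mem, add_right_inj, Finset.filter_univ_mem, Finset.mul_sum,
      ← Finset.sum_fiberwise_of_maps_to (s := Finset.univ.filter fun p => p ∉ B)
        (fun p hp => Finset.mem_image_of_mem π hp) F]
    refine Finset.sum_congr rfl fun ω hω => ?_
    obtain ⟨p₀, hp₀, rfl⟩ := Finset.mem_image.1 hω
    have hp₀' := (Finset.mem_filter.1 hp₀).2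
    set q : (G ⧸ H) × (G ⧸ H) := Quotient.out (π p₀) with hq
    obtain ⟨u₀, hu₀⟩ : ∃ u : H, u • p₀ = q := by
      have := Quotient.exact (Quotient.out_eq (π p₀))
      exact this
    have hone : ∀ p : (G ⧸ H) × (G ⧸ H), (1 : H) • p = p := fun p => one_smul H p
    have hinvs : ∀ (u : H) (p : (G ⧸ H) × (G ⧸ H)), u⁻¹ • u • p = p := fun u p =>
      inv_smul_smul u p
    have hmemB : ∀ (u : H) p, u • p ∈ B ↔ p ∈ B := by
      intro u p
      by_cases hu : (u : G) = 1
      · rw [show u = 1 from Subtype.ext hu, hone]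
      constructor
      · intro h
        have h' := (hB u⁻¹ (u • p) (by simpa using hu)).2 h
        rw [hinvs] at h'
        rwa [← h'] at h
      · intro h; rwa [(hB u p hu).2 h]
    have hqB : q ∉ B := fun h => hp₀' ((hmemB u₀ p₀).1 (hu₀ ▸ h))
    have hfib : (Finset.univ.filter fun p => p ∉ B).filter (fun p => π p = π p₀) =
        Finset.univ.image fun u : H => u • q := by
      ext p
      simp only [Finset.mem_filter, Finset.mem_univ, true_and, Finset.mem_image]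
      constructor
      · rintro ⟨-, hp⟩
        obtain ⟨u, hu⟩ := (Quotient.exact (hp.trans (Quotient.out_eq (π p₀)).symm) :
          p ∈ orbit H q)
        exact ⟨u, hu⟩
      · rintro ⟨u, rfl⟩
        refine ⟨fun h => hqB ((hmemB u q).1 h), ?_⟩
        exact (Quotient.sound (show orbitRel H ((G ⧸ H) × (G ⧸ H)) (u • q) q from ⟨u, rfl⟩)).trans
          (Quotient.out_eq (π p₀))
    rw [hfib, Finset.sum_image, Finset.sum_congr rfl (fun u _ => hinv u q), Finset.sum_const,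
      Finset.card_univ, nsmul_eq_mul, ← Nat.card_eq_fintype_card]
    intro u _ v _ huv
    by_contra hne
    refine hqB ((hB (v⁻¹ * u) q (fun h => hne ?_)).1 ?_)
    swap
    · exact (mul_smul v⁻¹ u q).trans ((congrArg (v⁻¹ • ·) huv).trans (hinvs v q))
    exact (inv_mul_eq_one.1 (Subtype.ext h : v⁻¹ * u = 1)).symm
  obtain ⟨v₁, hv₁, h₁⟩ := hfree z hzZ
  obtain ⟨v₂, hv₂, h₂⟩ := hfree z⁻¹ hzi
  refine ⟨((Finset.univ.filter fun p : (G ⧸ H) × (G ⧸ H) => p.1.out ∈ L ∧ p.2.out ∈ L).filter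
    fun p => (p.1.out⁻¹ * p.2.out) * z = z * (p.1.out⁻¹ * p.2.out)).card, v₁ - v₂, hv₁.sub hv₂, ?_⟩
  have htot : ∑ p, pairVal H z z (χ : G → ℂ) p = ∑ p, pairVal H z z⁻¹ (χ : G → ℂ) p := by
    refine mul_left_cancel₀ (pow_ne_zero 2 (Nat.cast_ne_zero.2 (Nat.card_pos (α := H)).ne' :
      (Nat.card H : ℂ) ≠ 0)) ?_
    rw [sum_pairVal (hcen z hzZ) (hcen z hzZ) χ, sum_pairVal (hcen z hzZ) (hcen _ hzi) χ,
      hc z hzZ hz1, hc _ hzi hzi1]
  -- no element of `L` inverts `z`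
  have hninv : ∀ l ∈ L, l * z * l⁻¹ ≠ z⁻¹ := by
    intro l hl h
    obtain ⟨k, hk⟩ := hodd
    have hsq : (l * l) * z * (l * l)⁻¹ = z := by
      calc (l * l) * z * (l * l)⁻¹ = l * (l * z * l⁻¹) * l⁻¹ := by group
        _ = l * z⁻¹ * l⁻¹ := by rw [h]
        _ = (l * z * l⁻¹)⁻¹ := by group
        _ = z := by rw [h, inv_inv]
    have hlcomm : l * l * z = z * (l * l) := mul_inv_eq_iff_eq_mul.1 hsq
    have hpow : l = (l * l) ^ (k + 1) := by
      have := congrArg Subtype.val (pow_card_eq_one' (x := (⟨l, hl⟩ : L)))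
      rw [hk] at this
      simp only [SubmonoidClass.coe_pow, OneMemClass.coe_one] at this
      rw [← pow_two, ← pow_mul, show 2 * (k + 1) = (2 * k + 1) + 1 by ring, pow_succ, this, one_mul]
    have hc' : Commute l z := by
      have := (Commute.pow_left (hlcomm : Commute (l * l) z) (k + 1))
      rwa [← hpow] at this
    rw [hc'.eq, mul_inv_cancel_right] at h
    have hzz : z * z = 1 := by nth_rewrite 1 [h]; exact inv_mul_cancel z
    have h2 : orderOf z = 2 := orderOf_eq_prime (by rw [pow_two, hzz]) hz1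
    have h3 := Subgroup.orderOf_dvd_natCard L (hHL (hZH hzZ))
    rw [h2] at h3
    omega
  -- values on the pairs inside `L`
  have hval : ∀ w ∈ Z, ∀ p ∈ B, pairVal H z w (χ : G → ℂ) p =
      if p.1.out * z * p.1.out⁻¹ * (p.2.out * w * p.2.out⁻¹) = 1 then (χ : G → ℂ) 1 else c := by
    intro w hw p hp
    obtain ⟨-, hp1, hp2⟩ := Finset.mem_filter.1 hp
    by_cases h : p.1.out * z * p.1.out⁻¹ * (p.2.out * w * p.2.out⁻¹) = 1
    · rw [if_pos h]; show (χ : G → ℂ) _ = _; rw [h]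
    · rw [if_neg h]
      exact hc _ (mul_mem (hZL _ hp1 z hzZ) (hZL _ hp2 w hw)) h
  have hB1 : ∑ p ∈ B, pairVal H z z (χ : G → ℂ) p = (B.card : ℂ) * c := by
    rw [Finset.sum_congr rfl (g := fun _ => c) fun p hp => ?_, Finset.sum_const, nsmul_eq_mul]
    rw [hval z hzZ p hp, if_neg]
    intro h
    obtain ⟨-, hp1, hp2⟩ := Finset.mem_filter.1 hp
    refine hninv (p.1.out⁻¹ * p.2.out) (mul_mem (inv_mem hp1) hp2) ?_
    calc p.1.out⁻¹ * p.2.out * z * (p.1.out⁻¹ * p.2.out)⁻¹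
        = p.1.out⁻¹ * (p.2.out * z * p.2.out⁻¹) * p.1.out := by group
      _ = p.1.out⁻¹ * (p.1.out * z * p.1.out⁻¹)⁻¹ * p.1.out := by
          rw [← eq_inv_of_mul_eq_one_right h]
      _ = z⁻¹ := by group
  let D : Finset ((G ⧸ H) × (G ⧸ H)) := B.filter fun p =>
    (p.1.out⁻¹ * p.2.out) * z = z * (p.1.out⁻¹ * p.2.out)
  have hB2 : ∑ p ∈ B, pairVal H z z⁻¹ (χ : G → ℂ) p =
      (B.card : ℂ) * c + (D.card : ℂ) * ((χ : G → ℂ) 1 - c) := by
    rw [Finset.sum_congr rfl (g := fun p => c +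
        if (p.1.out⁻¹ * p.2.out) * z = z * (p.1.out⁻¹ * p.2.out) then (χ : G → ℂ) 1 - c else 0)
      fun p hp => ?_, Finset.sum_add_distrib, Finset.sum_const, nsmul_eq_mul, ← Finset.sum_filter,
      Finset.sum_const, nsmul_eq_mul]
    rw [hval _ hzi p hp]
    have hiff : p.1.out * z * p.1.out⁻¹ * (p.2.out * z⁻¹ * p.2.out⁻¹) = 1 ↔
        (p.1.out⁻¹ * p.2.out) * z = z * (p.1.out⁻¹ * p.2.out) := by
      rw [show p.2.out * z⁻¹ * p.2.out⁻¹ = (p.2.out * z * p.2.out⁻¹)⁻¹ by group, mul_inv_eq_one,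
        mul_inv_eq_iff_eq_mul, mul_assoc (p.2.out * z), eq_comm, mul_assoc p.1.out⁻¹]
      constructor
      · intro h
        apply mul_right_cancel (b := (1 : G))
        rw [mul_one, mul_one]
        calc p.1.out⁻¹ * (p.2.out * z) = p.1.out⁻¹ * (p.2.out * z * (p.2.out⁻¹ * p.1.out)) * (p.1.out⁻¹ * p.2.out) := by group
          _ = z * (p.1.out⁻¹ * p.2.out) := by rw [h]; group
      · intro h
        calc p.2.out * z * (p.2.out⁻¹ * p.1.out)
            = p.1.out * (p.1.out⁻¹ * (p.2.out * z)) * (p.2.out⁻¹ * p.1.out) := by group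
          _ = p.1.out * z := by rw [h]; group
    by_cases he : (p.1.out⁻¹ * p.2.out) * z = z * (p.1.out⁻¹ * p.2.out)
    · rw [if_pos he, if_pos (hiff.2 he), add_sub_cancel]
    · rw [if_neg he, add_zero, if_neg (fun h => he (hiff.1 h))]
  refine ⟨?_, ?_⟩
  · show D.card * Nat.card H ^ 2 = _
    set C := L ⊓ Subgroup.centralizer ({z} : Set G) with hC
    have hnear : ∀ (h : H) (y : G), ((h : G) * y) * z = z * ((h : G) * y) ↔ y * z = z * y := by
      intro h y
      rw [mul_assoc, ← mul_assoc z, ← hcen z hzZ h h.2, mul_assoc (h : G) z]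
      exact mul_right_inj _
    let f : D × (H × H) → L × C := fun q =>
      (⟨q.1.1.1.out * q.2.1, mul_mem (Finset.mem_filter.1 (Finset.mem_filter.1 q.1.2).1).2.1
          (hHL q.2.1.2)⟩,
        ⟨(q.1.1.1.out * q.2.1)⁻¹ * (q.1.1.2.out * q.2.2), by
          obtain ⟨hB', hcm⟩ := Finset.mem_filter.1 q.1.2
          obtain ⟨-, h1, h2⟩ := Finset.mem_filter.1 hB'
          refine Subgroup.mem_inf.2
            ⟨mul_mem (inv_mem (mul_mem h1 (hHL q.2.1.2))) (mul_mem h2 (hHL q.2.2.2)), ?_⟩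
          refine Subgroup.mem_centralizer_singleton_iff.2 ?_
          rw [show (q.1.1.1.out * (q.2.1 : G))⁻¹ * (q.1.1.2.out * q.2.2) =
            ((q.2.1⁻¹ : H) : G) * ((q.1.1.1.out⁻¹ * q.1.1.2.out) * q.2.2) by
              rw [Subgroup.coe_inv]; group, hnear, mul_assoc, hcen z hzZ _ q.2.2.2, ← mul_assoc,
            hcm, mul_assoc]⟩)
    rw [← Nat.card_prod, ← Nat.card_eq_of_bijective f ⟨?_, ?_⟩, Nat.card_prod, Nat.card_prod,
      Nat.card_eq_finsetCard, pow_two]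
    · rintro ⟨⟨⟨x, y⟩, hq⟩, h, h'⟩ ⟨⟨⟨x', y'⟩, hq'⟩, k, k'⟩ e
      have e1 : x.out * (h : G) = x'.out * k := congrArg Subtype.val (congrArg Prod.fst e)
      have e2 : y.out * (h' : G) = y'.out * k' := by
        have := congrArg Subtype.val (congrArg Prod.snd e)
        simp only [f] at this
        rw [e1] at this
        exact mul_left_cancel this
      have hx : x = x' := by
        rw [← QuotientGroup.out_eq' x, ← QuotientGroup.out_eq' x', QuotientGroup.eq]
        have : x.out⁻¹ * x'.out = (h : G) * (k : G)⁻¹ := by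
          rw [eq_mul_inv_iff_mul_eq, mul_assoc, ← e1, inv_mul_cancel_left]
        rw [this]; exact mul_mem h.2 (inv_mem k.2)
      have hy : y = y' := by
        rw [← QuotientGroup.out_eq' y, ← QuotientGroup.out_eq' y', QuotientGroup.eq]
        have : y.out⁻¹ * y'.out = (h' : G) * (k' : G)⁻¹ := by
          rw [eq_mul_inv_iff_mul_eq, mul_assoc, ← e2, inv_mul_cancel_left]
        rw [this]; exact mul_mem h'.2 (inv_mem k'.2)
      subst hx hy
      rw [Subtype.ext (mul_left_cancel e1), Subtype.ext (mul_left_cancel e2)]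
    · rintro ⟨a, b⟩
      obtain ⟨h, hh⟩ := QuotientGroup.mk_out_eq_mul H (a : G)
      obtain ⟨h', hh'⟩ := QuotientGroup.mk_out_eq_mul H ((a : G) * b)
      have hbc : (b : G) * z = z * b := Subgroup.mem_centralizer_singleton_iff.1 b.2.2
      refine ⟨⟨⟨(((a : G) : G ⧸ H), (((a : G) * b : G) : G ⧸ H)), ?_⟩, h⁻¹, h'⁻¹⟩, ?_⟩
      · refine Finset.mem_filter.2 ⟨Finset.mem_filter.2 ⟨Finset.mem_univ _, ?_, ?_⟩, ?_⟩
        · rw [hh]; exact mul_mem a.2 (hHL h.2)
        · rw [hh']; exact mul_mem (mul_mem a.2 b.2.1) (hHL h'.2)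
        · rw [hh, hh', show ((a : G) * h)⁻¹ * ((a : G) * b * h') =
            ((h⁻¹ : H) : G) * ((b : G) * h') by rw [Subgroup.coe_inv]; group, hnear, mul_assoc,
            hcen z hzZ _ h'.2, ← mul_assoc, hbc, mul_assoc]
      · refine Prod.ext (Subtype.ext ?_) (Subtype.ext ?_)
        · show ((a : G) : G ⧸ H).out * ((h⁻¹ : H) : G) = a
          rw [hh, Subgroup.coe_inv, mul_inv_cancel_right]
        · show (((a : G) : G ⧸ H).out * ((h⁻¹ : H) : G))⁻¹ *
            ((((a : G) * b : G) : G ⧸ H).out * ((h'⁻¹ : H) : G)) = b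
          rw [hh, hh', Subgroup.coe_inv, Subgroup.coe_inv, mul_inv_cancel_right, mul_inv_cancel_right,
            inv_mul_cancel_left]
  · show (D.card : ℂ) * _ = _
    rw [h₁, h₂, hB1, hB2] at htot
    linear_combination -htot

include hHL hTI hZH hcen hZL hreg hodd in
/-- The congruence. -/
theorem index_mul_sub (χ : Cfsg.IrrCharacter G) {c : ℂ} (hc : ∀ z ∈ Z, z ≠ 1 → (χ : G → ℂ) z = c)
    (hZ : Z ≠ ⊥) :
    ∃ w : ℂ, IsIntegral ℤ w ∧
      ((H.subgroupOf L).index : ℂ) * ((χ : G → ℂ) 1 - c) = (Nat.card H : ℂ) * w := by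
  obtain ⟨z, hzZ, hz1⟩ : ∃ z ∈ Z, z ≠ (1 : G) := by
    by_contra! h
    exact hZ ((Subgroup.eq_bot_iff_forall Z).2 h)
  obtain ⟨k, w, hw, hk, hkey⟩ := card_mul_sub hHL hTI hZH hcen hZL hodd χ hc hzZ hz1
  refine ⟨w, hw, ?_⟩
  have hcent : L ⊓ Subgroup.centralizer ({z} : Set G) = H := by
    refine le_antisymm (fun l hl => hreg z hzZ hz1 l hl.1
      (Subgroup.mem_centralizer_singleton_iff.1 hl.2)) fun h hh => ⟨hHL hh,
        Subgroup.mem_centralizer_singleton_iff.2 (hcen z hzZ h hh)⟩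
  have hLH : Nat.card H * (H.subgroupOf L).index = Nat.card L := by
    rw [← (H.subgroupOf L).card_mul_index,
      Nat.card_congr (Subgroup.subgroupOfEquivOfLe hHL).toEquiv]
  rw [hcent, ← hLH] at hk
  have hke : k = (H.subgroupOf L).index := by
    refine Nat.eq_of_mul_eq_mul_right (pow_pos (Nat.card_pos (α := H)) 2) ?_
    rw [hk]; ring
  rwa [hke] at hkey

end Cfsg.Agent.Lib.Isometry.TICongruence
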