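import Cfsg.Agent.Lib.Isometry.FeitCoherence
import Cfsg.Agent.Lib.Isometry.FrobeniusTI
import Cfsg.Agent.Lib.Isometry.TICongruence

/-!
# Coherence for a TI Frobenius group of odd order

`coherent_odd`: if `L` is a Frobenius group of odd order whose kernel is a TI subgroup of `G` with
respect to `L`, the characters of `L` not trivial on the kernel are coherent for induction to `G`.
-/

set_option autoImplicit false
set_option linter.unusedSectionVars false

namespace Cfsg.Agent.Lib.Isometry.SibleyOdd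

open scoped ComplexConjugate Classical commutatorElement
open Cfsg.Agent.Lib.Isometry.Inner Cfsg.Agent.Lib.Isometry.Coherence Cfsg.Agent.Lib.Isometry.Inflate
open Cfsg.Agent.Lib.Isometry.Layers Cfsg.Agent.Lib.Isometry.FrobeniusTI
open Cfsg.Agent.Lib.Induced.Basic (classInner_add_left classInner_add_right classInner_sub_left
  classInner_sub_right classInner_smul_left classInner_smul_right classInner_conj_symm)
open Cfsg.Agent.Lib.Characters.Basic (classInner_sum_left classInner_sum_right)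

universe u

theorem dvd_of_mul_isIntegral {a b t : ℤ} {w : ℂ} (hw : IsIntegral ℤ w) (ht : t ≠ 0)
    (h : (t : ℂ) * w = (a : ℂ) * (b : ℂ)) : t ∣ a * b := by
  have hq : w = ((((a * b : ℤ) : ℚ) / (t : ℚ) : ℚ) : ℂ) := by
    have : (t : ℂ) ≠ 0 := Int.cast_ne_zero.2 ht
    push_cast
    rw [eq_div_iff this, mul_comm, h]
  rw [hq] at hw
  obtain ⟨j, hj⟩ := (IsIntegrallyClosed.isIntegral_iff (R := ℤ) (K := ℚ)).1
    ((isIntegral_algebraMap_iff (R := ℤ) (A := ℚ) (B := ℂ) (algebraMap ℚ ℂ).injective).1 hw)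
  refine ⟨j, ?_⟩
  have ht' : (t : ℚ) ≠ 0 := Int.cast_ne_zero.2 ht
  rw [eq_div_iff ht'] at hj
  have : j * t = a * b := by
    have h' : ((j * t : ℤ) : ℚ) = ((a * b : ℤ) : ℚ) := by
      rw [← hj]; simp
    exact_mod_cast h'
  rw [← this, mul_comm]

variable {G : Type u} [Group G] [Fintype G] {L H : Subgroup G} [(H.subgroupOf L).Normal]
  (hHL : H ≤ L) (hTI : ∀ g ∉ L, ∀ t ∈ H, g * t * g⁻¹ ∈ H → t = 1)
  (hC : ∀ n ∈ H.subgroupOf L, n ≠ 1 → Subgroup.centralizer ({n} : Set L) ≤ H.subgroupOf L)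

include hTI hC in
theorem ind_isometry :
    Cfsg.IsLinearIsometryOn
      (Cfsg.zspanOn (↑(Inflate.layer (H.subgroupOf L) ⊥) : Set (L → ℂ)) {1}ᶜ) (Cfsg.indFun L) :=
  ⟨fun a _ b _ => Induced.Basic.indFun_add L a b,
    fun a _ n => by rw [zsmul_eq, zsmul_eq, Induced.Basic.indFun_smul],
    fun a ha b hb => classInner_indFun hTI (supp_zspanOn hC ha) (supp_zspanOn hC hb),
    fun a ha => gen_indFun (fun χ hχ => Characters.Basic.IsCharacter_of_isIrrCharacter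
      (Layers.isIrr (Finset.mem_coe.1 hχ))) ha.1⟩

set_option maxHeartbeats 3200000 in
include hHL hTI hC in
/-- Coherence in odd order. -/
theorem coherent_odd (hodd : Odd (Nat.card L)) (hK : H.subgroupOf L ≠ ⊥)
    (htop : H.subgroupOf L ≠ ⊤) :
    Cfsg.IsCoherent (↑(Inflate.layer (H.subgroupOf L) ⊥) : Set (L → ℂ)) {1}ᶜ (Cfsg.indFun L) := by
  obtain ⟨R, hS⟩ := exists_system hTI hC hodd hK
  set K := H.subgroupOf L with hKdef
  have hτ := ind_isometry hTI hC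
  have hτ1 : ∀ α ∈ Cfsg.zspanOn (↑(Inflate.layer K ⊥) : Set (L → ℂ)) {1}ᶜ,
      Cfsg.indFun L α 1 = 0 := fun a ha => indFun_one_eq_zero (mem_zspanOn_one.1 ha).2
  have hcrit := FeitCoherence.coherent_of_criterion hC hτ hτ1 hK htop
  haveI := fun m => lcs_normal (K := K) m
  set e := K.index with he
  have he0 : 0 < e := Nat.pos_of_ne_zero Subgroup.index_ne_zero_of_finite
  have hoddK : Odd (Nat.card K) := hodd.of_dvd_nat (Subgroup.card_subgroup_dvd_card K)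
  have hodde : Odd e := hodd.of_dvd_nat (Subgroup.index_dvd_card K)
  have hK1 : Nat.card K ≠ 1 := fun h => hK (Subgroup.card_eq_one.1 h)
  have hKmod : Nat.card K ≡ 1 [MOD e] := by
    have h := relIndex_modEq hC ⊥ bot_le
    rwa [Subgroup.relIndex_bot_left] at h
  by_cases hpp : ∃ p a : ℕ, p.Prime ∧ Nat.card K = p ^ a
  swap
  · exact hcrit (Or.inr (Or.inl ⟨by
      have : e ≠ 1 := fun h => htop (Subgroup.index_eq_one.1 h)
      omega, hpp⟩))
  by_cases hab : ∀ a ∈ K, ∀ b ∈ K, a * b = b * a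
  · exact hcrit (Or.inl ⟨hab, two_mul_add_one_le hoddK hodde hK1 hKmod⟩)
  obtain ⟨p, a, hp, hcard⟩ := hpp
  haveI := Fact.mk hp
  have hp2 : p ≠ 2 := by
    rintro rfl
    rcases Nat.eq_zero_or_pos a with rfl | ha
    · exact hK1 (by simpa using hcard)
    · exact Nat.not_even_iff_odd.2 (hcard ▸ hoddK) (Nat.even_pow.2 ⟨even_two, ha.ne'⟩)
  -- the last term of the lower central series
  set W := K.lowerCentralSeries with hW
  have hex : ∃ m, W m = ⊥ :=
    (Subgroup.isNilpotent_iff_lowerCentralSeries K).1 (isNilpotent_kernel hC htop)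
  have hW1 : W 1 ≠ ⊥ := by
    intro h
    refine hab fun x hx y hy => ?_
    have h' : ⁅x, y⁆ ∈ W 1 := by
      rw [hW, Subgroup.lowerCentralSeries_succ, Subgroup.lowerCentralSeries_zero]
      exact Subgroup.commutator_mem_commutator hx hy
    rw [h, Subgroup.mem_bot] at h'
    exact commutatorElement_eq_one_iff_mul_comm.1 h'
  set n := Nat.find hex with hn_def
  have hn : W n = ⊥ := Nat.find_spec hex
  have hn2 : 2 ≤ n := by
    by_contra hlt
    exact hW1 (le_bot_iff.1 (hn ▸ K.lowerCentralSeries_antitone (show n ≤ 1 by omega)))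
  set Z := W (n - 1) with hZ
  have hZne : Z ≠ ⊥ := Nat.find_min hex (show n - 1 < n by omega)
  have hZW : Z ≤ W 1 := K.lowerCentralSeries_antitone (show 1 ≤ n - 1 by omega)
  have hWK : W 1 < K := FeitCoherence.lcs_one_lt hC hK htop
  have hZK : Z ≤ K := hZW.trans hWK.le
  have hZc : ⁅Z, K⁆ ≤ ⊥ := by
    have h : W (n - 1 + 1) = ⁅Z, K⁆ := Subgroup.lowerCentralSeries_succ K (n - 1)
    rw [← h, show n - 1 + 1 = n by omega, hn]
  -- the two layers
  set S₀ := Inflate.layer K (W 1) with hS₀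
  set S₁ := Inflate.layer Z ⊥ with hS₁
  have hsub0 : S₀ ⊆ Inflate.layer K ⊥ := layer_subset le_rfl
  have hsub1 : S₁ ⊆ Inflate.layer K ⊥ := layer_subset hZK
  have hlarge : 2 * e + 1 ≤ (W 1).relIndex K := by
    refine two_mul_add_one_le (hoddK.of_dvd_nat (Subgroup.index_dvd_card _)) hodde
      (fun h => hWK.not_ge (Subgroup.relIndex_eq_one.1 h)) (relIndex_modEq hC _ hWK.le)
  obtain ⟨hcoh0, hdeg0⟩ := FeitCoherence.coherent_derived hC hτ hτ1 hWK hlarge
  obtain ⟨-, T₀, hT₀, hag0⟩ := hcoh0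
  obtain ⟨-, T₁, hT₁, hag1⟩ :=
    coherent_layer_pGroup hC hS hp hp2 hcard hZK (bot_lt_iff_ne_bot.2 hZne) hZc
  have hsig : ∀ {A B : Subgroup L} [A.Normal] [B.Normal] {T : (L → ℂ) → (G → ℂ)},
      Cfsg.IsLinearIsometryOn (Cfsg.zspan (↑(Inflate.layer A B) : Set (L → ℂ))) T →
      ∀ ξ ∈ Inflate.layer A B, Cfsg.IsIrrCharacter G (T ξ) ∨ Cfsg.IsIrrCharacter G (-T ξ) :=
    fun hT ξ h => signed_of_norm_one (hT.2.2.2 _ (subset_zspan _ (Finset.mem_coe.2 h)))
      (by rw [hT.2.2.1 _ (subset_zspan _ (Finset.mem_coe.2 h)) _ (subset_zspan _ (Finset.mem_coe.2 h)),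
        layer_norm h])
  have hs0 := hsig hT₀
  have hs1 := hsig hT₁
  have hirr : ∀ χ ∈ Inflate.layer K ⊥, ∀ η ∈ Inflate.layer K ⊥,
      Cfsg.classInner χ η = if χ = η then 1 else 0 :=
    fun χ h η h' => classInner_irr_eq (isIrr h) (isIrr h')
  have hcj : ∀ {χ : L → ℂ}, χ ∈ Inflate.layer K ⊥ → Cfsg.conjFun χ ≠ χ := fun h =>
    hS.conj_ne _ (Finset.mem_coe.2 h)
  have hin0 : ∀ ξ ∈ S₀, ∀ η ∈ S₀, Cfsg.classInner (T₀ ξ) (T₀ η) = if ξ = η then 1 else 0 :=
    fun ξ h η h' => by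
      rw [hT₀.2.2.1 _ (subset_zspan _ (Finset.mem_coe.2 h)) _ (subset_zspan _ (Finset.mem_coe.2 h')),
        hirr ξ (hsub0 h) η (hsub0 h')]
  have hin1 : ∀ ξ ∈ S₁, ∀ η ∈ S₁, Cfsg.classInner (T₁ ξ) (T₁ η) = if ξ = η then 1 else 0 :=
    fun ξ h η h' => by
      rw [hT₁.2.2.1 _ (subset_zspan _ (Finset.mem_coe.2 h)) _ (subset_zspan _ (Finset.mem_coe.2 h')),
        hirr ξ (hsub1 h) η (hsub1 h')]
  have hd0 : ∀ ξ ∈ S₀, ∀ η ∈ S₀, ξ - η ∈ Cfsg.zspanOn (↑S₀ : Set (L → ℂ)) {1}ᶜ := fun ξ h η h' =>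
    mem_zspanOn_one.2 ⟨zspan_sub (subset_zspan _ h) (subset_zspan _ h'), by
      rw [Pi.sub_apply, (mdeg_spec hC (hsub0 h)).1, (mdeg_spec hC (hsub0 h')).1, hdeg0 ξ h,
        hdeg0 η h', sub_self]⟩
  have hdc1 : ∀ φ ∈ S₁, φ - Cfsg.conjFun φ ∈ Cfsg.zspanOn (↑S₁ : Set (L → ℂ)) {1}ᶜ := fun φ h =>
    mem_zspanOn_one.2 ⟨zspan_sub (subset_zspan _ h) (subset_zspan _ (conj_mem_layer h)), by
      rw [Pi.sub_apply, sys_conj_one hS (Finset.mem_coe.2 (hsub1 h)), sub_self]⟩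
  have hT0d : ∀ ξ ∈ S₀, ∀ η ∈ S₀, T₀ ξ - T₀ η = Cfsg.indFun L (ξ - η) := fun ξ h η h' => by
    rw [← hag0 _ (hd0 ξ h η h'), Criterion.span_iso_sub hT₀ (subset_zspan _ (Finset.mem_coe.2 h))
      (subset_zspan _ (Finset.mem_coe.2 h'))]
  have hT1d : ∀ φ ∈ S₁, T₁ φ - T₁ (Cfsg.conjFun φ) = Cfsg.indFun L (φ - Cfsg.conjFun φ) :=
    fun φ h => by
      rw [← hag1 _ (hdc1 φ h), Criterion.span_iso_sub hT₁ (subset_zspan _ (Finset.mem_coe.2 h))
        (subset_zspan _ (Finset.mem_coe.2 (conj_mem_layer h)))]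
  have hdisj : ∀ ξ ∈ S₀, ∀ φ ∈ S₁, ξ ≠ φ := by
    intro ξ hξ φ hφ e'
    obtain ⟨g, hg, hne⟩ := (mem_layer.1 hφ).2.2
    exact hne (e' ▸ (mem_layer.1 hξ).2.1 g (hZW hg))
  have hcross : ∀ ξ ∈ S₀, ∀ φ ∈ S₁, Cfsg.classInner (T₀ ξ) (T₁ φ) = 0 := by
    intro ξ hξ φ hφ
    have hξ' : Cfsg.conjFun ξ ∈ S₀ := conj_mem_layer hξ
    have hφ' : Cfsg.conjFun φ ∈ S₁ := conj_mem_layer hφ
    refine orth_of_diff (hs0 ξ hξ) (hs0 _ hξ') (hs1 φ hφ) (hs1 _ hφ')
      (by rw [hin0 ξ hξ _ hξ', if_neg (hcj (hsub0 hξ)).symm])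
      (by rw [hin1 φ hφ _ hφ', if_neg (hcj (hsub1 hφ)).symm]) ?_ ?_ ?_
    · have := congrFun (hT0d ξ hξ _ hξ') 1
      rwa [indFun_one_eq_zero (mem_zspanOn_one.1 (hd0 ξ hξ _ hξ')).2, Pi.sub_apply, sub_eq_zero] at this
    · have := congrFun (hT1d φ hφ) 1
      rwa [indFun_one_eq_zero (mem_zspanOn_one.1 (hdc1 φ hφ)).2, Pi.sub_apply, sub_eq_zero] at this
    · rw [hT0d ξ hξ _ hξ', hT1d φ hφ, hτ.2.2.1 _ (zspanOn_mono _ (Finset.coe_subset.2 hsub0)
        (hd0 ξ hξ _ hξ')) _ (zspanOn_mono _ (Finset.coe_subset.2 hsub1) (hdc1 φ hφ))]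
      simp only [classInner_sub_left, classInner_sub_right, hirr _ (hsub0 hξ) _ (hsub1 hφ),
        hirr _ (hsub0 hξ) _ (hsub1 hφ'), hirr _ (hsub0 hξ') _ (hsub1 hφ),
        hirr _ (hsub0 hξ') _ (hsub1 hφ'), if_neg (hdisj ξ hξ φ hφ), if_neg (hdisj ξ hξ _ hφ'),
        if_neg (hdisj _ hξ' φ hφ), if_neg (hdisj _ hξ' _ hφ'), sub_self]
  -- the base characters
  obtain ⟨ζ, hζ⟩ := layer_nonempty hWK
  obtain ⟨φ₁, hφ₁, hmin⟩ := Finset.exists_min_image S₁ (mdeg K)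
    (layer_nonempty (bot_lt_iff_ne_bot.2 hZne))
  set t := mdeg K φ₁ with ht
  have ht0 : 0 < t := (mdeg_spec hC (hsub1 hφ₁)).2.1
  have hwex : ∀ η, ∃ w : ℕ, η ∈ S₁ → mdeg K η = t * w ∧ 0 < w := by
    intro η
    by_cases h : η ∈ S₁
    · obtain ⟨s, hs⟩ := mdeg_eq_pow hC hp hcard (hsub1 hφ₁)
      obtain ⟨s', hs'⟩ := mdeg_eq_pow hC hp hcard (hsub1 h)
      have hle := hmin η h
      rw [ht, hs, hs', Nat.pow_le_pow_iff_right hp.one_lt] at hle
      exact ⟨p ^ (s' - s), fun _ => ⟨by rw [ht, hs, hs', ← pow_add, Nat.add_sub_cancel' hle],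
        pow_pos hp.pos _⟩⟩
    · exact ⟨0, fun h' => absurd h' h⟩
  choose w hw using hwex
  have hw1 : w φ₁ = 1 := by
    have := (hw φ₁ hφ₁).1
    exact (Nat.eq_of_mul_eq_mul_left ht0 (by rw [mul_one]; exact this.symm))
  set α := φ₁ - ((t : ℤ) : ℂ) • ζ with hα
  have hζ1 : ζ 1 = (e : ℂ) := by rw [(mdeg_spec hC (hsub0 hζ)).1, hdeg0 ζ hζ, mul_one]
  have hαm : α ∈ Cfsg.zspanOn (↑(Inflate.layer K ⊥) : Set (L → ℂ)) {1}ᶜ :=
    mem_zspanOn_one.2 ⟨zspan_sub (subset_zspan _ (hsub1 hφ₁))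
      (zspan_smul _ (subset_zspan _ (hsub0 hζ))), by
        rw [hα, Pi.sub_apply, Pi.smul_apply, smul_eq_mul, hζ1, (mdeg_spec hC (hsub1 hφ₁)).1]
        push_cast; ring⟩
  set D := Cfsg.indFun L α with hD
  have hDgen : Cfsg.IsGeneralizedCharacter G D := hτ.2.2.2 _ hαm
  have hDD : Cfsg.classInner D D = 1 + (t : ℂ) * t := by
    rw [hD, hτ.2.2.1 _ hαm _ hαm, hα]
    simp only [classInner_sub_left, classInner_sub_right, classInner_smul_left,
      classInner_smul_right, map_intCast, hirr _ (hsub1 hφ₁) _ (hsub1 hφ₁),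
      hirr _ (hsub1 hφ₁) _ (hsub0 hζ), hirr _ (hsub0 hζ) _ (hsub1 hφ₁),
      hirr _ (hsub0 hζ) _ (hsub0 hζ), if_pos rfl, if_neg (hdisj ζ hζ φ₁ hφ₁),
      if_neg (hdisj ζ hζ φ₁ hφ₁).symm]
    push_cast; ring
  -- coefficients on the first layer
  choose cf hcf using fun χ : {χ // χ ∈ S₀} => classInner_gen_int hDgen (gen_of_signed (hs0 χ.1 χ.2))
  obtain ⟨A, hA⟩ : ∃ A : ℤ, ∀ ξ ∈ S₀,
      Cfsg.classInner D (T₀ ξ) = ((A - if ξ = ζ then (t : ℤ) else 0 : ℤ) : ℂ) := by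
    refine ⟨cf ⟨ζ, hζ⟩ + t, fun ξ hξ => ?_⟩
    by_cases h : ξ = ζ
    · rw [if_pos h, h, hcf ⟨ζ, hζ⟩]; push_cast; ring
    have h1 : Cfsg.classInner D (T₀ ξ - T₀ ζ) = (t : ℂ) := by
      rw [hT0d ξ hξ ζ hζ, hD, hτ.2.2.1 _ hαm _
        (zspanOn_mono _ (Finset.coe_subset.2 hsub0) (hd0 ξ hξ ζ hζ)), hα]
      simp only [classInner_sub_left, classInner_sub_right, classInner_smul_left,
        hirr _ (hsub1 hφ₁) _ (hsub0 hξ), hirr _ (hsub1 hφ₁) _ (hsub0 hζ),
        hirr _ (hsub0 hζ) _ (hsub0 hξ), hirr _ (hsub0 hζ) _ (hsub0 hζ), if_pos rfl,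
        if_neg (hdisj ξ hξ φ₁ hφ₁).symm, if_neg (hdisj ζ hζ φ₁ hφ₁).symm, if_neg (Ne.symm h)]
      push_cast; ring
    rw [classInner_sub_right, hcf ⟨ζ, hζ⟩] at h1
    rw [if_neg h]; push_cast
    linear_combination h1
  -- coefficients on the second layer
  obtain ⟨B₀, hB₀⟩ := classInner_gen_int hDgen (gen_of_signed (hs1 φ₁ hφ₁))
  have hd1 : ∀ η ∈ S₁, ((w η : ℤ) : ℂ) • φ₁ - η ∈ Cfsg.zspanOn (↑S₁ : Set (L → ℂ)) {1}ᶜ :=
    fun η h => mem_zspanOn_one.2 ⟨zspan_sub (zspan_smul _ (subset_zspan _ hφ₁)) (subset_zspan _ h),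
      by rw [Pi.sub_apply, Pi.smul_apply, smul_eq_mul, (mdeg_spec hC (hsub1 hφ₁)).1,
           (mdeg_spec hC (hsub1 h)).1, (hw η h).1, ← ht]
         push_cast; ring⟩
  have hT1w : ∀ η ∈ S₁, ((w η : ℤ) : ℂ) • T₁ φ₁ - T₁ η =
      Cfsg.indFun L (((w η : ℤ) : ℂ) • φ₁ - η) := fun η h => by
    rw [← hag1 _ (hd1 η h), Criterion.span_iso_sub hT₁ (zspan_smul _ (subset_zspan _ hφ₁))
      (subset_zspan _ (Finset.mem_coe.2 h)),
      Criterion.span_iso_smul hT₁ (subset_zspan _ (Finset.mem_coe.2 hφ₁))]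
  set B := B₀ - 1 with hBdef
  have hB : ∀ η ∈ S₁,
      Cfsg.classInner D (T₁ η) = (((w η : ℤ) * B + if η = φ₁ then 1 else 0 : ℤ) : ℂ) := by
    intro η hη
    have h1 : Cfsg.classInner D (((w η : ℤ) : ℂ) • T₁ φ₁ - T₁ η) =
        ((w η : ℂ)) - if η = φ₁ then 1 else 0 := by
      rw [hT1w η hη, hD, hτ.2.2.1 _ hαm _
        (zspanOn_mono _ (Finset.coe_subset.2 hsub1) (hd1 η hη)), hα]
      simp only [classInner_sub_left, classInner_sub_right, classInner_smul_left,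
        classInner_smul_right, map_intCast, hirr _ (hsub1 hφ₁) _ (hsub1 hφ₁),
        hirr _ (hsub1 hφ₁) _ (hsub1 hη), hirr _ (hsub0 hζ) _ (hsub1 hφ₁),
        hirr _ (hsub0 hζ) _ (hsub1 hη), if_neg (hdisj ζ hζ φ₁ hφ₁),
        if_neg (hdisj ζ hζ η hη)]
      simp [eq_comm]
    rw [classInner_sub_right, classInner_smul_right, hB₀, map_intCast] at h1
    rw [hBdef]
    split_ifs at h1 ⊢ <;> push_cast at h1 ⊢ <;> linear_combination -h1
  -- the congruence
  obtain ⟨hta : (t : ℤ) ∣ A⟩ : (t : ℤ) ∣ A ∧ True := by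
    refine ⟨?_, trivial⟩
    set ζ' := Cfsg.conjFun ζ with hζ'
    have hζ'm : ζ' ∈ S₀ := conj_mem_layer hζ
    set ψ := T₀ ζ' with hψ
    have hψgen := gen_of_signed (hs0 ζ' hζ'm)
    have hψcl := gen_classFun hψgen
    set f : L → ℂ := fun x => ψ x with hf
    have hrec : ∀ χ : L → ℂ, Cfsg.classInner ψ (Cfsg.indFun L χ) = Cfsg.classInner f χ :=
      fun χ => Induced.Basic.frobenius_reciprocity' L χ hψcl
    have hint : ∀ χ ∈ Inflate.layer K ⊥, ∃ k : ℤ, Cfsg.classInner f χ = k := fun χ hχ => by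
      rw [← hrec]
      exact classInner_gen_int hψgen (gen_of_isCharacter (Induced.Character.isCharacter_indFun L
        (Characters.Basic.IsCharacter_of_isIrrCharacter (isIrr hχ))))
    obtain ⟨a₁, ha₁⟩ := hint φ₁ (hsub1 hφ₁)
    obtain ⟨b₁, hb₁⟩ := hint ζ (hsub0 hζ)
    have hAeq : A = a₁ - t * b₁ := by
      have h := hA ζ' hζ'm
      rw [if_neg (hcj (hsub0 hζ)), sub_zero, classInner_gen_comm hDgen hψgen, hD, hα,
        Induced.Basic.indFun_sub, Induced.Basic.indFun_smul, classInner_sub_right,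
        classInner_smul_right, map_intCast, hrec, hrec, ha₁, hb₁] at h
      exact_mod_cast h.symm
    suffices h : (t : ℤ) ∣ a₁ by rw [hAeq]; exact dvd_sub h (dvd_mul_right _ _)
    have haη : ∀ η ∈ S₁, Cfsg.classInner f η = ((w η : ℤ) : ℂ) * a₁ := by
      intro η hη
      have h : Cfsg.classInner ψ (Cfsg.indFun L (((w η : ℤ) : ℂ) • φ₁ - η)) = 0 := by
        rw [← hT1w η hη, classInner_sub_right, classInner_smul_right, hψ,
          hcross ζ' hζ'm φ₁ hφ₁, hcross ζ' hζ'm η hη, mul_zero, sub_zero]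
      rw [hrec, classInner_sub_right, classInner_smul_right, map_intCast, ha₁, sub_eq_zero] at h
      exact h.symm
    -- `f` on `Z`
    have hkey : ∀ z ∈ Z, z ≠ 1 → (t : ℂ) * (f 1 - f z) = (a₁ : ℂ) * (Nat.card K : ℂ) := by
      intro z hz hz1
      have hexp := expansion (restr_isClassFunction (L := L) hψcl)
      have e1 : f 1 - f z = ∑ χ ∈ trivOn (⊥ : Subgroup L), Cfsg.classInner f χ * (χ 1 - χ z) := by
        conv_lhs => rw [show f = _ from hexp]
        simp only [Finset.sum_apply, Pi.smul_apply, smul_eq_mul, mul_sub, Finset.sum_sub_distrib]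
        rfl
      rw [← Finset.sum_sdiff (trivOn_mono (bot_le : (⊥ : Subgroup L) ≤ Z)),
        Finset.sum_eq_zero (s := trivOn Z) (fun χ hχ => by
          rw [(mem_trivOn.1 hχ).2 z hz, sub_self, mul_zero]), add_zero] at e1
      have e2 : (t : ℂ) * (e : ℂ) * (f 1 - f z) =
          (a₁ : ℂ) * ∑ χ ∈ Inflate.layer Z ⊥, χ 1 * (χ 1 - χ z) := by
        rw [e1, Finset.mul_sum, Finset.mul_sum]
        refine Finset.sum_congr (by unfold Inflate.layer; congr!) fun η hη => ?_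
        rw [haη η hη, (mdeg_spec hC (hsub1 hη)).1, (hw η hη).1]
        push_cast; ring
      simp only [mul_sub, Finset.sum_sub_distrib] at e2
      rw [sum_sq_layer bot_le, sum_layer bot_le, if_pos hz,
        if_neg (fun h => hz1 (Subgroup.mem_bot.1 h)), Subgroup.index_bot,
        ← Subgroup.index_mul_card K, ← he] at e2
      refine mul_left_cancel₀ (Nat.cast_ne_zero.2 he0.ne' : (e : ℂ) ≠ 0) ?_
      push_cast at e2
      linear_combination e2
    set Z' := Z.map L.subtype with hZ'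
    have hZ'H : Z' ≤ H := by
      rintro _ ⟨z, hz, rfl⟩; exact hZK hz
    obtain ⟨ε, hε, χ, hχ⟩ : ∃ ε : ℂ, (ε = 1 ∨ ε = -1) ∧ ∃ χ : Cfsg.IrrCharacter G,
        (χ : G → ℂ) = ε • ψ := by
      rcases hs0 ζ' hζ'm with h | h
      · exact ⟨1, Or.inl rfl, ⟨ψ, h⟩, (one_smul _ _).symm⟩
      · exact ⟨-1, Or.inr rfl, ⟨-ψ, h⟩, by simp⟩
    have ht' : (t : ℂ) ≠ 0 := Nat.cast_ne_zero.2 ht0.ne'
    obtain ⟨w', hw', heq⟩ := TICongruence.index_mul_sub (L := L) (H := H) hHL hTI (Z := Z') hZ'H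
      (by
        rintro _ ⟨z, hz, rfl⟩ h hh
        have := hZc (Subgroup.commutator_mem_commutator hz (show (⟨h, hHL hh⟩ : L) ∈ K from hh))
        rw [Subgroup.mem_bot, commutatorElement_eq_one_iff_mul_comm] at this
        exact (congrArg Subtype.val this).symm)
      (by
        rintro l hl _ ⟨z, hz, rfl⟩
        exact ⟨⟨l, hl⟩ * z * ⟨l, hl⟩⁻¹, Subgroup.Normal.conj_mem inferInstance z hz _, rfl⟩)
      (by
        rintro _ ⟨z, hz, rfl⟩ hz1 l hl hc'
        have := hC z (hZK hz) (fun h => hz1 (by rw [h]; rfl))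
          (Subgroup.mem_centralizer_singleton_iff.2
            (Subtype.ext hc' : (⟨l, hl⟩ : L) * z = z * ⟨l, hl⟩))
        exact this)
      hodd χ (c := ε * (ψ 1 - (a₁ : ℂ) * (Nat.card K : ℂ) / t))
      (by
        rintro _ ⟨z, hz, rfl⟩ hz1
        rw [hχ, Pi.smul_apply, smul_eq_mul]
        congr 1
        have := hkey z hz (fun h => hz1 (by rw [h]; rfl))
        simp only [hf, OneMemClass.coe_one] at this
        show ψ (z : G) = _
        field_simp
        linear_combination -this)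
      (by
        rw [hZ', Ne, Subgroup.map_eq_bot_iff_of_injective _ L.subtype_injective]
        exact hZne)
    have hHK : Nat.card H = Nat.card K :=
      (Nat.card_congr (Subgroup.subgroupOfEquivOfLe hHL).toEquiv).symm
    rw [hHK, hχ, Pi.smul_apply, smul_eq_mul, ← hKdef, ← he] at heq
    have hK0 : (Nat.card K : ℂ) ≠ 0 := Nat.cast_ne_zero.2 Nat.card_pos.ne'
    have hmul : ((t : ℤ) : ℂ) * (ε * w') = (a₁ : ℂ) * ((e : ℤ) : ℂ) := by
      refine mul_left_cancel₀ hK0 ?_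
      have hεε : ε * ε = 1 := by rcases hε with h | h <;> simp [h]
      field_simp at heq
      push_cast
      linear_combination (-ε) * heq + ((a₁ : ℂ) * (Nat.card K : ℂ) * (e : ℂ)) * hεε
    have hdvd := dvd_of_mul_isIntegral ((show IsIntegral ℤ ε by
      rcases hε with h | h <;> rw [h]
      · exact isIntegral_one
      · exact isIntegral_one.neg).mul hw') (by exact_mod_cast ht0.ne') hmul
    have hcop : IsCoprime (t : ℤ) (e : ℤ) := by
      rw [Int.isCoprime_iff_nat_coprime]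
      exact (coprime_index hC).symm.coprime_dvd_left (mdeg_spec hC (hsub1 hφ₁)).2.2
    exact hcop.dvd_of_dvd_mul_right hdvd
  -- Bessel
  have hζc : Cfsg.conjFun ζ ∈ S₀ := conj_mem_layer hζ
  have hφc : Cfsg.conjFun φ₁ ∈ S₁ := conj_mem_layer hφ₁
  let F : (L → ℂ) → (G → ℂ) := fun χ => if χ ∈ S₀ then T₀ χ else T₁ χ
  let cF : (L → ℂ) → ℤ := fun χ => if χ ∈ S₀ then A - (if χ = ζ then (t : ℤ) else 0)
    else (w χ : ℤ) * B + if χ = φ₁ then 1 else 0
  have hF0 : ∀ χ ∈ S₀, F χ = T₀ χ := fun χ h => if_pos h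
  have hF1 : ∀ χ ∈ S₁, F χ = T₁ χ := fun χ h => if_neg fun h' => hdisj χ h' χ h rfl
  have hcF0 : ∀ χ ∈ S₀, cF χ = A - (if χ = ζ then (t : ℤ) else 0) := fun χ h => if_pos h
  have hcF1 : ∀ χ ∈ S₁, cF χ = (w χ : ℤ) * B + if χ = φ₁ then 1 else 0 := fun χ h =>
    if_neg fun h' => hdisj χ h' χ h rfl
  have hFin : ∀ χ ∈ S₀ ∪ S₁, ∀ η ∈ S₀ ∪ S₁,
      Cfsg.classInner (F χ) (F η) = if χ = η then 1 else 0 := by
    intro χ hχ η hη
    rcases Finset.mem_union.1 hχ with h | h <;> rcases Finset.mem_union.1 hη with h' | h'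
    · rw [hF0 χ h, hF0 η h', hin0 χ h η h']
    · rw [hF0 χ h, hF1 η h', hcross χ h η h', if_neg (hdisj χ h η h')]
    · rw [hF1 χ h, hF0 η h', ← classInner_conj_symm (T₀ η), hcross η h' χ h, map_zero,
        if_neg (hdisj η h' χ h).symm]
    · rw [hF1 χ h, hF1 η h', hin1 χ h η h']
  have hbes := bessel (S₀ ∪ S₁) F (fun _ => 1) (fun χ => (cF χ : ℝ)) D
    (fun i hi j hj h => by rw [hFin i hi j hj, if_neg h])
    (fun i hi => by rw [hFin i hi i hi, if_pos rfl, Complex.ofReal_one])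
    (fun _ _ => one_ne_zero) (fun i hi => by
      rcases Finset.mem_union.1 hi with h | h
      · rw [hF0 i h, hA i h, hcF0 i h]; split_ifs <;> push_cast <;> ring
      · rw [hF1 i h, hB i h, hcF1 i h]; split_ifs <;> push_cast <;> ring)
  simp only [div_one] at hbes
  set k₀ := S₀.card with hk₀
  set Wt := ∑ η ∈ S₁, w η ^ 2 with hWt
  have hsumc : ∑ χ ∈ S₀ ∪ S₁, cF χ ^ 2 =
      ((k₀ : ℤ) * A ^ 2 - 2 * t * A + t ^ 2) + ((Wt : ℤ) * B ^ 2 + 2 * B + 1) := by
    rw [Finset.sum_union (Finset.disjoint_left.2 fun χ h h' => hdisj χ h χ h' rfl)]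
    congr 1
    · rw [Finset.sum_congr rfl (g := fun χ => A ^ 2 - if χ = ζ then 2 * (t : ℤ) * A - t ^ 2 else 0)
        fun χ h => by rw [hcF0 χ h]; split_ifs <;> ring, Finset.sum_sub_distrib, Finset.sum_const,
        Finset.sum_ite_eq', if_pos hζ, nsmul_eq_mul]
      ring
    · rw [Finset.sum_congr rfl (g := fun χ => (w χ : ℤ) ^ 2 * B ^ 2 +
          if χ = φ₁ then 2 * B + 1 else 0) fun χ h => by
          rw [hcF1 χ h]
          split_ifs with e'
          · subst e'; rw [hw1]; push_cast; ring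
          · ring, Finset.sum_add_distrib, ← Finset.sum_mul, Finset.sum_ite_eq', if_pos hφ₁]
      rw [hWt]; push_cast; ring
  have hres0 := classInner_self_re_nonneg (D - ∑ i ∈ S₀ ∪ S₁, ((cF i : ℝ) : ℂ) • F i)
  rw [hbes, hDD, Complex.sub_re, Complex.ofReal_re] at hres0
  have hineq : (k₀ : ℤ) * A ^ 2 - 2 * t * A + ((Wt : ℤ) * B ^ 2 + 2 * B) ≤ 0 := by
    have h : ((∑ χ ∈ S₀ ∪ S₁, cF χ ^ 2 : ℤ) : ℝ) ≤ 1 + (t : ℝ) * t := by
      push_cast
      simpa using hres0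
    rw [hsumc] at h
    have h' : ((k₀ : ℤ) * A ^ 2 - 2 * t * A + t ^ 2) + ((Wt : ℤ) * B ^ 2 + 2 * B + 1) ≤
        1 + (t : ℤ) * t := by exact_mod_cast h
    linarith
  have hk2 : 2 ≤ k₀ := by
    rw [hk₀, ← Finset.card_pair (hcj (hsub0 hζ)).symm]
    exact Finset.card_le_card (Finset.insert_subset hζ (Finset.singleton_subset_iff.2 hζc))
  have hW2 : 2 ≤ Wt := by
    have : S₁.card ≤ Wt := by
      rw [Finset.card_eq_sum_ones]
      exact Finset.sum_le_sum fun η h => Nat.one_le_pow _ _ (hw η h).2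
    refine le_trans ?_ this
    rw [← Finset.card_pair (hcj (hsub1 hφ₁)).symm]
    exact Finset.card_le_card (Finset.insert_subset hφ₁ (Finset.singleton_subset_iff.2 hφc))
  have hk2' : (2 : ℤ) ≤ k₀ := by exact_mod_cast hk2
  have hW2' : (2 : ℤ) ≤ Wt := by exact_mod_cast hW2
  have hBnn : 0 ≤ B * (B + 1) := by
    rcases le_or_gt 0 B with h | h
    · positivity
    · exact mul_nonneg_of_nonpos_of_nonpos h.le (by omega)
  have hBpart : 0 ≤ (Wt : ℤ) * B ^ 2 + 2 * B := by nlinarith [mul_nonneg (sub_nonneg.2 hW2') (sq_nonneg B)]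
  have htpos : (0 : ℤ) < t := by exact_mod_cast ht0
  have hAcases : A = 0 ∨ (A = t ∧ k₀ = 2) := by
    obtain ⟨j, hj⟩ := hta
    subst hj
    have h : (t : ℤ) ^ 2 * ((k₀ : ℤ) * j ^ 2 - 2 * j) ≤ 0 := by nlinarith
    have h' : (k₀ : ℤ) * j ^ 2 - 2 * j ≤ 0 := by
      by_contra hc
      have := mul_pos (pow_pos htpos 2) (not_le.1 hc)
      linarith
    have hj01 : j = 0 ∨ j = 1 := by
      rcases lt_trichotomy j 0 with h0 | h0 | h0
      · nlinarith
      · exact Or.inl h0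
      · right; nlinarith
    rcases hj01 with rfl | rfl
    · exact Or.inl (mul_zero _)
    · exact Or.inr ⟨mul_one _, by omega⟩
  have hAzero : (k₀ : ℤ) * A ^ 2 - 2 * t * A = 0 := by
    rcases hAcases with rfl | ⟨rfl, h⟩
    · ring
    · rw [h]; push_cast; ring
  have hBcases : B = 0 ∨ (B = -1 ∧ Wt = 2) := by
    have h1 : B * (B + 1) = 0 := le_antisymm (by
      nlinarith [mul_nonneg (sub_nonneg.2 hW2') (sq_nonneg B)]) hBnn
    rcases mul_eq_zero.1 h1 with h | h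
    · exact Or.inl h
    · have hm : B = -1 := by linarith
      refine Or.inr ⟨hm, ?_⟩
      rw [hm] at hBpart hineq
      have : (Wt : ℤ) ≤ 2 := by nlinarith
      omega
  have hDeq : D = ∑ i ∈ S₀ ∪ S₁, (cF i : ℂ) • F i := by
    have h0 : D - ∑ i ∈ S₀ ∪ S₁, ((cF i : ℝ) : ℂ) • F i = 0 := by
      apply eq_zero_of_classInner_self
      rw [hbes, hDD]
      have hBzero : (Wt : ℤ) * B ^ 2 + 2 * B = 0 := by
        rcases hBcases with h | ⟨h, h'⟩
        · rw [h]; ring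
        · rw [h, h']; norm_num
      have : ∑ χ ∈ S₀ ∪ S₁, cF χ ^ 2 = 1 + (t : ℤ) * t := by rw [hsumc]; linarith
      rw [sub_eq_zero, show (1 : ℂ) + t * t = ((1 + (t : ℤ) * t : ℤ) : ℂ) by push_cast; rfl, ← this]
      push_cast; rfl
    rw [sub_eq_zero] at h0
    simpa using h0
  -- the images
  obtain ⟨g₀, hg₀⟩ : ∃ g : (L → ℂ) → (G → ℂ),
      (∀ χ ∈ S₀, Cfsg.IsIrrCharacter G (g χ) ∨ Cfsg.IsIrrCharacter G (-g χ)) ∧
      (∀ χ ∈ S₀, ∀ η ∈ S₀, Cfsg.classInner (g χ) (g η) = if χ = η then 1 else 0) ∧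
      (∀ χ ∈ S₀, ∀ φ ∈ S₁, Cfsg.classInner (g χ) (T₁ φ) = 0) ∧
      (∀ χ ∈ S₀, g χ - g ζ = Cfsg.indFun L (χ - ζ)) ∧
      ∑ i ∈ S₀, (cF i : ℂ) • F i = -((t : ℂ) • g ζ) := by
    rcases hAcases with hA0 | ⟨hAt, hk⟩
    · refine ⟨T₀, hs0, hin0, hcross, fun χ h => hT0d χ h ζ hζ, ?_⟩
      rw [Finset.sum_eq_single ζ (fun b hb hne => by rw [hcF0 b hb, if_neg hne, hA0]; simp)
        (fun h => absurd hζ h), hcF0 ζ hζ, if_pos rfl, hA0, hF0 ζ hζ]
      simp
    · have hS0 : S₀ = {ζ, Cfsg.conjFun ζ} := (Finset.eq_of_subset_of_card_le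
        (Finset.insert_subset hζ (Finset.singleton_subset_iff.2 hζc))
        (by rw [Finset.card_pair (hcj (hsub0 hζ)).symm, ← hk₀, hk])).symm
      refine ⟨fun χ => -T₀ (Cfsg.conjFun χ), fun χ h => ?_, fun χ h η h' => ?_,
        fun χ h φ hφ => ?_, fun χ h => ?_, ?_⟩
      · rw [neg_neg]; exact (hs0 _ (conj_mem_layer h)).symm
      · rw [classInner_neg_left, classInner_neg_right, neg_neg,
          hin0 _ (conj_mem_layer h) _ (conj_mem_layer h')]
        exact if_congr ⟨fun e' => by rw [← conjFun_conjFun χ, e', conjFun_conjFun],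
          fun e' => by rw [e']⟩ rfl rfl
      · rw [classInner_neg_left, hcross _ (conj_mem_layer h) φ hφ, neg_zero]
      · rw [hS0, Finset.mem_insert, Finset.mem_singleton] at h
        rcases h with rfl | rfl
        · rw [sub_self, sub_self, Induced.Basic.indFun_zero]
        · simp only [conjFun_conjFun]; rw [← hT0d _ hζc ζ hζ]; abel
      · rw [hS0, Finset.sum_pair (hcj (hsub0 hζ)).symm, hcF0 ζ hζ, hcF0 _ hζc, if_pos rfl,
          if_neg (hcj (hsub0 hζ)), hF0 _ hζc, hAt]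
        simp
  obtain ⟨g₁, hg₁⟩ : ∃ g : (L → ℂ) → (G → ℂ),
      (∀ χ ∈ S₁, Cfsg.IsIrrCharacter G (g χ) ∨ Cfsg.IsIrrCharacter G (-g χ)) ∧
      (∀ χ ∈ S₁, ∀ η ∈ S₁, Cfsg.classInner (g χ) (g η) = if χ = η then 1 else 0) ∧
      (∀ χ ∈ S₁, ∀ φ : G → ℂ, (∀ η ∈ S₁, Cfsg.classInner φ (T₁ η) = 0) →
        Cfsg.classInner φ (g χ) = 0) ∧
      (∀ χ ∈ S₁, ((w χ : ℤ) : ℂ) • g φ₁ - g χ = Cfsg.indFun L (((w χ : ℤ) : ℂ) • φ₁ - χ)) ∧
      ∑ i ∈ S₁, (cF i : ℂ) • F i = g φ₁ := by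
    rcases hBcases with hB0 | ⟨hBm, hW⟩
    · refine ⟨T₁, hs1, hin1, fun χ h φ hφ => hφ χ h, hT1w, ?_⟩
      rw [Finset.sum_eq_single φ₁ (fun b hb hne => by rw [hcF1 b hb, if_neg hne, hB0]; simp)
        (fun h => absurd hφ₁ h), hcF1 φ₁ hφ₁, if_pos rfl, hB0, hF1 φ₁ hφ₁]
      simp
    · have hpair : ({φ₁, Cfsg.conjFun φ₁} : Finset (L → ℂ)) ⊆ S₁ :=
        Finset.insert_subset hφ₁ (Finset.singleton_subset_iff.2 hφc)
      have hc2 : S₁.card ≤ 2 := by
        rw [← hW, Finset.card_eq_sum_ones]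
        exact Finset.sum_le_sum fun η h => Nat.one_le_pow _ _ (hw η h).2
      have hS1 : S₁ = {φ₁, Cfsg.conjFun φ₁} := (Finset.eq_of_subset_of_card_le hpair
        (by rw [Finset.card_pair (hcj (hsub1 hφ₁)).symm]; exact hc2)).symm
      have hwc : w (Cfsg.conjFun φ₁) = 1 := by
        have h : w φ₁ ^ 2 + w (Cfsg.conjFun φ₁) ^ 2 = 2 := by
          have h' := hW
          rw [hWt, hS1, Finset.sum_pair (hcj (hsub1 hφ₁)).symm] at h'
          exact h'
        rw [hw1] at h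
        nlinarith [(hw _ hφc).2]
      refine ⟨fun χ => -T₁ (Cfsg.conjFun χ), fun χ h => ?_, fun χ h η h' => ?_,
        fun χ h φ hφ => ?_, fun χ h => ?_, ?_⟩
      · rw [neg_neg]; exact (hs1 _ (conj_mem_layer h)).symm
      · rw [classInner_neg_left, classInner_neg_right, neg_neg,
          hin1 _ (conj_mem_layer h) _ (conj_mem_layer h')]
        exact if_congr ⟨fun e' => by rw [← conjFun_conjFun χ, e', conjFun_conjFun],
          fun e' => by rw [e']⟩ rfl rfl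
      · rw [classInner_neg_right, hφ _ (conj_mem_layer h), neg_zero]
      · rw [hS1, Finset.mem_insert, Finset.mem_singleton] at h
        rcases h with rfl | rfl
        · rw [hw1]; simp [Induced.Basic.indFun_zero]
        · rw [hwc]
          simp only [Nat.cast_one, Int.cast_one, one_smul, conjFun_conjFun]
          rw [← hT1d φ₁ hφ₁]; abel
      · rw [hS1, Finset.sum_pair (hcj (hsub1 hφ₁)).symm, hcF1 φ₁ hφ₁, hcF1 _ hφc, if_pos rfl,
          if_neg (hcj (hsub1 hφ₁)), hF1 _ hφc, hBm, hw1, hwc]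
        simp
  obtain ⟨hg0s, hg0in, hg0x, hg0d, hg0sum⟩ := hg₀
  obtain ⟨hg1s, hg1in, hg1x, hg1d, hg1sum⟩ := hg₁
  let g : (L → ℂ) → (G → ℂ) := fun χ => if χ ∈ S₀ then g₀ χ else g₁ χ
  have hgg0 : ∀ χ ∈ S₀, g χ = g₀ χ := fun χ h => if_pos h
  have hgg1 : ∀ χ ∈ S₁, g χ = g₁ χ := fun χ h => if_neg fun h' => hdisj χ h' χ h rfl
  have hsub : S₀ ∪ S₁ ⊆ Inflate.layer K ⊥ := Finset.union_subset hsub0 hsub1
  have hcoh : Cfsg.IsCoherent (↑(S₀ ∪ S₁) : Set (L → ℂ)) {1}ᶜ (Cfsg.indFun L) := by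
    refine coherent_of_images (fun χ hχ η hη h => by rw [hirr χ (hsub hχ) η (hsub hη), if_neg h])
      (fun χ hχ => sys_ne_zero hS (Finset.mem_coe.2 (hsub hχ))) g ?_ ?_
      ⟨ζ - Cfsg.conjFun ζ, zspanOn_mono _ (Finset.coe_subset.2 Finset.subset_union_left)
        (hd0 ζ hζ _ hζc), fun h => hcj (hsub0 hζ) (sub_eq_zero.1 h).symm⟩ ?_
    · intro χ hχ
      rcases Finset.mem_union.1 hχ with h | h
      · rw [hgg0 χ h]; exact gen_of_signed (hg0s χ h)
      · rw [hgg1 χ h]; exact gen_of_signed (hg1s χ h)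
    · intro χ hχ η hη
      rw [hirr χ (hsub hχ) η (hsub hη)]
      rcases Finset.mem_union.1 hχ with h | h <;> rcases Finset.mem_union.1 hη with h' | h'
      · rw [hgg0 χ h, hgg0 η h', hg0in χ h η h']
      · rw [hgg0 χ h, hgg1 η h', hg1x η h' _ (hg0x χ h), if_neg (hdisj χ h η h')]
      · rw [hgg1 χ h, hgg0 η h', ← classInner_conj_symm (g₀ η), hg1x χ h _ (hg0x η h'), map_zero,
          if_neg (hdisj η h' χ h).symm]
      · rw [hgg1 χ h, hgg1 η h', hg1in χ h η h']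
    · intro T hT β hβ
      have hτ' := FeitCoherence.isometry_mono (Finset.coe_subset.2 hsub) hτ
      set Dset : Set (L → ℂ) := ((fun ξ => ξ - ζ) '' ↑S₀) ∪
        ((fun η => ((w η : ℤ) : ℂ) • φ₁ - η) '' ↑S₁) ∪ {α} with hDset
      have hDsub : Dset ⊆ Cfsg.zspanOn (↑(S₀ ∪ S₁) : Set (L → ℂ)) {1}ᶜ := by
        rintro _ ((⟨ξ, hξ, rfl⟩ | ⟨η, hη, rfl⟩) | rfl)
        · exact zspanOn_mono _ (Finset.coe_subset.2 Finset.subset_union_left) (hd0 ξ hξ ζ hζ)
        · exact zspanOn_mono _ (Finset.coe_subset.2 Finset.subset_union_right) (hd1 η hη)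
        · refine mem_zspanOn_one.2 ⟨zspan_sub
            (subset_zspan _ (Finset.mem_coe.2 (Finset.mem_union_right _ hφ₁)))
            (zspan_smul _ (subset_zspan _ (Finset.mem_coe.2 (Finset.mem_union_left _ hζ)))), ?_⟩
          exact (mem_zspanOn_one.1 hαm).2
      have key : ∀ γ ∈ Cfsg.zspan (↑(S₀ ∪ S₁) : Set (L → ℂ)), ∃ k : ℤ,
          γ - (k : ℂ) • ζ ∈ Submodule.span ℤ Dset := by
        intro γ hγ
        induction hγ using Submodule.span_induction with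
        | mem x hx =>
          rcases Finset.mem_union.1 (Finset.mem_coe.1 hx) with h | h
          · have h' : x - ζ ∈ Submodule.span ℤ Dset :=
              Submodule.subset_span (Or.inl (Or.inl ⟨x, h, rfl⟩))
            exact ⟨1, by simpa using h'⟩
          · refine ⟨(w x : ℤ) * t, ?_⟩
            have h1 : ((w x : ℤ) : ℂ) • φ₁ - x ∈ Submodule.span ℤ Dset :=
              Submodule.subset_span (Or.inl (Or.inr ⟨x, h, rfl⟩))
            have h2 : α ∈ Submodule.span ℤ Dset := Submodule.subset_span (Or.inr rfl)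
            convert (Submodule.span ℤ Dset).sub_mem
              ((Submodule.span ℤ Dset).smul_mem (w x : ℤ) h2) h1 using 1
            funext y
            simp only [hα, Pi.sub_apply, Pi.smul_apply, zsmul_eq_mul, smul_eq_mul, Pi.mul_apply,
              Pi.intCast_apply]
            push_cast; ring
        | zero => exact ⟨0, by simp⟩
        | add x y _ _ ihx ihy =>
          obtain ⟨k, hk⟩ := ihx
          obtain ⟨l, hl⟩ := ihy
          refine ⟨k + l, ?_⟩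
          convert (Submodule.span ℤ Dset).add_mem hk hl using 1
          push_cast; rw [add_smul]; abel
        | smul m x _ ih =>
          obtain ⟨k, hk⟩ := ih
          refine ⟨m * k, ?_⟩
          convert (Submodule.span ℤ Dset).smul_mem m hk using 1
          funext y
          simp only [Pi.sub_apply, Pi.smul_apply, zsmul_eq_mul, smul_eq_mul, Pi.mul_apply,
            Pi.intCast_apply]
          push_cast; ring
      obtain ⟨hβs, hβ1⟩ := mem_zspanOn_one.1 hβ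
      obtain ⟨k, hk⟩ := key β hβs
      have h0 := (mem_zspanOn_one.1
        ((Submodule.span_le (p := zspanOnMod (↑(S₀ ∪ S₁) : Set (L → ℂ)) ({1}ᶜ : Set L))).2 hDsub hk)).2
      rw [Pi.sub_apply, Pi.smul_apply, smul_eq_mul, hβ1, hζ1, zero_sub, neg_eq_zero, mul_eq_zero,
        or_iff_left (Nat.cast_ne_zero.2 he0.ne')] at h0
      rw [h0, zero_smul, sub_zero] at hk
      refine agree_span hτ' T hDsub ?_ hk
      rintro _ ((⟨ξ, hξ, rfl⟩ | ⟨η, hη, rfl⟩) | rfl)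
      · rw [map_sub, hT ξ (Finset.mem_union_left _ hξ), hT ζ (Finset.mem_union_left _ hζ),
          hgg0 ξ hξ, hgg0 ζ hζ, hg0d ξ hξ]
      · rw [map_sub, map_smul, hT η (Finset.mem_union_right _ hη),
          hT φ₁ (Finset.mem_union_right _ hφ₁), hgg1 η hη, hgg1 φ₁ hφ₁, hg1d η hη]
      · rw [hα, map_sub, map_smul, hT φ₁ (Finset.mem_union_right _ hφ₁),
          hT ζ (Finset.mem_union_left _ hζ), hgg1 φ₁ hφ₁, hgg0 ζ hζ, ← hα, ← hD, hDeq,
          Finset.sum_union (Finset.disjoint_left.2 fun χ h h' => hdisj χ h χ h' rfl), hg0sum, hg1sum]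
        push_cast; abel
  -- the remaining characters
  suffices h : ∀ T : Finset (L → ℂ), T ⊆ Inflate.layer K ⊥ \ (S₀ ∪ S₁) →
      Cfsg.IsCoherent (↑(S₀ ∪ S₁ ∪ T) : Set (L → ℂ)) {1}ᶜ (Cfsg.indFun L) by
    have := h _ (Finset.Subset.refl _)
    rwa [Finset.union_sdiff_of_subset hsub] at this
  intro T
  induction T using Finset.induction_on with
  | empty => intro _; simpa using hcoh
  | @insert χ T hχT ih =>
    intro hT
    rw [Finset.insert_subset_iff] at hT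
    obtain ⟨hχK, hχS⟩ := Finset.mem_sdiff.1 hT.1
    have hall : S₀ ∪ S₁ ∪ T ⊆ Inflate.layer K ⊥ :=
      Finset.union_subset hsub (hT.2.trans Finset.sdiff_subset)
    have hins : (↑(insert χ (S₀ ∪ S₁ ∪ T)) : Set (L → ℂ)) ⊆ ↑(Inflate.layer K ⊥) :=
      Finset.coe_subset.2 (Finset.insert_subset hχK hall)
    rw [Finset.union_insert]
    refine Feit.coherent_insert _ χ (fun ξ h => isIrr (hall h)) (isIrr hχK)
      (by simp only [Finset.mem_union, hχT, or_false]; simpa using hχS) (fun ξ => e * mdeg K ξ)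
      (fun ξ h => (mdeg_spec hC (hins (Finset.mem_coe.2 h))).1) _
      (FeitCoherence.isometry_mono hins hτ)
      (fun β hβ => hτ1 β (zspanOn_mono _ hins hβ)) (ih hT.2) ζ
      (Finset.mem_union_left _ (Finset.mem_union_left _ hζ)) ?_ ?_
    · rw [hdeg0 ζ hζ, mul_one]; exact dvd_mul_right _ _
    · have hχZ : χ ∈ Inflate.layer K Z := by
        obtain ⟨h1, -, h3⟩ := mem_layer.1 hχK
        refine mem_layer.2 ⟨h1, ?_, h3⟩
        by_contra! hne
        obtain ⟨g, hg, hg'⟩ := hne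
        exact hχS (Finset.mem_union_right _ (mem_layer.2
          ⟨h1, fun x hx => by rw [Subgroup.mem_bot.1 hx], g, hg, hg'⟩))
      haveI : Z.Normal := inferInstanceAs (W (n - 1)).Normal
      have e1 := FeitCoherence.sum_mdeg_layer hC Z hZK
      have e2 := sum_mdeg hC (bot_le : (⊥ : Subgroup L) ≤ Z) hZK
      rw [Subgroup.relIndex_bot_left] at e2
      set Y := Z.relIndex K with hY
      have e3 : Nat.card Z * Y = Nat.card K := by
        have := Subgroup.relIndex_mul_relIndex (⊥ : Subgroup L) Z K bot_le hZK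
        rwa [Subgroup.relIndex_bot_left, Subgroup.relIndex_bot_left] at this
      have hYpos : 0 < Y := by omega
      have hZmod : Nat.card Z ≡ 1 [MOD e] := by
        have h := hKmod
        rw [← e3] at h
        exact (((relIndex_modEq hC Z hZK).mul_left (Nat.card Z)).symm.trans h) |> fun h' => by
          simpa using h'
      have hZ21 := two_mul_add_one_le (hoddK.of_dvd_nat ⟨Y, e3.symm⟩) hodde
        (fun h => hZne (Subgroup.card_eq_one.1 h)) hZmod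
      have hsingle : mdeg K χ ^ 2 ≤ ∑ ξ ∈ Inflate.layer K Z, mdeg K ξ ^ 2 :=
        Finset.single_le_sum (f := fun ξ => mdeg K ξ ^ 2) (fun _ _ => Nat.zero_le _) hχZ
      have hm1 : mdeg K χ ≤ mdeg K χ ^ 2 := Nat.le_self_pow two_ne_zero _
      have hS1sum : ∑ ξ ∈ Inflate.layer Z ⊥, mdeg K ξ ^ 2 ≤
          ∑ ξ ∈ S₀ ∪ S₁ ∪ T, mdeg K ξ ^ 2 :=
        Finset.sum_le_sum_of_subset (Finset.subset_union_right.trans Finset.subset_union_left)
      have hfin : 2 * mdeg K χ < ∑ ξ ∈ Inflate.layer Z ⊥, mdeg K ξ ^ 2 := by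
        refine Nat.lt_of_mul_lt_mul_left (a := e) ?_
        have h4 : (2 * e + 1) * Y ≤ Nat.card Z * Y := Nat.mul_le_mul_right Y hZ21
        rw [e3] at h4
        have h5 : e * mdeg K χ + 1 ≤ Y :=
          by have := Nat.mul_le_mul_left e (hm1.trans hsingle); nlinarith [e1, this]
        nlinarith
      simp only [hdeg0 ζ hζ, mul_one]
      calc 2 * e * (e * mdeg K χ) = e ^ 2 * (2 * mdeg K χ) := by ring
        _ < e ^ 2 * ∑ ξ ∈ S₀ ∪ S₁ ∪ T, mdeg K ξ ^ 2 :=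
          Nat.mul_lt_mul_of_pos_left (hfin.trans_le hS1sum) (pow_pos he0 2)
        _ = _ := by
          rw [Finset.mul_sum]; exact Finset.sum_congr rfl fun ξ _ => (mul_pow _ _ 2).symm

end Cfsg.Agent.Lib.Isometry.SibleyOdd
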