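import Cfsg.Agent.Lib.Isometry.Clifford
import Cfsg.Agent.Lib.Clifford.Extension
import Cfsg.Agent.Lib.Clifford.Gallagher
import Cfsg.Agent.Lib.Characters.Degree
set_option autoImplicit false

/-! Induction from a normal subgroup with abelian inertia quotient. -/

namespace Cfsg.Agent.Lib.Isometry.AbelianQuotient

open scoped ComplexConjugate Classical
open Cfsg.Agent.Lib.Induced.Basic Cfsg.Agent.Lib.Characters.Basic Cfsg.Agent.Lib.Clifford.Basic

universe u
variable {G : Type u} [Group G] [Fintype G]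

/-- An invariant character with abelian quotient: the constituents of the induced character. -/
theorem invariant_case (N : Subgroup G) [N.Normal] [Fintype N]
    (hab : ∀ x y : G, x * y * x⁻¹ * y⁻¹ ∈ N) (θ : Cfsg.IrrCharacter N)
    (hinv : ∀ g, conjC N g θ = (θ : N → ℂ)) :
    ∃ (e : ℕ) (C : Finset (G → ℂ)), 0 < e ∧ (∀ χ ∈ C, Cfsg.IsIrrCharacter G χ) ∧
      e ^ 2 * C.card = N.index ∧ Cfsg.indFun N (θ : N → ℂ) = (e : ℂ) • ∑ χ ∈ C, χ ∧
      ∀ χ ∈ C, (fun n : N => χ n) = (e : ℂ) • (θ : N → ℂ) := by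
  have hind : Cfsg.IsCharacter G (Cfsg.indFun N (θ : N → ℂ)) :=
    Induced.Character.isCharacter_indFun N (isCharacter_irr θ)
  obtain ⟨ψ₀, hψ₀⟩ := exists_constituent hind fun h => by
    have := congrFun h 1
    rw [indFun_one] at this
    exact mul_ne_zero (Nat.cast_ne_zero.2 Subgroup.index_ne_zero_of_finite) (apply_one_ne_zero θ) this
  have hres₀ : Cfsg.classInner (fun n : N => (ψ₀ : G → ℂ) n) θ ≠ 0 := by
    rw [frobenius_reciprocity _ _ (isClassFunction_irr ψ₀)] at hψ₀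
    exact classInner_ne_zero_symm hψ₀
  obtain ⟨e, he⟩ := exists_classInner_nat (isCharacter_comp N.subtype (isCharacter_irr ψ₀))
    (isCharacter_irr θ)
  have he' : Cfsg.classInner (fun n : N => (ψ₀ : G → ℂ) n) θ = (e : ℂ) := he
  have hrest := restrict_eq_smul N ψ₀.2 θ hres₀ hinv
  rw [he'] at hrest hres₀
  obtain ⟨Λ, hΛc, hΛN, hΛs⟩ := Clifford.exists_dual N hab
  set f : (G →* ℂˣ) → G → ℂ := fun l => (Characters.Linear.linChar l : G → ℂ) * (ψ₀ : G → ℂ) with hf
  set C := Λ.image f with hC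
  have hirr : ∀ χ ∈ C, Cfsg.IsIrrCharacter G χ := fun χ hχ => by
    obtain ⟨l, -, rfl⟩ := Finset.mem_image.1 hχ
    exact Characters.Linear.isIrrCharacter_linear_mul (isCharacter_irr _)
      (by simp [Characters.Linear.linChar_apply]) ψ₀.2
  have hresC : ∀ χ ∈ C, (fun n : N => χ n) = (e : ℂ) • (θ : N → ℂ) := fun χ hχ => by
    obtain ⟨l, hl, rfl⟩ := Finset.mem_image.1 hχ
    rw [← hrest]
    funext n
    simp [hf, Characters.Linear.linChar_apply, hΛN l hl n n.2]
  have hmult : ∀ χ ∈ C, Cfsg.classInner (Cfsg.indFun N (θ : N → ℂ)) χ = (e : ℂ) := fun χ hχ => by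
    rw [frobenius_reciprocity _ _ (isClassFunction_irr ⟨χ, hirr χ hχ⟩)]
    show Cfsg.classInner (θ : N → ℂ) (fun n : N => χ n) = _
    rw [hresC χ hχ, classInner_smul_right, classInner_self_irr, mul_one, map_natCast]
  -- the sum of the twists is `e` times the induced character
  have hsum : ∑ l ∈ Λ, f l = (e : ℂ) • Cfsg.indFun N (θ : N → ℂ) := by
    funext g
    rw [Finset.sum_apply, Pi.smul_apply, smul_eq_mul]
    simp only [hf, Pi.mul_apply, Characters.Linear.linChar_apply]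
    rw [← Finset.sum_mul, hΛs]
    by_cases hg : g ∈ N
    · rw [if_pos hg, show g = ((⟨g, hg⟩ : N) : G) from rfl, indFun_apply_normal,
        Finset.sum_congr rfl fun x _ => show conjC N x θ ⟨g, hg⟩ = (θ : N → ℂ) ⟨g, hg⟩ by rw [hinv],
        Finset.sum_const, Finset.card_univ, nsmul_eq_mul, congrFun hrest ⟨g, hg⟩,
        Fintype.card_eq_nat_card, ← N.index_mul_card, Nat.cast_mul, Pi.smul_apply, smul_eq_mul]
      field_simp [subgroup_card_ne_zero N]
    · rw [if_neg hg, zero_mul]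
      simp only [Cfsg.indFun]
      rw [Finset.sum_eq_zero, mul_zero, mul_zero]
      intro x _
      refine extendByZero_of_not_mem N _ fun h => hg ?_
      have h' := Subgroup.Normal.conj_mem inferInstance _ h x
      simpa [mul_assoc] using h'
  haveI := Fintype.ofFinite (Cfsg.IrrCharacter G)
  have he0 : (e : ℂ) ≠ 0 := hres₀
  have hzero : ∀ β : Cfsg.IrrCharacter G, (β : G → ℂ) ∉ C →
      Cfsg.classInner (Cfsg.indFun N (θ : N → ℂ)) β = 0 := by
    intro β hβ
    have h := congrArg (fun F => Cfsg.classInner F (β : G → ℂ)) hsum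
    simp only [classInner_sum_left, classInner_smul_left] at h
    rw [Finset.sum_eq_zero (fun l hl => ?_)] at h
    · exact (mul_eq_zero.1 h.symm).resolve_left he0
    · have hl' := hirr _ (Finset.mem_image_of_mem f hl)
      rw [Inner.classInner_irr_eq hl' β.2, if_neg]
      exact fun hh => hβ (hh ▸ Finset.mem_image_of_mem f hl)
  have hdec : Cfsg.indFun N (θ : N → ℂ) = (e : ℂ) • ∑ χ ∈ C, χ := by
    refine sub_eq_zero.1 (Inner.eq_zero_of_classInner_self ?_)
    set D := Cfsg.indFun N (θ : N → ℂ) - (e : ℂ) • ∑ χ ∈ C, χ with hD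
    have hz : ∀ β : Cfsg.IrrCharacter G, Cfsg.classInner D β = 0 := by
      intro β
      rw [hD, classInner_sub_left, classInner_smul_left, classInner_sum_left]
      rw [Finset.sum_congr rfl fun χ hχ => Inner.classInner_irr_eq (hirr χ hχ) β.2, Finset.sum_ite_eq']
      by_cases hβ : (β : G → ℂ) ∈ C
      · rw [if_pos hβ, hmult _ hβ, mul_one, sub_self]
      · rw [if_neg hβ, hzero β hβ, mul_zero, sub_zero]
    have hcl : Cfsg.IsClassFunction G D := by
      intro x y
      simp only [hD, Pi.sub_apply, Pi.smul_apply, Finset.sum_apply, smul_eq_mul]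
      rw [isClassFunction_indFun N (θ : N → ℂ) x y,
        Finset.sum_congr rfl fun χ hχ => isClassFunction_irr ⟨χ, hirr χ hχ⟩ x y]
    conv_lhs => enter [2]; rw [Characters.Complete.classFunction_eq_sum hcl]
    rw [classInner_sum_right]
    exact Finset.sum_eq_zero fun β _ => by rw [classInner_smul_right, hz, mul_zero]
  refine ⟨e, C, Nat.pos_of_ne_zero fun h => he0 (by rw [h, Nat.cast_zero]), hirr, ?_, hdec, hresC⟩
  have h := Lib.Clifford.Gallagher.classInner_indFun_self N θ hinv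
  conv_lhs at h => enter [2]; rw [hdec]
  rw [classInner_smul_right, classInner_sum_right, Finset.sum_congr rfl hmult, Finset.sum_const,
    nsmul_eq_mul, map_natCast] at h
  have h' : ((e ^ 2 * C.card : ℕ) : ℂ) = (N.index : ℂ) := by rw [← h]; push_cast; ring
  exact_mod_cast h'

/-- A character of order prime to the invariant index extends. -/
theorem extends_of_coprime (N : Subgroup G) [hN : N.Normal] (θ : Cfsg.IrrCharacter N)
    (hinv : ∀ g, conjC N g θ = (θ : N → ℂ)) (hcop : Nat.Coprime (Nat.card N) N.index) :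
    ∃ χ : G → ℂ, Cfsg.IsIrrCharacter G χ ∧ ∀ n : N, χ n = (θ : N → ℂ) n := by
  obtain ⟨d, -, hdvd, hd⟩ := Characters.Degree.exists_degree_dvd θ
  obtain ⟨k, ρ, hρ, hρθ⟩ := θ.2
  have hdet := Lib.Clifford.Rep.detChar_eq ρ
  have hlam : ∀ (g : G) (n : N), Lib.Clifford.Rep.detHom ρ ⟨g * n * g⁻¹, hN.conj_mem (n : G) n.2 g⟩ =
      Lib.Clifford.Rep.detHom ρ n := by
    intro g n
    refine Units.ext ?_
    rw [Lib.Clifford.Rep.detHom_apply, Lib.Clifford.Rep.detHom_apply]
    refine Lib.Clifford.Rep.det_eq_of_char ρ (ρ.comp (MulAut.conjNormal g).toMonoidHom) ?_ n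
    rw [hρθ]
    funext m
    have h := congrFun (hinv g) m
    rw [conjC_apply] at h
    show ρ.character (MulAut.conjNormal g m) = _
    rw [hρθ]
    exact h
  have hord : orderOf (Lib.Clifford.Rep.detHom ρ) ∣ Nat.card N :=
    orderOf_dvd_of_pow_eq_one (MonoidHom.ext fun n => by
      rw [MonoidHom.pow_apply, ← map_pow, pow_card_eq_one', map_one]; rfl)
  obtain ⟨μ, hμ, -⟩ := Lib.Clifford.Linear.exists_coprime_extension N (Lib.Clifford.Rep.detHom ρ) hlam
    (hcop.symm.coprime_dvd_right hord)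
  obtain ⟨χ, hχ, hres, -⟩ := Lib.Clifford.Extension.exists_extension_char N θ.2
    (fun g n => congrFun (hinv g) n) hd (hcop.symm.coprime_dvd_right hdvd) μ fun n => by
      rw [hμ n, Lib.Clifford.Rep.detHom_apply, ← hρθ, hdet]
  exact ⟨χ, hχ, hres⟩

theorem inertia_top (H T : Subgroup G) [hN : H.Normal] (hHT : H ≤ T) {θ : H → ℂ}
    (hT : T ≤ inertia H θ) (t : T) :
    conjC (H.subgroupOf T) t (fun x : H.subgroupOf T => θ ⟨(x : T), Subgroup.mem_subgroupOf.mp x.2⟩) =
      fun x : H.subgroupOf T => θ ⟨(x : T), Subgroup.mem_subgroupOf.mp x.2⟩ := by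
  funext x
  exact congrFun (hT t.2) ⟨(x : T), Subgroup.mem_subgroupOf.mp x.2⟩

/-- The decomposition of a character induced from a normal subgroup with abelian inertia quotient,
with multiplicity one when the inertia index is prime to the order. -/
theorem decompose (H T : Subgroup G) [hN : H.Normal] {θ : H → ℂ} (hθ : Cfsg.IsIrrCharacter H θ)
    (hT : T = inertia H θ) (hab : ∀ x ∈ T, ∀ y ∈ T, x * y * x⁻¹ * y⁻¹ ∈ H) :
    ∃ (e : ℕ) (C : Finset (G → ℂ)), 0 < e ∧ (∀ χ ∈ C, Cfsg.IsIrrCharacter G χ) ∧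
      e ^ 2 * C.card = H.relIndex T ∧ Cfsg.indFun H θ = (e : ℂ) • ∑ χ ∈ C, χ ∧
      (∀ χ ∈ C, χ 1 = (T.index : ℂ) * e * θ 1) ∧
      (Nat.Coprime (Nat.card H) (H.relIndex T) → e = 1) := by
  have hHT : H ≤ T := hT ▸ le_inertia H (isClassFunction_irr ⟨θ, hθ⟩)
  haveI : (H.subgroupOf T).Normal := hN.subgroupOf T
  set eqv := Subgroup.subgroupOfEquivOfLe hHT
  have hθ' : Cfsg.IsIrrCharacter (H.subgroupOf T)
      (fun x => θ ⟨(x : T), Subgroup.mem_subgroupOf.mp x.2⟩) :=
    isIrrCharacter_comp eqv.toMonoidHom eqv.surjective hθ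
  set θ₁ : Cfsg.IrrCharacter (H.subgroupOf T) := ⟨_, hθ'⟩
  have hinv : ∀ t : T, conjC (H.subgroupOf T) t θ₁ = (θ₁ : _ → ℂ) :=
    fun t => inertia_top H T hHT hT.le t
  obtain ⟨e, C₀, he, hirr₀, hcard, hdec, hres⟩ := invariant_case (H.subgroupOf T)
    (fun x y => Subgroup.mem_subgroupOf.mpr (hab x x.2 y y.2)) θ₁ hinv
  have hover : ∀ ψ ∈ C₀, Cfsg.classInner (fun h : H => ψ ⟨(h : G), hHT h.2⟩) θ ≠ 0 := by
    intro ψ hψ
    rw [show (fun h : H => ψ ⟨(h : G), hHT h.2⟩) = (e : ℂ) • θ from funext fun h =>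
      congrFun (hres ψ hψ) ⟨⟨(h : G), hHT h.2⟩, Subgroup.mem_subgroupOf.mpr h.2⟩,
      classInner_smul_left, classInner_self_irr ⟨θ, hθ⟩, mul_one]
    exact Nat.cast_ne_zero.2 he.ne'
  have hcor := fun ψ (hψ : ψ ∈ C₀) =>
    Clifford.correspondence H T ⟨θ, hθ⟩ hT hHT (hirr₀ ψ hψ) (hover ψ hψ)
  have hinj : Set.InjOn (Cfsg.indFun T) (C₀ : Set (T → ℂ)) := fun a ha b hb h =>
    (hcor a ha).2 b (hirr₀ b hb) (hover b hb) h
  have hone : ∀ ψ ∈ C₀, ψ 1 = (e : ℂ) * θ 1 := fun ψ hψ => by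
    have := congrFun (hres ψ hψ) 1
    simp only [Pi.smul_apply, smul_eq_mul, OneMemClass.coe_one] at this
    exact this.trans rfl
  refine ⟨e, C₀.image (Cfsg.indFun T), he, ?_, ?_, ?_, ?_, fun hcop => ?_⟩
  · intro χ hχ
    obtain ⟨ψ, hψ, rfl⟩ := Finset.mem_image.1 hχ
    exact (hcor ψ hψ).1
  · rw [Finset.card_image_of_injOn hinj]
    exact hcard
  · rw [← indFun_trans H T hHT θ, Finset.sum_image hinj,
      show Cfsg.indFun (H.subgroupOf T) (fun x => θ ⟨(x : T), Subgroup.mem_subgroupOf.mp x.2⟩) =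
        (e : ℂ) • ∑ χ ∈ C₀, χ from hdec]
    have hext : ∀ y : G, extendByZero T ((e : ℂ) • ∑ χ ∈ C₀, χ) y =
        (e : ℂ) * ∑ χ ∈ C₀, extendByZero T χ y := fun y => by
      by_cases hy : y ∈ T
      · simp [extendByZero_of_mem T _ hy, Finset.sum_apply]
      · simp [extendByZero_of_not_mem T _ hy]
    funext g
    simp only [Cfsg.indFun, Pi.smul_apply, Finset.sum_apply, smul_eq_mul, hext]
    rw [← Finset.mul_sum, ← Finset.mul_sum, Finset.sum_comm]
    ring
  · intro χ hχ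
    obtain ⟨ψ, hψ, rfl⟩ := Finset.mem_image.1 hχ
    rw [indFun_one, hone ψ hψ]
    ring
  · have hc' : Nat.Coprime (Nat.card (H.subgroupOf T)) (H.subgroupOf T).index := by
      rwa [Nat.card_congr eqv.toEquiv]
    obtain ⟨χ, hχ, hχres⟩ := extends_of_coprime (H.subgroupOf T) θ₁ hinv hc'
    have h1 : Cfsg.classInner (Cfsg.indFun (H.subgroupOf T) (θ₁ : _ → ℂ)) χ = 1 := by
      rw [frobenius_reciprocity _ _ (isClassFunction_irr ⟨χ, hχ⟩),
        show (fun n : H.subgroupOf T => χ n) = (θ₁ : _ → ℂ) from funext hχres, classInner_self_irr]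
    rw [hdec, classInner_smul_left, classInner_sum_left,
      Finset.sum_congr rfl fun ψ hψ => Inner.classInner_irr_eq (hirr₀ ψ hψ) hχ,
      Finset.sum_ite_eq'] at h1
    by_cases hm : χ ∈ C₀
    · rw [if_pos hm, mul_one] at h1
      exact_mod_cast h1
    · rw [if_neg hm, mul_zero] at h1
      exact absurd h1 zero_ne_one

end Cfsg.Agent.Lib.Isometry.AbelianQuotient
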