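import Cfsg.Agent.Lib.OddLocal.FrobeniusAction
import Cfsg.Agent.Lib.OddLocal.FrobeniusAmbient
set_option autoImplicit false

/-! The fixed point formula for a Frobenius group acting coprimely on a solvable group. -/

universe u v

namespace Cfsg.Agent.Lib.Isometry.FrobeniusFixed

open Subgroup
open Cfsg.Agent.Lib.OddLocal.FrobeniusAction
open scoped commutatorElement

variable {B : Type u} [Group B] [Finite B] {K R : Subgroup B} [K.Normal]

omit [Finite B] [K.Normal] in
theorem fixed_top {M : Type v} [Group M] (θ : B →* MulAut M) (hKR : K ⊔ R = ⊤) :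
    fixed θ (⊤ : Subgroup B) = fixed θ K ⊓ fixed θ R := by
  refine le_antisymm (fun v hv => ⟨fun s _ => hv s (mem_top s), fun s _ => hv s (mem_top s)⟩) ?_
  rintro v ⟨hK, hR⟩ s -
  let S : Subgroup B :=
    { carrier := {b | θ b v = v}
      one_mem' := by simp
      mul_mem' := fun {a b} ha hb => by
        show θ (a * b) v = v
        rw [map_mul, MulAut.mul_apply, hb, ha]
      inv_mem' := fun {a} ha => by
        show θ a⁻¹ v = v
        nth_rw 1 [← ha]
        rw [← MulAut.mul_apply, ← map_mul, inv_mul_cancel, map_one, MulAut.one_apply] }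
  exact (hKR ▸ sup_le (fun k hk => hK k hk) (fun r hr => hR r hr) : ⊤ ≤ S) (mem_top s)

/-- The formula for an elementary abelian group. -/
theorem elementary {V : Type v} [CommGroup V] [Finite V] {q : ℕ} [Fact q.Prime]
    (hexp : ∀ v : V, v ^ q = 1) (θ : B →* MulAut V) (hq : (Nat.card B).Coprime q)
    (hcop : (Nat.card B).Coprime (Nat.card V)) (hcompl : IsComplement' K R)
    (hfpf : ∀ r ∈ R, r ≠ 1 → ∀ k ∈ K, r * k = k * r → k = 1) :
    Nat.card (fixed θ (⊤ : Subgroup B)) ^ Nat.card R * Nat.card V =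
      Nat.card (fixed θ R) ^ Nat.card R * Nat.card (fixed θ K) := by
  let Z := fixed θ K
  haveI : Z.Normal := inferInstance
  haveI : IsMulCommutative Z := ⟨⟨fun a b => mul_comm a b⟩⟩
  have hZ : ∀ b, ∀ z ∈ Z, θ b z ∈ Z := by
    intro b z hz k hk
    have h := hz _ (Subgroup.Normal.conj_mem' inferInstance k hk b)
    calc θ k (θ b z) = θ b (θ (b⁻¹ * k * b) z) := by
          rw [← MulAut.mul_apply, ← map_mul, ← MulAut.mul_apply, ← map_mul]; group
      _ = θ b z := by rw [h]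
  have hK0 : ∀ x : V ⧸ Z, (∀ k ∈ K, quot θ Z hZ k x = x) → x = 1 := by
    intro x hx
    obtain ⟨y, hy, rfl⟩ := exists_lift θ Z hZ hcop K hx
    exact (QuotientGroup.eq_one_iff y).2 hy
  have hbar := Cfsg.Agent.Lib.OddLocal.FrobeniusRank.card_eq_pow (V := V ⧸ Z) (q := q)
    (fun x => by
      obtain ⟨y, rfl⟩ := QuotientGroup.mk'_surjective Z x
      rw [← map_pow, hexp, map_one]) (quot θ Z hZ) hq hcompl hfpf hK0
  have hR := card_fixed θ Z hZ hcop R
  have htop : Nat.card (fixed (restrict θ Z hZ) R) = Nat.card (fixed θ (⊤ : Subgroup B)) := by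
    rw [fixed_top θ (hcompl.sup_eq_top)]
    exact Nat.card_congr
      { toFun := fun z => ⟨z.1.1, z.1.2, fun r hr => congrArg Subtype.val (z.2 r hr)⟩
        invFun := fun z => ⟨⟨z.1, z.2.1⟩, fun r hr => Subtype.ext (z.2.2 r hr)⟩
        left_inv := fun _ => rfl
        right_inv := fun _ => rfl }
  have hb : Nat.card (fixed (quot θ Z hZ) R) ^ Nat.card R = Nat.card (V ⧸ Z) := hbar.symm
  rw [hR, htop, mul_pow, hb, card_eq_card_quotient_mul_card_subgroup Z]
  ring

omit [Finite B] in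
theorem exists_abelian_layer {M : Type v} [Group M] [Finite M] [Nontrivial M]
    (hsolv : Group.IsSolvable M) (θ : B →* MulAut M) :
    ∃ (q : ℕ) (_ : q.Prime) (Z : Subgroup M) (_ : Z.Normal) (_ : IsMulCommutative Z),
      (∀ b, ∀ z ∈ Z, θ b z ∈ Z) ∧ (∀ z ∈ Z, z ^ q = 1) ∧ 1 < Nat.card Z ∧ q ∣ Nat.card M := by
  classical
  have hex : ∃ n, derivedSeries M n = ⊥ := hsolv.solvable
  obtain ⟨j, hj⟩ : ∃ j, Nat.find hex = j + 1 := ⟨Nat.find hex - 1, (Nat.succ_pred_eq_of_pos (Nat.pos_of_ne_zero fun h => by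
    have := Nat.find_spec hex
    rw [h, derivedSeries_zero] at this
    exact top_ne_bot this)).symm⟩
  set A := derivedSeries M j with hA
  have hA1 : A ≠ ⊥ := fun h => Nat.find_min hex (by omega : j < Nat.find hex) h
  have hAc : ⁅A, A⁆ = ⊥ := by
    rw [hA, ← derivedSeries_succ, ← hj]; exact Nat.find_spec hex
  have hcomm : ∀ a ∈ A, ∀ b ∈ A, a * b = b * a := fun a ha b hb => by
    have h : ⁅a, b⁆ ∈ (⊥ : Subgroup M) := hAc ▸ commutator_mem_commutator ha hb
    exact (commutatorElement_eq_one_iff_mul_comm.1 (mem_bot.1 h))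
  obtain ⟨q, hq, hqd⟩ := Nat.exists_prime_and_dvd (mt card_eq_one.mp hA1)
  haveI : Fact q.Prime := ⟨hq⟩
  obtain ⟨z, hz⟩ := exists_prime_orderOf_dvd_card' (G := A) q hqd
  let Z : Subgroup M :=
    { carrier := {x | x ∈ A ∧ x ^ q = 1}
      one_mem' := ⟨one_mem _, one_pow q⟩
      mul_mem' := fun {a b} ha hb => ⟨mul_mem ha.1 hb.1, by
        rw [(show Commute a b from hcomm a ha.1 b hb.1).mul_pow, ha.2, hb.2, one_mul]⟩
      inv_mem' := fun {a} ha => ⟨inv_mem ha.1, by rw [inv_pow, ha.2, inv_one]⟩ }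
  haveI hAn : A.Normal := derivedSeries_normal M j
  haveI hAch : A.Characteristic := by rw [hA]; infer_instance
  have hzZ : (z : M) ∈ Z := ⟨z.2, by rw [← hz, ← Subgroup.orderOf_coe]; exact pow_orderOf_eq_one _⟩
  refine ⟨q, hq, Z, ⟨fun x hx g => ⟨hAn.conj_mem x hx.1 g, ?_⟩⟩,
    ⟨⟨fun a b => Subtype.ext (hcomm a a.2.1 b b.2.1)⟩⟩, fun b x hx => ⟨?_, ?_⟩, fun x hx => hx.2,
    ?_, hqd.trans A.card_subgroup_dvd_card⟩
  · rw [conj_pow, hx.2, mul_one, mul_inv_cancel]
  · exact characteristic_iff_le_comap.mp hAch (θ b) hx.1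
  · rw [← map_pow, hx.2, map_one]
  · refine Finite.one_lt_card_iff_nontrivial.mpr ⟨⟨⟨z, hzZ⟩, 1, fun h => hq.ne_one ?_⟩⟩
    rw [← hz, ← Subgroup.orderOf_coe, congrArg Subtype.val h]
    exact orderOf_one

/-- **The fixed point formula.** -/
theorem formula (hcompl : IsComplement' K R)
    (hfpf : ∀ r ∈ R, r ≠ 1 → ∀ k ∈ K, r * k = k * r → k = 1) :
    ∀ (n : ℕ) (M : Type v) [Group M] [Finite M] (θ : B →* MulAut M),
      Nat.card M = n → Group.IsSolvable M → (Nat.card B).Coprime (Nat.card M) →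
      Nat.card (fixed θ (⊤ : Subgroup B)) ^ Nat.card R * Nat.card M =
        Nat.card (fixed θ R) ^ Nat.card R * Nat.card (fixed θ K) := by
  intro n
  induction n using Nat.strong_induction_on with
  | _ n ih =>
  intro M _ _ θ hn hsolv hcop
  by_cases hM : Subsingleton M
  · simp
  haveI : Nontrivial M := not_subsingleton_iff_nontrivial.mp hM
  obtain ⟨q, hq, Z, hZn, hZc, hZinv, hZexp, hZ1, hqd⟩ := exists_abelian_layer hsolv θ
  haveI := hZn
  haveI := hZc
  haveI : Fact q.Prime := ⟨hq⟩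
  letI : CommGroup Z := { (inferInstance : Group Z) with mul_comm := hZc.is_comm.comm }
  have hlt : Nat.card (M ⧸ Z) < n := by
    rw [← hn, card_eq_card_quotient_mul_card_subgroup Z]
    exact lt_mul_of_one_lt_right Nat.card_pos hZ1
  haveI := hsolv
  have h1 := ih _ hlt (M ⧸ Z) (quot θ Z hZinv) rfl
    (Group.isSolvable_of_surjective (QuotientGroup.mk'_surjective Z))
    (hcop.coprime_dvd_right (card_quotient_dvd_card Z))
  have h2 := elementary (V := Z) (q := q) (fun z => Subtype.ext (by simpa using hZexp z z.2))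
    (restrict θ Z hZinv) (hcop.coprime_dvd_right hqd)
    (hcop.coprime_dvd_right Z.card_subgroup_dvd_card) hcompl hfpf
  rw [card_fixed θ Z hZinv hcop ⊤, card_fixed θ Z hZinv hcop R, card_fixed θ Z hZinv hcop K,
    card_eq_card_quotient_mul_card_subgroup Z]
  simp only [mul_pow]
  calc _ = (Nat.card (fixed (quot θ Z hZinv) ⊤) ^ Nat.card R * Nat.card (M ⧸ Z)) *
        (Nat.card (fixed (restrict θ Z hZinv) ⊤) ^ Nat.card R * Nat.card Z) := by ring
    _ = _ := by rw [h1, h2]; ring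

end Cfsg.Agent.Lib.Isometry.FrobeniusFixed
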