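import Cfsg.Agent.Lib.Isometry.TINilpotent

/-!
# The kernel characters of the normaliser of a TI subgroup
-/

set_option autoImplicit false
set_option linter.unusedSectionVars false

namespace Cfsg.Agent.Lib.Isometry.NormalizerBridge

open scoped Classical

universe u

variable {G : Type u} [Group G] [Fintype G] (K : Subgroup G)

theorem setOf_eq_layer :
    {χ : ↥(Subgroup.normalizer (K : Set G)) → ℂ |
      Cfsg.IsIrrCharacter ↥(Subgroup.normalizer (K : Set G)) χ ∧
        ∃ k : ↥(Subgroup.normalizer (K : Set G)), (k : G) ∈ K ∧ χ k ≠ χ 1} =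
      ↑(Inflate.layer (K.subgroupOf (Subgroup.normalizer (K : Set G))) ⊥) := by
  ext χ
  rw [Finset.mem_coe, Inflate.mem_layer]
  exact ⟨fun ⟨h1, h2⟩ => ⟨h1, fun g hg => by rw [Subgroup.mem_bot.1 hg], h2⟩,
    fun ⟨h1, _, h2⟩ => ⟨h1, h2⟩⟩

theorem card_eq :
    Nat.card (K.subgroupOf (Subgroup.normalizer (K : Set G))) = Nat.card K :=
  Nat.card_congr (Subgroup.subgroupOfEquivOfLe Subgroup.le_normalizer).toEquiv

theorem centralizer_le (hC : ∀ k ∈ K, k ≠ 1 → Subgroup.centralizer ({k} : Set G) ≤ K) :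
    ∀ k ∈ K.subgroupOf (Subgroup.normalizer (K : Set G)), k ≠ 1 →
      Subgroup.centralizer ({k} : Set ↥(Subgroup.normalizer (K : Set G))) ≤
        K.subgroupOf (Subgroup.normalizer (K : Set G)) := fun k hk hk1 x hx =>
  hC k hk (fun e => hk1 (Subtype.ext e)) (Subgroup.mem_centralizer_singleton_iff.2
    (congrArg Subtype.val (Subgroup.mem_centralizer_singleton_iff.1 hx)))

theorem ne_bot (h : K ≠ ⊥) : K.subgroupOf (Subgroup.normalizer (K : Set G)) ≠ ⊥ := by
  rw [Ne, Subgroup.subgroupOf_eq_bot, disjoint_iff, inf_eq_left.2 Subgroup.le_normalizer]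
  exact h

theorem ne_top (h : K < Subgroup.normalizer (K : Set G)) :
    K.subgroupOf (Subgroup.normalizer (K : Set G)) ≠ ⊤ := fun e =>
  h.not_ge (Subgroup.subgroupOf_eq_top.1 e)

theorem isElementaryAbelian {p : ℕ}
    (h : Cfsg.IsElementaryAbelian p (K.subgroupOf (Subgroup.normalizer (K : Set G)))) :
    Cfsg.IsElementaryAbelian p K := by
  refine ⟨⟨⟨fun a b => Subtype.ext ?_⟩⟩, fun a ha => ?_⟩
  · exact congrArg (fun z => (((z : K.subgroupOf (Subgroup.normalizer (K : Set G))) :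
      ↥(Subgroup.normalizer (K : Set G))) : G)) (h.1.is_comm.comm
      ⟨⟨a, Subgroup.le_normalizer a.2⟩, a.2⟩ ⟨⟨b, Subgroup.le_normalizer b.2⟩, b.2⟩)
  · exact congrArg Subtype.val (h.2 ⟨a, Subgroup.le_normalizer ha⟩ ha)

end Cfsg.Agent.Lib.Isometry.NormalizerBridge
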