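import Cfsg.Agent.Lib.Isometry.Coherence
set_option autoImplicit false

/-! The extension criterion for coherence systems. -/

namespace Cfsg.Agent.Lib.Isometry.Criterion

open scoped ComplexConjugate Classical
open Cfsg.Agent.Lib.Isometry.Inner Cfsg.Agent.Lib.Isometry.Coherence
open Cfsg.Agent.Lib.Induced.Basic (classInner_add_left classInner_add_right classInner_sub_left
  classInner_sub_right classInner_smul_left classInner_smul_right classInner_conj_symm)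
open Cfsg.Agent.Lib.Characters.Basic (classInner_zero_left classInner_zero_right classInner_sum_left
  classInner_sum_right)

universe u v
variable {L : Type u} [Group L] [Fintype L] {G : Type v} [Group G] [Fintype G]

section Iso
variable {S : Set (L → ℂ)} {T₁ : (L → ℂ) → (G → ℂ)}

theorem span_iso_zero (h : Cfsg.IsLinearIsometryOn (Cfsg.zspan S) T₁) : T₁ 0 = 0 := by
  simpa using h.2.1 0 (Submodule.span ℤ S).zero_mem 0

theorem span_iso_smul (h : Cfsg.IsLinearIsometryOn (Cfsg.zspan S) T₁) {α : L → ℂ}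
    (hα : α ∈ Cfsg.zspan S) (n : ℤ) : T₁ ((n : ℂ) • α) = (n : ℂ) • T₁ α := by
  rw [Int.cast_smul_eq_zsmul, Int.cast_smul_eq_zsmul, h.2.1 α hα n]

theorem span_iso_sub (h : Cfsg.IsLinearIsometryOn (Cfsg.zspan S) T₁) {α β : L → ℂ}
    (hα : α ∈ Cfsg.zspan S) (hβ : β ∈ Cfsg.zspan S) : T₁ (α - β) = T₁ α - T₁ β := by
  have e : T₁ (-β) = -T₁ β := by simpa using h.2.1 β hβ (-1)
  rw [sub_eq_add_neg, h.1 α hα (-β) ((Submodule.span ℤ S).neg_mem hβ), e, sub_eq_add_neg]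

theorem span_iso_agree (h : Cfsg.IsLinearIsometryOn (Cfsg.zspan S) T₁)
    (T : (L → ℂ) →ₗ[ℂ] (G → ℂ)) (hT : ∀ χ ∈ S, T χ = T₁ χ) {α : L → ℂ}
    (hα : α ∈ Cfsg.zspan S) : T α = T₁ α := by
  induction hα using Submodule.span_induction with
  | mem x hx => exact hT x hx
  | zero => rw [map_zero, span_iso_zero h]
  | add x y hx hy ihx ihy => rw [map_add, ihx, ihy, h.1 x hx y hy]
  | smul n x hx ihx => rw [map_zsmul, ihx, h.2.1 x hx n]

end Iso

variable {S : Set (L → ℂ)} {τ : (L → ℂ) → (G → ℂ)} {R : (L → ℂ) → Finset (G → ℂ)}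

/-- Under a coherent extension the image of `φ` lies in the span of `R φ`. -/
theorem image_mem (hS : Cfsg.IsCoherenceSystem S τ R) {S₁ : Set (L → ℂ)} (hsub : S₁ ⊆ S)
    {T₁ : (L → ℂ) → (G → ℂ)} (hT₁ : Cfsg.IsLinearIsometryOn (Cfsg.zspan S₁) T₁)
    (hagree : ∀ α ∈ Cfsg.zspanOn S₁ {1}ᶜ, T₁ α = τ α) {φ : L → ℂ} (hφ : φ ∈ S₁)
    (hφc : Cfsg.conjFun φ ∈ S₁) :
    ∃ x : (G → ℂ) → ℤ, T₁ φ = ∑ r ∈ R φ, (x r : ℂ) • r := by
  have hφS := hsub hφ
  obtain ⟨m, -, hm, -, -⟩ := sys_norm hS hφS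
  have hd : φ - Cfsg.conjFun φ ∈ Cfsg.zspanOn S₁ {1}ᶜ := mem_zspanOn_one.2
    ⟨zspan_sub (subset_zspan S₁ hφ) (subset_zspan S₁ hφc),
      by rw [Pi.sub_apply, sys_conj_one hS hφS, sub_self]⟩
  have hin : Cfsg.classInner (T₁ φ) (τ (φ - Cfsg.conjFun φ)) = (m : ℂ) := by
    rw [← hagree _ hd, hT₁.2.2.1 _ (subset_zspan S₁ hφ) _ hd.1, classInner_sub_right, hm,
      sys_orth_conj hS hφS, sub_zero]
  obtain ⟨x, -, hge, -, hres⟩ := sys_project hS hφS (hT₁.2.2.2 _ (subset_zspan S₁ hφ)) hin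
  refine ⟨x, sub_eq_zero.1 (eq_zero_of_classInner_self ?_)⟩
  have hnn := classInner_self_re_nonneg (T₁ φ - ∑ r ∈ R φ, (x r : ℂ) • r)
  rw [hres, hT₁.2.2.1 _ (subset_zspan S₁ hφ) _ (subset_zspan S₁ hφ), hm] at hnn ⊢
  simp only [Complex.sub_re, Complex.intCast_re, Complex.natCast_re] at hnn
  have hle : ((∑ r ∈ R φ, x r ^ 2 : ℤ) : ℝ) ≤ (((m : ℤ)) : ℝ) := by push_cast; push_cast at hnn; linarith
  rw [le_antisymm (Int.cast_le.1 hle) hge]
  simp

theorem coherent_extend (hS : Cfsg.IsCoherenceSystem S τ R) (d n : (L → ℂ) → ℕ)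
    (hd : ∀ φ ∈ S, φ 1 = (d φ : ℂ)) (hn : ∀ φ ∈ S, Cfsg.classInner φ φ = (n φ : ℂ))
    (S₁ : Finset (L → ℂ)) (hS₁ : ↑S₁ ⊆ S) (hS₁c : ∀ φ ∈ S₁, Cfsg.conjFun φ ∈ S₁)
    (hcoh : Cfsg.IsCoherent (↑S₁ : Set (L → ℂ)) {1}ᶜ τ) {χ : L → ℂ} (hχ : χ ∈ S)
    (hχ₁ : χ ∉ S₁) (hχ₂ : Cfsg.conjFun χ ∉ S₁) {χ₁ : L → ℂ} (h₁ : χ₁ ∈ S₁)
    (hdvd : d χ₁ ∣ d χ)
    (hineq : (2 * d χ * d χ₁ : ℝ) < ∑ φ ∈ S₁, ((d φ : ℝ) ^ 2 / (n φ : ℝ))) :
    Cfsg.IsCoherent (↑S₁ ∪ {χ, Cfsg.conjFun χ} : Set (L → ℂ)) {1}ᶜ τ := by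
  obtain ⟨-, T₁, hT₁, hagree⟩ := hcoh
  have hmS : ∀ {φ : L → ℂ}, φ ∈ S₁ → φ ∈ S := fun h => hS₁ h
  have hnpos : ∀ φ ∈ S, 0 < n φ := by
    intro φ hφ
    obtain ⟨m, hm0, hm, -⟩ := sys_norm hS hφ
    rw [hn φ hφ] at hm
    have e : n φ = m := by exact_mod_cast hm
    omega
  obtain ⟨k, -, hk, hcard, hkc⟩ := sys_norm hS hχ
  obtain ⟨a, ha⟩ := hdvd
  have hd1 : (0 : ℝ) < d χ₁ := by
    rcases Nat.eq_zero_or_pos (d χ₁) with h | h
    · exact absurd (by rw [hd χ₁ (hmS h₁), h, Nat.cast_zero]) (sys_one_ne_zero hS (hmS h₁))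
    · exact_mod_cast h
  have hapos : 0 < a := by
    rcases Nat.eq_zero_or_pos a with h | h
    · exact absurd (by rw [hd χ hχ, ha, h, mul_zero, Nat.cast_zero]) (sys_one_ne_zero hS hχ)
    · exact h
  set w := χ - (a : ℂ) • χ₁ with hwdef
  have hwz : ∀ U : Set (L → ℂ), χ ∈ U → χ₁ ∈ U → w ∈ Cfsg.zspanOn U {1}ᶜ := fun U h h' =>
    mem_zspanOn_one.2 ⟨zspan_sub (subset_zspan U h)
      (by simpa using zspan_smul (a : ℤ) (subset_zspan U h')),
      by rw [hwdef, Pi.sub_apply, Pi.smul_apply, hd χ hχ, hd χ₁ (hmS h₁), ha, smul_eq_mul]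
         push_cast; ring⟩
  have hw := hwz S hχ (hmS h₁)
  set v := τ w with hvdef
  have hv : Cfsg.IsGeneralizedCharacter G v := hS.isometry.2.2.2 _ hw
  have neφ : ∀ φ ∈ S₁, φ ≠ χ ∧ φ ≠ Cfsg.conjFun χ := fun φ h =>
    ⟨fun e => hχ₁ (e ▸ h), fun e => hχ₂ (e ▸ h)⟩
  have oχ : ∀ φ ∈ S₁, Cfsg.classInner χ φ = 0 := fun φ h =>
    hS.orthogonal χ hχ φ (hmS h) (neφ φ h).1.symm
  have oχ' : ∀ φ ∈ S₁, Cfsg.classInner (Cfsg.conjFun χ) φ = 0 := fun φ h =>
    hS.orthogonal _ (hS.conj_mem χ hχ) φ (hmS h) (neφ φ h).2.symm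
  have oφ : ∀ φ ∈ S₁, Cfsg.classInner φ χ = 0 := fun φ h =>
    hS.orthogonal φ (hmS h) χ hχ (neφ φ h).1
  have oφ' : ∀ φ ∈ S₁, Cfsg.classInner φ (Cfsg.conjFun χ) = 0 := fun φ h =>
    hS.orthogonal φ (hmS h) _ (hS.conj_mem χ hχ) (neφ φ h).2
  have hperp : ∀ φ ∈ S₁, ∀ r ∈ R χ, Cfsg.classInner r (T₁ φ) = 0 := by
    intro φ hφ r hr
    obtain ⟨x, hx⟩ := image_mem hS hS₁ hT₁ hagree (Finset.mem_coe.2 hφ) (hS₁c φ hφ)
    rw [hx, classInner_sum_right]
    refine Finset.sum_eq_zero fun s hs => ?_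
    rw [classInner_smul_right, ← classInner_conj_symm s r,
      sys_disjoint hS hχ (hmS hφ) (neφ φ hφ).1 (neφ φ hφ).2 s hs r hr, map_zero, mul_zero]
  have hin : Cfsg.classInner v (τ (χ - Cfsg.conjFun χ)) = (k : ℂ) := by
    rw [hvdef, hS.isometry.2.2.1 _ hw _ (sys_diff_mem hS hχ), hwdef, classInner_sub_left,
      classInner_smul_left, classInner_sub_right, classInner_sub_right, hk, sys_orth_conj hS hχ,
      oφ χ₁ h₁, oφ' χ₁ h₁]
    ring
  obtain ⟨x, hx, hxge, hxsum, hres⟩ := sys_project hS hχ hv hin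
  set X := ∑ r ∈ R χ, (x r : ℂ) • r with hXdef
  have hX : Cfsg.IsGeneralizedCharacter G X :=
    gen_sum _ fun r hr => gen_intCast_smul (hS.virtual χ hχ r hr) _
  have hXperp : ∀ φ ∈ S₁, Cfsg.classInner X (T₁ φ) = 0 := by
    intro φ hφ
    rw [hXdef, classInner_sum_left]
    exact Finset.sum_eq_zero fun r hr => by rw [classInner_smul_left, hperp φ hφ r hr, mul_zero]
  have hTgen : ∀ φ ∈ S₁, Cfsg.IsGeneralizedCharacter G (T₁ φ) := fun φ h =>
    hT₁.2.2.2 _ (subset_zspan _ (Finset.mem_coe.2 h))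
  have hTin : ∀ φ ∈ S₁, ∀ ψ ∈ S₁, Cfsg.classInner (T₁ φ) (T₁ ψ) = Cfsg.classInner φ ψ :=
    fun φ h ψ h' => hT₁.2.2.1 _ (subset_zspan _ (Finset.mem_coe.2 h)) _
      (subset_zspan _ (Finset.mem_coe.2 h'))
  have hcex : ∀ φ, ∃ c : ℤ, φ ∈ S₁ → Cfsg.classInner v (T₁ φ) = c := fun φ => by
    by_cases hφ : φ ∈ S₁
    · obtain ⟨c, hc⟩ := classInner_gen_int hv (hTgen φ hφ); exact ⟨c, fun _ => hc⟩
    · exact ⟨0, fun h => absurd h hφ⟩
  choose c hc using hcex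
  set δ : (L → ℂ) → ℝ := fun φ => if φ = χ₁ then 1 else 0 with hδ
  set b : ℤ := c χ₁ + (a : ℤ) * n χ₁ with hb
  have hrel : ∀ φ ∈ S₁, (d χ₁ : ℝ) * ((c φ : ℝ) + a * n χ₁ * δ φ) = d φ * b := by
    intro φ hφ
    set z := ((d χ₁ : ℤ) : ℂ) • φ - ((d φ : ℤ) : ℂ) • χ₁ with hzdef
    have m1 : φ ∈ Cfsg.zspan (↑S₁ : Set (L → ℂ)) := subset_zspan _ (Finset.mem_coe.2 hφ)
    have m2 : χ₁ ∈ Cfsg.zspan (↑S₁ : Set (L → ℂ)) := subset_zspan _ (Finset.mem_coe.2 h₁)
    have hz : z ∈ Cfsg.zspanOn (↑S₁ : Set (L → ℂ)) {1}ᶜ := mem_zspanOn_one.2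
      ⟨zspan_sub (zspan_smul _ m1) (zspan_smul _ m2),
        by rw [hzdef, Pi.sub_apply, Pi.smul_apply, Pi.smul_apply, hd φ (hmS hφ),
            hd χ₁ (hmS h₁), smul_eq_mul, smul_eq_mul]
           push_cast; ring⟩
    have h' := hS.isometry.2.2.1 w hw z (zspanOn_mono _ hS₁ hz)
    rw [← hvdef, ← hagree z hz, hzdef, span_iso_sub hT₁ (zspan_smul _ m1) (zspan_smul _ m2),
      span_iso_smul hT₁ m1, span_iso_smul hT₁ m2, classInner_sub_right, classInner_smul_right,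
      classInner_smul_right, map_intCast, map_intCast, hc φ hφ, hc χ₁ h₁, classInner_sub_right,
      classInner_smul_right, classInner_smul_right, map_intCast, map_intCast, hwdef,
      classInner_sub_left, classInner_sub_left, classInner_smul_left, classInner_smul_left,
      oχ φ hφ, oχ χ₁ h₁, hn χ₁ (hmS h₁)] at h'
    have h'' : (d χ₁ : ℂ) * c φ - d φ * c χ₁ =
        d χ₁ * (0 - a * Cfsg.classInner χ₁ φ) - d φ * (0 - a * n χ₁) := by
      simpa using h'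
    have hin1 : Cfsg.classInner χ₁ φ = ((n χ₁ * δ φ : ℝ) : ℂ) := by
      by_cases he : φ = χ₁
      · rw [he, hn χ₁ (hmS h₁)]; simp [hδ]
      · rw [hS.orthogonal χ₁ (hmS h₁) φ (hmS hφ) (Ne.symm he)]; simp [hδ, he]
    rw [hin1] at h''
    have hreal : (d χ₁ : ℝ) * c φ - d φ * c χ₁ =
        d χ₁ * (0 - a * (n χ₁ * δ φ)) - d φ * (0 - a * n χ₁) := by exact_mod_cast h''
    rw [hb]; push_cast
    linarith
  set q : ℝ := ∑ φ ∈ S₁, ((d φ : ℝ) ^ 2 / (n φ : ℝ)) with hq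
  have hbess := bessel S₁ T₁ (fun φ => (n φ : ℝ)) (fun φ => (c φ : ℝ)) (v - X)
    (fun i hi j hj h => by rw [hTin i hi j hj, hS.orthogonal i (hmS hi) j (hmS hj) h])
    (fun i hi => by rw [hTin i hi i hi, hn i (hmS hi)]; simp)
    (fun i hi => by exact_mod_cast (hnpos i (hmS hi)).ne')
    (fun i hi => by rw [classInner_sub_left, hXperp i hi, sub_zero, hc i hi]; simp)
  have hsumc : ∑ φ ∈ S₁, (c φ : ℝ) ^ 2 / (n φ : ℝ) =
      (b : ℝ) ^ 2 * q / (d χ₁ : ℝ) ^ 2 - 2 * a * b + (a : ℝ) ^ 2 * n χ₁ := by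
    have e : ∀ φ ∈ S₁, (c φ : ℝ) ^ 2 / (n φ : ℝ) =
        (b : ℝ) ^ 2 / (d χ₁ : ℝ) ^ 2 * ((d φ : ℝ) ^ 2 / (n φ : ℝ)) +
          δ φ * ((a : ℝ) ^ 2 * n χ₁ - 2 * a * b) := by
      intro φ hφ
      have hcφ : (c φ : ℝ) = d φ * b / d χ₁ - a * n χ₁ * δ φ := by
        rw [← hrel φ hφ]; field_simp; ring
      have hn1 : (n χ₁ : ℝ) ≠ 0 := by exact_mod_cast (hnpos χ₁ (hmS h₁)).ne'
      rw [hcφ]
      by_cases he : φ = χ₁
      · subst he; simp only [hδ, if_pos]; field_simp; ring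
      · simp only [hδ, if_neg he]; field_simp; ring
    rw [Finset.sum_congr rfl e, Finset.sum_add_distrib, ← Finset.mul_sum, ← Finset.sum_mul, ← hq]
    simp only [hδ, Finset.sum_ite_eq', if_pos h₁]
    ring
  have hvv : Cfsg.classInner v v = (((k : ℝ) + (a : ℝ) ^ 2 * n χ₁ : ℝ) : ℂ) := by
    rw [hvdef, hS.isometry.2.2.1 _ hw _ hw, hwdef, classInner_sub_left, classInner_sub_right,
      classInner_sub_right, classInner_smul_left, classInner_smul_left, classInner_smul_right,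
      classInner_smul_right, hk, oχ χ₁ h₁, oφ χ₁ h₁, hn χ₁ (hmS h₁), map_natCast]
    push_cast; ring
  have hnn := classInner_self_re_nonneg
    (v - X - ∑ i ∈ S₁, (((c i : ℝ) / (n i : ℝ) : ℝ) : ℂ) • T₁ i)
  rw [hbess, hres, hvv, hsumc] at hnn
  simp only [Complex.sub_re, Complex.intCast_re, Complex.ofReal_re] at hnn
  have hq2 : 2 * (a : ℝ) < q / (d χ₁ : ℝ) ^ 2 := by
    rw [lt_div_iff₀ (by positivity)]
    rw [ha] at hineq; push_cast at hineq
    calc 2 * (a : ℝ) * (d χ₁ : ℝ) ^ 2 = 2 * ((d χ₁ : ℝ) * a) * d χ₁ := by ring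
      _ < _ := hineq
  have hxge' : (k : ℝ) ≤ ((∑ r ∈ R χ, x r ^ 2 : ℤ) : ℝ) := by exact_mod_cast hxge
  have hb0 : b = 0 := by
    by_contra hne
    have h1 : (b : ℝ) ^ 2 * (2 * a) < (b : ℝ) ^ 2 * (q / (d χ₁ : ℝ) ^ 2) :=
      mul_lt_mul_of_pos_left hq2 (by positivity)
    rw [← mul_div_assoc] at h1
    have h2 : (a : ℝ) * ((b : ℝ) ^ 2 - b) < 0 := by linarith
    have h3 : (b : ℝ) ^ 2 - b < 0 := by
      by_contra h4
      exact absurd h2 (not_lt.2 (mul_nonneg (Nat.cast_nonneg a) (not_lt.1 h4)))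
    have h5 : b ^ 2 - b < 0 := by exact_mod_cast h3
    nlinarith [mul_self_nonneg (2 * b - 1)]
  have hxle : ∑ r ∈ R χ, x r ^ 2 ≤ (k : ℤ) := by
    rw [hb0] at hnn
    have : ((∑ r ∈ R χ, x r ^ 2 : ℤ) : ℝ) ≤ (((k : ℤ)) : ℝ) := by
      push_cast at hnn ⊢
      have : (0:ℝ) ^ 2 * q / (d χ₁ : ℝ) ^ 2 = 0 := by norm_num
      linarith
    exact Int.cast_le.1 this
  have hxk : ∑ r ∈ R χ, x r ^ 2 = (k : ℤ) := le_antisymm hxle hxge
  have hveq : v = X - (a : ℂ) • T₁ χ₁ := by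
    have h0 : v - X - ∑ i ∈ S₁, (((c i : ℝ) / (n i : ℝ) : ℝ) : ℂ) • T₁ i = 0 := by
      apply eq_zero_of_classInner_self
      rw [hbess, hres, hvv, hsumc, hxk, hb0]
      push_cast; ring
    have hsum : ∑ i ∈ S₁, (((c i : ℝ) / (n i : ℝ) : ℝ) : ℂ) • T₁ i = -((a : ℂ) • T₁ χ₁) := by
      rw [Finset.sum_eq_single χ₁]
      · have h' := hrel χ₁ h₁
        rw [hb0, hδ] at h'
        have e : (c χ₁ : ℝ) = -(a * n χ₁ : ℝ) := by
          simp only [if_pos, Int.cast_zero, mul_zero, mul_eq_zero, hd1.ne', false_or] at h'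
          linarith
        rw [e, neg_div, mul_div_assoc, div_self (by exact_mod_cast (hnpos χ₁ (hmS h₁)).ne'),
          mul_one, ← neg_smul]
        congr 1; push_cast; ring
      · intro i hi hne
        have h' := hrel i hi
        rw [hb0, hδ] at h'
        have e : (c i : ℝ) = 0 := by
          simpa [hne, hd1.ne'] using h'
        rw [e, zero_div, Complex.ofReal_zero, zero_smul]
      · exact fun h => absurd h₁ h
    rw [hsum] at h0
    exact sub_eq_zero.1 (by rw [← h0]; abel)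
  have hXX : Cfsg.classInner X X = (k : ℂ) := by
    have : (∑ r ∈ R χ, x r * x r : ℤ) = (k : ℤ) := by
      rw [← hxk]; exact Finset.sum_congr rfl fun r _ => (sq _).symm
    calc Cfsg.classInner X X = ∑ r ∈ R χ, (x r : ℂ) * x r := by
          rw [hXdef, classInner_sum_left]
          refine Finset.sum_congr rfl fun r hr => ?_
          rw [classInner_smul_left, classInner_sum_right, Finset.sum_eq_single r
            (fun s hs hne => by rw [classInner_smul_right, hS.orthonormal χ hχ r hr s hs,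
              if_neg hne.symm, mul_zero]) (fun h => absurd hr h), classInner_smul_right,
            hS.orthonormal χ hχ r hr r hr, if_pos rfl, map_intCast, mul_one]
      _ = _ := by exact_mod_cast this
  set E := τ (χ - Cfsg.conjFun χ) with hEdef
  have hXE : Cfsg.classInner X E = (k : ℂ) := by
    rw [hEdef, hS.sum_eq χ hχ, classInner_sum_right, ← show ((∑ r ∈ R χ, x r : ℤ) : ℂ) = (k : ℂ) by
      rw [hxsum]; simp, Int.cast_sum]
    refine Finset.sum_congr rfl fun r hr => ?_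
    rw [hXdef, classInner_sum_left, Finset.sum_eq_single r
      (fun s hs hne => by rw [classInner_smul_left, hS.orthonormal χ hχ s hs r hr, if_neg hne,
        mul_zero]) (fun h => absurd hr h), classInner_smul_left, hS.orthonormal χ hχ r hr r hr,
      if_pos rfl, mul_one]
  have hEX : Cfsg.classInner E X = (k : ℂ) := by
    rw [← classInner_conj_symm X E, hXE, map_natCast]
  have hEE : Cfsg.classInner E E = 2 * (k : ℂ) := by
    rw [hEdef, hS.isometry.2.2.1 _ (sys_diff_mem hS hχ) _ (sys_diff_mem hS hχ), classInner_sub_left,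
      classInner_sub_right, classInner_sub_right, hk, hkc, sys_orth_conj hS hχ,
      ← classInner_conj_symm χ (Cfsg.conjFun χ), sys_orth_conj hS hχ, map_zero]
    ring
  have hEperp : ∀ φ ∈ S₁, Cfsg.classInner E (T₁ φ) = 0 := fun φ hφ => by
    rw [hEdef, hS.sum_eq χ hχ, classInner_sum_left]
    exact Finset.sum_eq_zero fun r hr => hperp φ hφ r hr
  have hXperp' : ∀ φ ∈ S₁, Cfsg.classInner (T₁ φ) X = 0 := fun φ h => by
    rw [← classInner_conj_symm X, hXperp φ h, map_zero]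
  have hEperp' : ∀ φ ∈ S₁, Cfsg.classInner (T₁ φ) E = 0 := fun φ h => by
    rw [← classInner_conj_symm E, hEperp φ h, map_zero]
  set S₀ := insert χ (insert (Cfsg.conjFun χ) S₁) with hS₀
  have hcoe : (↑S₀ : Set (L → ℂ)) = ↑S₁ ∪ {χ, Cfsg.conjFun χ} := by
    ext y; simp [hS₀]
  have hS₀S : ∀ y ∈ S₀, y ∈ S := by
    intro y hy
    simp only [hS₀, Finset.mem_insert] at hy
    rcases hy with rfl | rfl | h
    exacts [hχ, hS.conj_mem χ hχ, hmS h]
  set f := fun y => if y = χ then X else if y = Cfsg.conjFun χ then X - E else T₁ y with hf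
  have fχ : f χ = X := by simp [hf]
  have fχ' : f (Cfsg.conjFun χ) = X - E := by simp [hf, hS.conj_ne χ hχ]
  have fφ : ∀ φ ∈ S₁, f φ = T₁ φ := fun φ h => by simp [hf, (neφ φ h).1, (neφ φ h).2]
  rw [← hcoe]
  have o : Cfsg.classInner χ (Cfsg.conjFun χ) = 0 := sys_orth_conj hS hχ
  have o' : Cfsg.classInner (Cfsg.conjFun χ) χ = 0 := by rw [← classInner_conj_symm, o, map_zero]
  refine coherent_of_images (fun p hp r hr => hS.orthogonal p (hS₀S p hp) r (hS₀S r hr))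
    (fun p hp => sys_ne_zero hS (hS₀S p hp)) f ?_ ?_ ?_ ?_
  · intro y hy
    simp only [hS₀, Finset.mem_insert] at hy
    rcases hy with rfl | rfl | h
    · rw [fχ]; exact hX
    · rw [fχ']; exact gen_sub hX (hS.isometry.2.2.2 _ (sys_diff_mem hS hχ))
    · rw [fφ y h]; exact hTgen y h
  · intro p hp r hr
    simp only [hS₀, Finset.mem_insert] at hp hr
    rcases hp with rfl | rfl | hp <;> rcases hr with rfl | rfl | hr
    · rw [fχ, hXX, hk]
    · rw [fχ, fχ', classInner_sub_right, hXX, hXE, o, sub_self]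
    · rw [fχ, fφ r hr, hXperp r hr, oχ r hr]
    · rw [fχ, fχ', classInner_sub_left, hXX, hEX, o', sub_self]
    · rw [fχ', classInner_sub_left, classInner_sub_right, classInner_sub_right, hXX, hXE, hEX,
        hEE, hkc]; ring
    · rw [fχ', fφ r hr, classInner_sub_left, hXperp r hr, hEperp r hr, oχ' r hr, sub_self]
    · rw [fχ, fφ p hp, hXperp' p hp, oφ p hp]
    · rw [fχ', fφ p hp, classInner_sub_right, hXperp' p hp, hEperp' p hp, oφ' p hp, sub_self]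
    · rw [fφ p hp, fφ r hr, hTin p hp r hr]
  · exact exists_ne_zero_zspanOn hS hχ (by simp [hS₀]) (by simp [hS₀])
  · intro T hT α hα
    obtain ⟨hαs, hα1⟩ := mem_zspanOn_one.1 hα
    set W := Submodule.span ℤ (↑S₁ : Set (L → ℂ)) with hW
    set e := χ - Cfsg.conjFun χ with he
    have key : ∀ β ∈ Cfsg.zspan (↑S₀ : Set (L → ℂ)), ∃ m l : ℤ,
        β - (m : ℂ) • w - (l : ℂ) • e ∈ W := by
      intro β hβ
      induction hβ using Submodule.span_induction with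
      | mem z hz =>
        simp only [hS₀, Finset.mem_coe, Finset.mem_insert] at hz
        rcases hz with rfl | rfl | hz
        · refine ⟨1, 0, ?_⟩
          have : z - ((1 : ℤ) : ℂ) • w - ((0 : ℤ) : ℂ) • e = ((a : ℤ) : ℂ) • χ₁ := by
            simp [hwdef]
          rw [this]; exact zspan_smul _ (subset_zspan _ (Finset.mem_coe.2 h₁))
        · refine ⟨1, -1, ?_⟩
          have : Cfsg.conjFun χ - ((1 : ℤ) : ℂ) • w - ((-1 : ℤ) : ℂ) • e = ((a : ℤ) : ℂ) • χ₁ := by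
            simp [hwdef, he]
          rw [this]; exact zspan_smul _ (subset_zspan _ (Finset.mem_coe.2 h₁))
        · exact ⟨0, 0, by simpa using Submodule.subset_span (Finset.mem_coe.2 hz)⟩
      | zero => exact ⟨0, 0, by simp⟩
      | add p r _ _ ihp ihr =>
        obtain ⟨m, l, hp⟩ := ihp
        obtain ⟨m', l', hr⟩ := ihr
        refine ⟨m + m', l + l', ?_⟩
        convert W.add_mem hp hr using 1
        push_cast; rw [add_smul, add_smul]; abel
      | smul t p _ ih =>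
        obtain ⟨m, l, hp⟩ := ih
        refine ⟨t * m, t * l, ?_⟩
        convert W.smul_mem t hp using 1
        funext y
        simp only [Pi.sub_apply, Pi.smul_apply, zsmul_eq_mul, smul_eq_mul, Pi.mul_apply, Pi.intCast_apply]
        push_cast; ring
    obtain ⟨m, l, hβ⟩ := key α hαs
    set β := α - (m : ℂ) • w - (l : ℂ) • e
    have hw1 : w 1 = 0 := (mem_zspanOn_one.1 hw).2
    have he1 : e 1 = 0 := (mem_zspanOn_one.1 (sys_diff_mem hS hχ)).2
    have hβ1 : β ∈ Cfsg.zspanOn (↑S₁ : Set (L → ℂ)) {1}ᶜ :=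
      mem_zspanOn_one.2 ⟨hβ, by simp [β, hα1, hw1, he1]⟩
    have Tw : T w = τ w := by
      rw [hwdef, map_sub, map_smul, hT χ (by simp [hS₀]), hT χ₁ (by simp [hS₀, h₁]), fχ, fφ χ₁ h₁]
      exact hveq.symm
    have Te : T e = τ e := by
      rw [he, map_sub, hT χ (by simp [hS₀]), hT _ (by simp [hS₀]), fχ, fχ', sub_sub_cancel]
    have Tβ : T β = τ β := by
      rw [← hagree β hβ1]
      exact span_iso_agree hT₁ T (fun y hy => by
        rw [hT y (by simp [hS₀, Finset.mem_coe.1 hy]), fφ y hy]) hβ1.1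
    have dec : α = β + ((m : ℂ) • w + (l : ℂ) • e) := by simp only [β]; abel
    have mW : (m : ℂ) • w ∈ Cfsg.zspanOn S {1}ᶜ := by
      rw [Int.cast_smul_eq_zsmul]; exact (zspanOnMod S {1}ᶜ).smul_mem m hw
    have mE : (l : ℂ) • e ∈ Cfsg.zspanOn S {1}ᶜ := by
      rw [Int.cast_smul_eq_zsmul]; exact (zspanOnMod S {1}ᶜ).smul_mem l (sys_diff_mem hS hχ)
    rw [dec, map_add, map_add, map_smul, map_smul, Tw, Te, Tβ,
      hS.isometry.1 _ (zspanOn_mono _ hS₁ hβ1) _ ((zspanOnMod S {1}ᶜ).add_mem mW mE),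
      hS.isometry.1 _ mW _ mE, iso_smul hS.isometry hw, iso_smul hS.isometry (sys_diff_mem hS hχ)]

end Cfsg.Agent.Lib.Isometry.Criterion
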