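import Cfsg.Agent.Lib.Isometry.InducedSystem
set_option autoImplicit false

/-! Coherence spreads down a nilpotent section. -/

namespace Cfsg.Agent.Lib.Isometry.InducedNilpotent

open Cfsg.Agent.Lib.Isometry

universe u v
variable {L : Type u} [Group L] [Fintype L] {G : Type v} [Group G] [Fintype G]

theorem coherent_nilpotent (K : Subgroup L) [hK : K.Normal] {S : Set (L → ℂ)}
    {τ : (L → ℂ) → (G → ℂ)} {R : (L → ℂ) → Finset (G → ℂ)}
    (hS : Cfsg.IsCoherenceSystem S τ R) (hsub : Cfsg.inducedIrrAbove K ⊥ ⊆ S)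
    (hsolv : Group.IsSolvable K) (M H₁ H : Subgroup L) [M.Normal] [H₁.Normal] [H.Normal]
    (hMH₁ : M ≤ H₁) (hH₁H : H₁ ≤ H) (hHK : H ≤ K) [(M.subgroupOf H).Normal]
    (hnil : Group.IsNilpotent (↥H ⧸ M.subgroupOf H))
    (hcoh : Cfsg.IsCoherent (Cfsg.inducedIrrAbove K H₁) {1}ᶜ τ)
    (hbig : 4 * K.index ^ 2 + 1 < H₁.relIndex H) :
    Cfsg.IsCoherent (Cfsg.inducedIrrAbove K M) {1}ᶜ τ := by
  let D : ℕ → Subgroup L := fun i => Nat.rec H₁ (fun _ X => ⁅X, H⁆ ⊔ M) i
  have hD0 : D 0 = H₁ := rfl
  have hDs : ∀ i, D (i + 1) = ⁅D i, H⁆ ⊔ M := fun _ => rfl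
  haveI hDn : ∀ i, (D i).Normal := by
    intro i
    induction i with
    | zero => rw [hD0]; infer_instance
    | succ i ih => rw [hDs]; infer_instance
  have hDle : ∀ i, D i ≤ H₁ := by
    intro i
    induction i with
    | zero => exact le_rfl
    | succ i ih =>
      rw [hDs]
      exact sup_le ((Subgroup.commutator_mono ih le_rfl).trans (Subgroup.commutator_le_left H₁ H)) hMH₁
  have hDanti : ∀ i, D (i + 1) ≤ D i := by
    intro i
    induction i with
    | zero => exact hDle 1
    | succ i ih =>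
      rw [hDs (i + 1), hDs i]
      exact sup_le_sup_right (Subgroup.commutator_mono ih le_rfl) M
  have hMle : ∀ i, M ≤ D i := by
    intro i
    cases i with
    | zero => exact hMH₁
    | succ i => rw [hDs]; exact le_sup_right
  set f := QuotientGroup.mk' M
  have hM0 : M.map f = ⊥ := (Subgroup.map_eq_bot_iff M).2 (QuotientGroup.ker_mk' M).ge
  have hlcs : ∀ i, (D i).map f ≤ (H.map f).lowerCentralSeries i := by
    intro i
    induction i with
    | zero => exact Subgroup.map_mono hH₁H
    | succ i ih =>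
      rw [hDs, Subgroup.map_sup, hM0, sup_bot_eq, Subgroup.map_commutator,
        Subgroup.lowerCentralSeries_succ]
      exact Subgroup.commutator_mono ih le_rfl
  obtain ⟨N, hN⟩ := Subgroup.nilpotent_iff_lowerCentralSeries.1 hnil
  have hN' : H.lowerCentralSeries N ≤ M := by
    have h1 : ((⊤ : Subgroup H).lowerCentralSeries N).map (QuotientGroup.mk' (M.subgroupOf H)) = ⊥ := by
      rw [Subgroup.map_lowerCentralSeries,
        Subgroup.map_top_of_surjective _ (QuotientGroup.mk'_surjective _), hN]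
    rw [Subgroup.map_eq_bot_iff, QuotientGroup.ker_mk'] at h1
    rw [← Subgroup.top_subtype_lowerCentralSeries]
    exact Subgroup.map_le_iff_le_comap.2 h1
  have hDN : D N = M := by
    refine le_antisymm ?_ (hMle N)
    have h := hlcs N
    rw [← Subgroup.map_lowerCentralSeries, (Subgroup.map_eq_bot_iff _).2 (hN'.trans (QuotientGroup.ker_mk' M).ge),
      le_bot_iff, Subgroup.map_eq_bot_iff, QuotientGroup.ker_mk'] at h
    exact h
  suffices h : ∀ i, Cfsg.IsCoherent (Cfsg.inducedIrrAbove K (D i)) {1}ᶜ τ from hDN ▸ h N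
  intro i
  induction i with
  | zero => exact hcoh
  | succ i ih =>
    have hne : H₁ ≠ H := fun h => by rw [h, Subgroup.relIndex_self] at hbig; omega
    have hlt : H₁ < K := (lt_of_le_of_ne hH₁H hne).trans_le hHK
    have n1 : (D i).Normal := hDn i
    have n2 : (D (i + 1)).Normal := hDn (i + 1)
    have step := @InducedSystem.coherent_step L _ _ G _ _ K hK S τ R hS hsub hsolv (D i) (D (i + 1)) H (D i) n1 n2
    refine step ((hDle i).trans_lt hlt) ((hDle (i + 1)).trans_lt hlt) (hDanti i) ((hDle i).trans hH₁H) hHK ?_ ih ?_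
    · intro x hx y hy
      rw [hDs, ← commutatorElement_def]
      exact le_sup_left (b := M) (Subgroup.commutator_mem_commutator hx hy)
    · have hn : 4 * K.index ^ 2 + 1 < (D i).relIndex H :=
        hbig.trans_le (Nat.le_of_dvd (Nat.pos_of_ne_zero (by
            exact Subgroup.index_ne_zero_of_finite))
          (Subgroup.relIndex_dvd_of_le_left H (hDle i)))
      rw [← Subgroup.relIndex_mul_index hHK,
        ← Subgroup.relIndex_mul_relIndex (D i) H K ((hDle i).trans hH₁H) hHK]
      have hk : 1 ≤ H.relIndex K := Nat.pos_of_ne_zero (Subgroup.index_ne_zero_of_finite (H := H.subgroupOf K))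
      set n := (D i).relIndex H
      set k := H.relIndex K
      set e := K.index
      obtain ⟨n', hn'⟩ : ∃ n', n = n' + 1 := ⟨n - 1, by omega⟩
      rw [hn'] at hn ⊢
      have h1 : k * n' ≤ (n' + 1) * k - 1 := by
        have : (n' + 1) * k = k * n' + k := by ring
        omega
      refine lt_of_lt_of_le ?_ (Nat.pow_le_pow_left h1 2)
      calc 4 * (k * e) ^ 2 * (n' + 1) = k ^ 2 * (4 * e ^ 2 * (n' + 1)) := by ring
        _ < k ^ 2 * n' ^ 2 := by
            refine Nat.mul_lt_mul_of_pos_left ?_ (pow_pos hk 2)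
            nlinarith
        _ = (k * n') ^ 2 := by ring

end Cfsg.Agent.Lib.Isometry.InducedNilpotent
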