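import Cfsg.Agent.Lib.Isometry.Inner
import Cfsg.Agent.Lib.Characters.Kernel
set_option autoImplicit false

/-! Sums over the irreducible characters with a given normal subgroup in the kernel. -/

namespace Cfsg.Agent.Lib.Isometry.Inflate

open scoped ComplexConjugate Classical

universe u
variable {L : Type u} [Group L] [Finite L]

/-- The irreducible characters whose kernel contains `N`. -/
noncomputable def trivOn (N : Subgroup L) : Finset (L → ℂ) :=
  haveI := Fintype.ofFinite (Cfsg.IrrCharacter L)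
  (Finset.univ.filter fun χ : Cfsg.IrrCharacter L =>
      ∀ g ∈ N, (χ : L → ℂ) g = (χ : L → ℂ) 1).map ⟨Subtype.val, Subtype.val_injective⟩

theorem mem_trivOn {N : Subgroup L} {χ : L → ℂ} :
    χ ∈ trivOn N ↔ Cfsg.IsIrrCharacter L χ ∧ ∀ g ∈ N, χ g = χ 1 := by
  simp only [trivOn, Finset.mem_map, Finset.mem_filter, Finset.mem_univ, true_and,
    Function.Embedding.coeFn_mk]
  exact ⟨fun ⟨a, ha, e⟩ => e ▸ ⟨a.2, ha⟩, fun ⟨h, h'⟩ => ⟨⟨χ, h⟩, h', rfl⟩⟩

theorem trivOn_mono {N M : Subgroup L} (h : N ≤ M) : trivOn M ⊆ trivOn N := fun χ hχ => by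
  rw [mem_trivOn] at hχ ⊢
  exact ⟨hχ.1, fun g hg => hχ.2 g (h hg)⟩

/-- The irreducible characters trivial on `B` but not on `A`. -/
noncomputable def layer (A B : Subgroup L) : Finset (L → ℂ) := trivOn B \ trivOn A

theorem mem_layer {A B : Subgroup L} {χ : L → ℂ} :
    χ ∈ layer A B ↔
      Cfsg.IsIrrCharacter L χ ∧ (∀ g ∈ B, χ g = χ 1) ∧ ∃ g ∈ A, χ g ≠ χ 1 := by
  rw [layer, Finset.mem_sdiff, mem_trivOn, mem_trivOn]
  constructor
  · rintro ⟨⟨h, h'⟩, h2⟩
    refine ⟨h, h', ?_⟩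
    by_contra hne
    push Not at hne
    exact h2 ⟨h, hne⟩
  · rintro ⟨h, h', g, hg, hne⟩
    exact ⟨⟨h, h'⟩, fun h2 => hne (h2.2 g hg)⟩

theorem conj_mem_trivOn {N : Subgroup L} {χ : L → ℂ} (h : χ ∈ trivOn N) :
    Cfsg.conjFun χ ∈ trivOn N := by
  haveI := Fintype.ofFinite L
  rw [mem_trivOn] at h ⊢
  exact ⟨Inner.conjFun_irr h.1, fun g hg => congrArg (starRingEnd ℂ) (h.2 g hg)⟩

theorem conj_mem_layer {A B : Subgroup L} {χ : L → ℂ} (h : χ ∈ layer A B) :
    Cfsg.conjFun χ ∈ layer A B := by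
  rw [layer, Finset.mem_sdiff] at h ⊢
  refine ⟨conj_mem_trivOn h.1, fun h2 => h.2 ?_⟩
  simpa [Inner.conjFun_conjFun] using conj_mem_trivOn h2

/-- The regular character of the quotient, inflated. -/
theorem sum_trivOn (N : Subgroup L) [N.Normal] (g : L) :
    ∑ χ ∈ trivOn N, χ 1 * χ g = if g ∈ N then (N.index : ℂ) else 0 := by
  let _ := Fintype.ofFinite (Cfsg.IrrCharacter L)
  let _ := Fintype.ofFinite (Cfsg.IrrCharacter (L ⧸ N))
  rw [trivOn, Finset.sum_map,
    Finset.sum_subtype (p := fun χ : Cfsg.IrrCharacter L => ∀ g ∈ N, (χ : L → ℂ) g = (χ : L → ℂ) 1)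
      _ (fun χ => by simp)]
  rw [← (Characters.Kernel.inflateEquiv N).sum_comp]
  simp only [Function.Embedding.coeFn_mk, Characters.Kernel.inflateEquiv_apply, QuotientGroup.mk_one]
  rw [Characters.Complete.sum_degree_mul_apply, Subgroup.index_eq_card]
  simp only [QuotientGroup.eq_one_iff]

theorem sum_layer {A B : Subgroup L} [A.Normal] [B.Normal] (hBA : B ≤ A) (g : L) :
    ∑ χ ∈ layer A B, χ 1 * χ g =
      (if g ∈ B then (B.index : ℂ) else 0) - if g ∈ A then (A.index : ℂ) else 0 := by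
  rw [layer, Finset.sum_sdiff_eq_sub (trivOn_mono hBA), sum_trivOn, sum_trivOn]

theorem sum_sq_trivOn (N : Subgroup L) [N.Normal] :
    ∑ χ ∈ trivOn N, χ 1 * χ 1 = (N.index : ℂ) := by
  rw [sum_trivOn, if_pos N.one_mem]

theorem sum_sq_layer {A B : Subgroup L} [A.Normal] [B.Normal] (hBA : B ≤ A) :
    ∑ χ ∈ layer A B, χ 1 * χ 1 = (B.index : ℂ) - (A.index : ℂ) := by
  rw [sum_layer hBA, if_pos A.one_mem, if_pos B.one_mem]

/-- A layer between distinct normal subgroups is inhabited. -/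
theorem layer_nonempty {A B : Subgroup L} [A.Normal] [B.Normal] (hBA : B < A) :
    (layer A B).Nonempty := by
  by_contra h
  rw [Finset.not_nonempty_iff_eq_empty] at h
  have e := sum_sq_layer hBA.le
  rw [h, Finset.sum_empty, eq_comm, sub_eq_zero, Nat.cast_inj] at e
  have h1 := Subgroup.index_eq_zero_iff_infinite (H := A)
  have h2 := Subgroup.relIndex_mul_index hBA.le
  rw [e] at h2
  have hA : A.index ≠ 0 := Subgroup.index_ne_zero_of_finite
  have : B.relIndex A = 1 := mul_right_cancel₀ hA (by rw [h2, one_mul])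
  exact hBA.not_ge (Subgroup.relIndex_eq_one.1 this)

end Cfsg.Agent.Lib.Isometry.Inflate
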