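import Cfsg.Agent.Lib.Isometry.SibleyOdd
import Cfsg.Agent.Lib.Isometry.FeitCoherence
import Mathlib.GroupTheory.FixedPointFree

/-!
# Coherence for a TI subgroup with Frobenius normaliser

`dichotomy`: the kernel characters are coherent, or there is a single one (and the kernel is
elementary abelian of order `e + 1`), or the kernel is a nonabelian `2`-group with
`[K : K'] ≤ 4 e² + 1`.
-/

set_option autoImplicit false
set_option linter.unusedSectionVars false

namespace Cfsg.Agent.Lib.Isometry.TINilpotent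

open scoped Classical
open Cfsg.Agent.Lib.Isometry.Inflate Cfsg.Agent.Lib.Isometry.Layers

universe u

variable {L : Type u} [Group L] [Fintype L] {K : Subgroup L} [K.Normal]
  (hC : ∀ k ∈ K, k ≠ 1 → Subgroup.centralizer ({k} : Set L) ≤ K)

include hC in
/-- An even index forces an abelian kernel. -/
theorem comm_of_even_index (he : 2 ∣ K.index) : ∀ a ∈ K, ∀ b ∈ K, a * b = b * a := by
  have := Fact.mk Nat.prime_two
  obtain ⟨x, hx⟩ := exists_prime_orderOf_dvd_card' (G := L) 2
    (he.trans ⟨Nat.card K, K.index_mul_card.symm⟩)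
  have hxK : x ∉ K := fun h => absurd (Nat.eq_one_of_dvd_coprimes (Layers.coprime_index hC) he
    (hx ▸ Subgroup.orderOf_dvd_natCard K h)) (by norm_num)
  let φ : K →* K := (MulAut.conjNormal x : K ≃* K).toMonoidHom
  have hfix : MonoidHom.FixedPointFree φ := by
    intro k hk
    by_contra hk1
    have h : x * (k : L) * x⁻¹ = k := by
      simpa [φ, MulAut.conjNormal_apply] using congrArg Subtype.val hk
    exact hxK (hC k k.2 (fun e => hk1 (Subtype.ext e)) (TI.mem_centralizer_of_conj_eq h))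
  have hinv : Function.Involutive φ := fun k => Subtype.ext (by
    have hxx : x * x = 1 := by rw [← pow_two, ← hx, pow_orderOf_eq_one]
    show ((MulAut.conjNormal x) ((MulAut.conjNormal x) k) : L) = k
    rw [MulAut.conjNormal_apply, MulAut.conjNormal_apply,
      show x * (x * (k : L) * x⁻¹) * x⁻¹ = (x * x) * (k : L) * (x * x)⁻¹ by group, hxx, one_mul,
      inv_one, mul_one])
  intro a ha b hb
  exact congrArg Subtype.val (hfix.commute_all_of_involutive hinv ⟨a, ha⟩ ⟨b, hb⟩).eq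

include hC in
/-- `|K| = e + 1`: the kernel is elementary abelian and one character is not trivial on it. -/
theorem of_card_eq (hK : K ≠ ⊥) (he : Nat.card K = K.index + 1) :
    (Inflate.layer K ⊥).card = 1 ∧ ∃ p : ℕ, p.Prime ∧ Cfsg.IsElementaryAbelian p K := by
  have hone : (Inflate.layer K ⊥).card = 1 := by
    have h := FeitCoherence.sum_mdeg_layer hC ⊥ bot_le
    rw [Subgroup.relIndex_bot_left, he] at h
    have hs : ∑ χ ∈ Inflate.layer K ⊥, mdeg K χ ^ 2 = 1 := by
      refine Nat.eq_of_mul_eq_mul_left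
        (Nat.pos_of_ne_zero (Subgroup.index_ne_zero_of_finite (H := K))) ?_
      rw [mul_one]; omega
    refine le_antisymm ?_ (layer_nonempty (bot_lt_iff_ne_bot.2 hK)).card_pos
    rw [← hs, Finset.card_eq_sum_ones]
    exact Finset.sum_le_sum fun χ hχ => Nat.one_le_pow _ _ (mdeg_spec hC hχ).2.1
  obtain ⟨p, hp, hpd⟩ := Nat.exists_prime_and_dvd
    (show Nat.card K ≠ 1 from fun h => hK (Subgroup.card_eq_one.1 h))
  have := Fact.mk hp
  obtain ⟨k₀, hk₀⟩ := exists_prime_orderOf_dvd_card' (G := K) p hpd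
  have hk1 : (k₀ : L) ≠ 1 := fun h => by
    rw [show k₀ = 1 from Subtype.ext h, orderOf_one] at hk₀
    exact hp.one_lt.ne hk₀
  set C := Subgroup.centralizer ({(k₀ : L)} : Set L) with hCdef
  have hcl := Characters.Complete.card_conjugates_mul_centralizer (k₀ : L)
  have hCK : C ≤ K := hC k₀ k₀.2 hk1
  have hCle : Nat.card C ≤ Nat.card K := Nat.le_of_dvd Nat.card_pos (Subgroup.card_dvd_of_le hCK)
  let f : {x : L // IsConj (k₀ : L) x} → {k : K // k ≠ 1} := fun x => ⟨⟨x.1, by
      obtain ⟨c, hc⟩ := isConj_iff.1 x.2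
      exact hc ▸ Subgroup.Normal.conj_mem inferInstance _ k₀.2 c⟩, fun h => hk1 (by
      obtain ⟨c, hc⟩ := isConj_iff.1 x.2
      have h' : x.1 = 1 := congrArg Subtype.val h
      rw [h', mul_inv_eq_one, mul_eq_left] at hc
      exact hc)⟩
  have hf : Function.Injective f := fun x y h =>
    Subtype.ext (congrArg (fun z : {k : K // k ≠ 1} => ((z : K) : L)) h)
  have hcne : Nat.card {k : K // k ≠ 1} = K.index := by
    rw [Nat.card_eq_fintype_card, Fintype.card_subtype_compl, Fintype.card_subtype_eq,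
      ← Nat.card_eq_fintype_card, he, Nat.add_sub_cancel]
  have hle := Nat.card_le_card_of_injective f hf
  rw [hcne] at hle
  rw [← K.index_mul_card] at hcl
  have he0 : 0 < K.index := Nat.pos_of_ne_zero Subgroup.index_ne_zero_of_finite
  have hsize : Nat.card {x : L // IsConj (k₀ : L) x} = K.index ∧ Nat.card C = Nat.card K := by
    have hC0 : 0 < Nat.card C := Nat.card_pos
    constructor
    · refine le_antisymm hle ?_
      by_contra! hlt
      have := Nat.mul_le_mul (Nat.succ_le_of_lt hlt) hCle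
      rw [Nat.succ_mul, hcl] at this
      omega
    · refine le_antisymm hCle ?_
      refine Nat.le_of_mul_le_mul_left ?_ he0
      rw [← hcl]
      exact Nat.mul_le_mul_right _ hle
  have hbij : Function.Bijective f := hf.bijective_of_nat_card_le (by rw [hcne, hsize.1])
  have hall : ∀ k ∈ K, k ≠ 1 → IsConj (k₀ : L) k := fun k hk hk' => by
    obtain ⟨x, hx⟩ := hbij.2 ⟨⟨k, hk⟩, fun h => hk' (congrArg Subtype.val h)⟩
    have : x.1 = k := congrArg (fun z : {k : K // k ≠ 1} => ((z : K) : L)) hx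
    exact this ▸ x.2
  have hCeq : C = K := Subgroup.eq_of_le_of_card_ge hCK hsize.2.ge
  have hcen : ∀ k ∈ K, ∀ y ∈ K, y * k = k * y := by
    intro k hk y hy
    by_cases hk' : k = 1
    · simp [hk']
    obtain ⟨c, hc⟩ := isConj_iff.1 (hall k hk hk')
    have hy' : c⁻¹ * y * c ∈ C := by
      rw [hCeq]; simpa using Subgroup.Normal.conj_mem inferInstance y hy c⁻¹
    rw [hCdef, Subgroup.mem_centralizer_singleton_iff] at hy'
    rw [← hc]
    calc y * (c * k₀ * c⁻¹) = c * ((c⁻¹ * y * c) * k₀) * c⁻¹ := by group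
      _ = c * (k₀ * (c⁻¹ * y * c)) * c⁻¹ := by rw [hy']
      _ = _ := by group
  refine ⟨hone, p, hp, ⟨⟨fun a b => Subtype.ext (hcen b b.2 a a.2)⟩⟩, fun a ha => ?_⟩
  by_cases ha1 : a = 1
  · rw [ha1, one_pow]
  obtain ⟨c, hc⟩ := isConj_iff.1 (hall a ha ha1)
  rw [← hc, conj_pow, show (k₀ : L) ^ p = 1 by
    rw [← hk₀, ← Subgroup.coe_pow, pow_orderOf_eq_one, OneMemClass.coe_one], mul_one, mul_inv_cancel]

variable {G : Type u} [Group G] [Fintype G] {N H : Subgroup G} [(H.subgroupOf N).Normal]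
  (hHN : H ≤ N) (hTI : ∀ g ∉ N, ∀ t ∈ H, g * t * g⁻¹ ∈ H → t = 1)
  (hCN : ∀ k ∈ H.subgroupOf N, k ≠ 1 → Subgroup.centralizer ({k} : Set N) ≤ H.subgroupOf N)

include hHN hTI hCN in
/-- The dichotomy. -/
theorem dichotomy (hK : H.subgroupOf N ≠ ⊥) (htop : H.subgroupOf N ≠ ⊤) :
    ((Inflate.layer (H.subgroupOf N) ⊥).card = 1 ∧
        Nat.card (H.subgroupOf N) = (H.subgroupOf N).index + 1 ∧
        ∃ p : ℕ, p.Prime ∧ Cfsg.IsElementaryAbelian p (H.subgroupOf N)) ∨
      ((∃ m : ℕ, Nat.card (H.subgroupOf N) = 2 ^ m) ∧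
        (¬ ∀ a ∈ H.subgroupOf N, ∀ b ∈ H.subgroupOf N, a * b = b * a) ∧
        ((H.subgroupOf N).lowerCentralSeries 1).relIndex (H.subgroupOf N) ≤
          4 * (H.subgroupOf N).index ^ 2 + 1) ∨
      Cfsg.IsCoherent (↑(Inflate.layer (H.subgroupOf N) ⊥) : Set (N → ℂ)) {1}ᶜ
        (Cfsg.indFun N) := by
  set K := H.subgroupOf N with hKdef
  have he0 : 0 < K.index := Nat.pos_of_ne_zero Subgroup.index_ne_zero_of_finite
  by_cases hcard : Nat.card K = K.index + 1
  · obtain ⟨h1, h2⟩ := of_card_eq hCN hK hcard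
    exact Or.inl ⟨h1, hcard, h2⟩
  have hcrit := FeitCoherence.coherent_of_criterion hCN (SibleyOdd.ind_isometry hTI hCN)
    (fun a ha => FrobeniusTI.indFun_one_eq_zero (Inner.mem_zspanOn_one.1 ha).2) hK htop
  by_cases hab : ∀ a ∈ K, ∀ b ∈ K, a * b = b * a
  · refine Or.inr (Or.inr (hcrit (Or.inl ⟨hab, ?_⟩)))
    have h1 := Layers.relIndex_modEq hCN ⊥ bot_le
    rw [Subgroup.relIndex_bot_left] at h1
    obtain ⟨k, hk⟩ := (Nat.modEq_iff_dvd' Nat.card_pos).1 h1.symm
    have h2 : Nat.card K ≠ 1 := fun h => hK (Subgroup.card_eq_one.1 h)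
    have h3 : 0 < Nat.card K := Nat.card_pos
    have hk2 : 2 ≤ k := by
      by_contra hlt
      rcases (show k = 0 ∨ k = 1 by omega) with rfl | rfl
      · rw [mul_zero] at hk; omega
      · rw [mul_one] at hk; omega
    have := Nat.mul_le_mul_left K.index hk2
    omega
  have he2 : 2 ≤ K.index := by
    have : K.index ≠ 1 := fun h => htop (Subgroup.index_eq_one.1 h)
    omega
  by_cases hpp : ∃ p a : ℕ, p.Prime ∧ Nat.card K = p ^ a
  swap
  · exact Or.inr (Or.inr (hcrit (Or.inr (Or.inl ⟨he2, hpp⟩))))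
  by_cases hbig : 4 * K.index ^ 2 + 1 < (K.lowerCentralSeries 1).relIndex K
  · exact Or.inr (Or.inr (hcrit (Or.inr (Or.inr hbig))))
  obtain ⟨p, a, hp, ha⟩ := hpp
  rcases eq_or_ne p 2 with rfl | hp2
  · exact Or.inr (Or.inl ⟨⟨a, ha⟩, hab, not_lt.1 hbig⟩)
  refine Or.inr (Or.inr (SibleyOdd.coherent_odd hHN hTI hCN ?_ hK htop))
  rw [← K.index_mul_card, Nat.odd_mul, ha]
  exact ⟨Nat.not_even_iff_odd.1 fun h => hab (comm_of_even_index hCN h.two_dvd),
    (hp.odd_of_ne_two hp2).pow⟩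

end Cfsg.Agent.Lib.Isometry.TINilpotent
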